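import Cfsg.Agent.H27.FD2b
import Cfsg.Agent.H16.TV
/-! `H27.fd2 : H26.FD2'`: a line centralizing a point normalizes the lines through it, so all `U(x)` commute. -/
set_option autoImplicit false
set_option linter.unusedSectionVars false
namespace H27.FD
open Cfsg Subgroup H26 H4 H118 H27.FM H6.FD
open scoped Pointwise commutatorElement
universe u

local notation "𝐉" => thompsonSubgroupOf 2

variable {G : Type u} [Group G] [Finite G] {S V W A B Y l m : Subgroup G} {P : Set (Subgroup G)} {z a g t u w y p q : G}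

theorem four_two (h : Four W) : ∃ i ∈ W, ∃ j ∈ W, i ≠ 1 ∧ j ≠ 1 ∧ i ≠ j := by
  obtain ⟨i, hi, i1⟩ := (bot_or_exists_ne_one W).resolve_left h.ne_bot
  obtain ⟨j, hj, j1⟩ := SetLike.not_le_iff_exists.1 (show ¬ W ≤ zpowers i from fun e => by
    have := card_le_of_le e
    rw [h.card, card_two (h.sq i hi) i1] at this
    omega)
  exact ⟨i, hi, j, hj, i1, fun e => j1 (e ▸ one_mem _), fun e => j1 (e ▸ mem_zpowers _)⟩

theorem ix_card (h : Ix2 B A) : Nat.card A ≤ 2 * Nat.card ↥(A ⊓ B) := by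
  rw [← card_mul_relIndex B A, inf_comm, mul_comm]
  exact Nat.mul_le_mul_right _ h.relIndex_le

theorem ix_c (u2 : u * u = 1) (h1 : u ∈ 𝐂 A) (h : ∀ v ∈ A, ⁅t, v⁆ ∈ zpowers u) : Ix2 (𝐂 (zpowers t)) A :=
  fun a ha b hb a1 b1 => cz_symm (mem_cz.2 (by
    rw [commutatorElement_mul_right_eq_mul_conj, (mem_two u2 (h a ha)).resolve_left fun e => a1 (cz_symm (mem_cz.2 e)),
      (mem_two u2 (h b hb)).resolve_left fun e => b1 (cz_symm (mem_cz.2 e)), mul_assoc, mul_assoc, ← mul_assoc a,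
      mem_centralizer_iff.1 h1 a ha, mul_assoc u a, mul_inv_cancel, mul_one, u2]))

def Rz (V : Subgroup G) (z p q : G) : Prop :=
  (∃ g, g * z * g⁻¹ = p) ∧ (∃ g, g * z * g⁻¹ = q) ∧ ∃ l, Ln V l ∧ p ∈ l ∧ q ∈ l

theorem Rz.symm (p q : G) (h : Rz V z p q) : Rz V z q p :=
  let ⟨a, b, l, c, d, e⟩ := h; ⟨b, a, l, c, e, d⟩

theorem Rz.cj (h : Rz V z p q) (g : G) : Rz V z (g * p * g⁻¹) (g * q * g⁻¹) := by
  obtain ⟨⟨a, rfl⟩, ⟨b, rfl⟩, l, c, d, e⟩ := h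
  exact ⟨⟨g * a, by group⟩, ⟨g * b, by group⟩, _, c.cj g, conj_mem_cj g d, conj_mem_cj g e⟩

theorem nr_cj {n : ℕ} (h : Nr (Rz V z) n p q) (g : G) : Nr (Rz V z) n (g * p * g⁻¹) (g * q * g⁻¹) := by
  induction h with
  | one h => exact .one (h.cj g)
  | succ _ h' ih => exact .succ ih (h'.cj g)

theorem nr_right {n : ℕ} (h : Nr (Rz V z) n p q) : ∃ g, g * z * g⁻¹ = q := by
  cases h with
  | one h => exact h.2.1
  | succ _ h => exact h.2.1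

namespace D2
variable (h : D2 S V P z)
include h

theorem c4 (h1 : Y ≤ V) (h2 : Nat.card V ≤ 4 * Nat.card Y) : 𝐂 Y ≤ 𝐍 V := by
  have key : ∀ W ∈ P, Y ⊓ pp V W ≠ ⊥ → 𝐂 Y ≤ 𝐍 V := fun W hW e =>
    let ⟨_, a, b⟩ := (bot_or_exists_ne_one _).resolve_left e
    (centralizer_anti (zpowers_le.2 a.1)).trans (h.cM' hW (h1 a.1) b a.2)
  obtain ⟨W, hW⟩ := h.exP
  obtain ⟨W', hW', ne⟩ := h.two W hW
  by_contra k
  have e := not_not.1 (mt (key W hW) k)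
  have e' := not_not.1 (mt (key W' hW') k)
  have d : ∀ W ∈ P, Y ⊓ pp V W = ⊥ → ∀ v ∈ Y, v ≠ 1 → v ∉ pp V W := fun W _ e v a b c => b (eq_bot_iff.1 e ⟨a, c⟩)
  have c1 := card_disj (X := Y) (Y := V ⊓ pp V W) (h1.trans (h.Vc.trans (centralizer_anti inf_le_left)))
    (by rw [← inf_assoc, inf_eq_left.2 h1, e])
  have c2 := card_le_of_le (show Y ⊔ V ⊓ pp V W ≤ V from sup_le h1 inf_le_left)
  have c3 := h.card_pp hW
  have c4 := card_le_of_le (le_inf (h.pl.le W' hW') (h.le_pp hW hW' ne))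
  rw [(h.pl.four W' hW').card] at c4
  have c5 : Nat.card Y ≤ 4 := by
    rw [c1, ← c3] at c2
    exact Nat.le_of_mul_le_mul_right c2 (by omega)
  have c16 : Nat.card V = 16 := by omega
  have f : Four Y := ⟨by omega, fun v hv => h.sq (h1 hv)⟩
  obtain ⟨s, hs, s1, s2⟩ := h.exs hW hW' ne c16
  obtain ⟨i, hi, j, hj, i1, j1, ij⟩ := four_two f
  have k1 : i * j ≠ 1 := fun e => ij (by rw [← mul_right_inj i, f.sq i hi, e])
  obtain ⟨a, ha, c, hc, rfl⟩ := h.dec hW (h1 hi)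
  obtain ⟨a', ha', c', hc', rfl⟩ := h.dec hW (h1 hj)
  have m1 := h.pp_eq hW hW' ne c16 ▸ hc
  have m2 := h.pp_eq hW hW' ne c16 ▸ hc'
  have m3 : a * c * (a' * c') = a * a' * (c * c') := by
    rw [mul_assoc, ← mul_assoc c, mem_centralizer_iff.1 (h.Vc (h.pl.le W hW ha')) c hc.1]; group
  have p := h.le_pp hW' hW ne.symm
  obtain ⟨x, hx, x1, x2⟩ := h.two_trans hW' (s1 ▸ conj_mem_cj s ha) (conj_ne_one s fun k => d W hW e _ hi i1 (by
    simpa [k] using hc.2)) (s1 ▸ conj_mem_cj s ha') (conj_ne_one s fun k => d W hW e _ hj j1 (by simpa [k] using hc'.2))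
    (fun k => d W hW e _ (mul_mem hi hj) k1 (by
      rw [mul_left_inj, mul_right_inj] at k
      rw [m3, k, h.sq (h.pl.le W hW ha'), one_mul]; exact mul_mem hc.2 hc'.2))
    m1 (fun k => d W' hW' e' _ hi i1 (by simpa [k] using p ha)) m2 (fun k => d W' hW' e' _ hj j1 (by simpa [k] using p ha'))
    fun k => d W' hW' e' _ (mul_mem hi hj) k1 (by rw [m3, k, h.sq hc'.1, mul_one]; exact mul_mem (p ha) (p ha'))
  have x3 := mem_centralizer_iff'.1 (h.pl.cent W' hW' W hW ne.symm hx)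
  have y1 := conj_mem_cj x (h.memI hW hW' ne c16 hs s1 s2 ha)
  have y2 := conj_mem_cj x (h.memI hW hW' ne c16 hs s1 s2 ha')
  rw [← conj_mul, x3 _ ha, x1] at y1
  rw [← conj_mul, x3 _ ha', x2] at y2
  have := eq_of_le_of_card_ge (show Y ≤ cj x (V ⊓ 𝐂 (zpowers s)) from fun v hv => by
    rcases four_cases f hi hj i1 j1 ij hv with rfl | rfl | rfl | rfl
    exacts [one_mem _, y1, y2, mul_mem y1 y2]) (by rw [card_cj, h.cardI hW hW' ne c16 hs s1 s2, f.card])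
  exact k (by
    rw [this, ← cj_centralizer]; exact cj_le_of_mem (h.cI hW hW' ne c16 hs s1 s2 H118.fl) hx.1)

theorem hyp (h1 : Ix2 (𝐂 (zpowers t)) V) : t ∈ 𝐍 V ∧ ∀ W ∈ P, t ∈ 𝐍 W := by
  have n := h.c4 inf_le_left ((ix_card h1).trans (Nat.mul_le_mul_right _ (by norm_num)))
    (le_centralizer_iff.1 inf_le_right (mem_zpowers t))
  refine ⟨n, fun W hW => ?_⟩
  have f := h.pl.four W hW
  obtain ⟨i, hi, j, hj, i1, j1, ij⟩ := four_two f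
  have k : ∀ a ∈ W, a ≠ 1 → a ∈ 𝐂 (zpowers t) → t ∈ 𝐍 W := fun a ha a1 c =>
    h.nW hW n ha a1 ((conj_eq_of_mem_c (cz_symm c)).symm ▸ ha)
  by_contra e
  exact e (k _ (mul_mem hi hj) (fun e => ij (by rw [← mul_right_inj i, f.sq i hi, e]))
    (h1 i (h.pl.le W hW hi) j (h.pl.le W hW hj) (mt (k i hi i1) e) (mt (k j hj j1) e)))

theorem tvx (b1 : B ≤ V) (b2 : Ix2 B V) (y1 : y * y = 1) (y2 : y ∉ V) (y3 : y ∈ 𝐂 V) (t1 : ∀ b ∈ B, ⁅t, b⁆ ∈ zpowers y)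
    (t2 : t ∉ 𝐂 V) : ∃ a ∈ V, ⁅t, a⁆ ≠ 1 ∧ ∀ c ∈ 𝐂 (zpowers ⁅t, a⁆), ⁅c, a⁆ ∈ zpowers ⁅t, a⁆ := by
  have c1 := ix_card b2
  have c2 := ix_card (ix_c y1 (centralizer_anti b1 y3) t1)
  rw [inf_eq_right.2 b1] at c1
  have n := h.c4 (Y := B ⊓ 𝐂 (zpowers t)) (inf_le_left.trans b1) (by omega)
    (le_centralizer_iff.1 inf_le_right (mem_zpowers t))
  have c : B ≤ 𝐂 (zpowers t) := fun b hb => cz_symm (mem_cz.2
    ((mem_two y1 (t1 b hb)).resolve_right fun e => y2 (e ▸ cm_n n (b1 hb))))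
  have k := (h.hyp (t := t) fun a ha b hb a1 b1 => c (b2 a ha b hb (mt (@c a) a1) (mt (@c b) b1))).2
  by_contra e
  refine t2 (le_centralizer_iff.1 (h.pl.span.trans (sSup_le fun W hW a ha => cz_symm (mem_cz.2 ?_))) (mem_zpowers t))
  by_contra j
  obtain ⟨W', hW', ne⟩ := h.two W hW
  have u1 := cm_n (k W hW) ha
  refine e ⟨a, h.pl.le W hW ha, j, fun c hc => cm_inv ((h.pl.four W hW).commutator_le_of_card (zpowers_le.2 u1)
    (card_two (h.sq (h.pl.le W hW u1)) j) (zpowers_le.2 (h.nW hW (h.cM' hW' (h.pl.le W hW u1) j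
      (h.le_pp hW' hW ne.symm u1) hc) u1 j ((conj_eq_of_mem_c hc).symm ▸ u1))) (zpowers_le.2 (c_n hc))
    (commutator_mem_commutator ha (mem_zpowers c)))⟩

theorem tvl (hl : Ln V l) (b1 : B ≤ l) (b2 : Ix2 B l) (y1 : y * y = 1) (y2 : y ∉ l) (y3 : y ∈ 𝐂 l)
    (t1 : ∀ b ∈ B, ⁅t, b⁆ ∈ zpowers y) (t2 : t ∉ 𝐂 l) :
    ∃ a ∈ l, ⁅t, a⁆ ≠ 1 ∧ ∀ c ∈ 𝐂 (zpowers ⁅t, a⁆), ⁅c, a⁆ ∈ zpowers ⁅t, a⁆ := by
  obtain ⟨g, rfl⟩ := hl
  obtain ⟨B, rfl⟩ : ∃ B', cj g B' = B := ⟨_, cj_cj_inv g B⟩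
  obtain ⟨t, rfl⟩ : ∃ t', g * t' * g⁻¹ = t := ⟨g⁻¹ * t * g, by group⟩
  obtain ⟨y, rfl⟩ : ∃ t', g * t' * g⁻¹ = y := ⟨g⁻¹ * y * g, by group⟩
  rw [← cj_centralizer, conj_mem_cj_iff] at y3 t2
  obtain ⟨a, ha, a1, a2⟩ := h.tvx (t := t) (y := y) (cj_le_cj_iff.1 b1) (fun a ha b hb a1 b1 => by
    simpa only [conj_mul, conj_mem_cj_iff] using
      b2 _ (conj_mem_cj g ha) _ (conj_mem_cj g hb) (mt conj_mem_cj_iff.1 a1) (mt conj_mem_cj_iff.1 b1))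
    (by simpa [conj_mul] using y1) (mt (conj_mem_cj g) y2) y3 (fun b hb => by
      simpa only [← conjugate_commutatorElement, ← cj_zpowers, conj_mem_cj_iff] using t1 _ (conj_mem_cj g hb)) t2
  refine ⟨_, conj_mem_cj g ha, conjugate_commutatorElement t a g ▸ conj_ne_one g a1, fun c hc => ?_⟩
  obtain ⟨c, rfl⟩ : ∃ t', g * t' * g⁻¹ = c := ⟨g⁻¹ * c * g, by group⟩
  simp only [← conjugate_commutatorElement, ← cj_zpowers, ← cj_centralizer, conj_mem_cj_iff] at hc ⊢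
  exact a2 c hc

theorem exw : ∃ w ∈ V, good V P z w ∧ ⁅zpowers w, S⁆ ≤ zpowers z ∧ 𝐂 (zpowers z) ⊓ commStab {w} (zpowers z) ≤ 𝐍 V := by
  have zn : S ≤ 𝐍 (zpowers z) := le_normalizer_of_le_centralizer h.Sz
  obtain ⟨M, m1, ⟨m2, m3⟩, m4⟩ := exists_minimal_le (Q := fun M => zpowers z < M ∧ S ≤ 𝐍 M) V
    ⟨lt_of_le_of_ne (zpowers_le.2 h.zV) (h.zeq ▸ h.fr.oz_ne), h.fr.le⟩
  have m5 : ⁅M, S⁆ ≤ zpowers z := by
    have k := commutator_sup_lt (h.hV.to_le m1) h.fr.isP m3 (le_normalizer_of_le_centralizer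
      (m1.trans (h.Vc.trans (centralizer_anti (zpowers_le.2 h.zV))))) zn m2
    by_contra e
    exact k.ne (m4 _ k.le ⟨lt_of_le_of_ne le_sup_right fun j => e (j ▸ le_sup_left),
      le_normalizer_of_commutator_le' le_sup_left k.le⟩)
  obtain ⟨w, w1, w2⟩ := SetLike.exists_of_lt m2
  have w3 : ∀ s ∈ S, ⁅s, w⁆ ∈ zpowers z := fun s hs => cm_inv (m5 (commutator_mem_commutator w1 hs))
  have gd : good V P z w := h.good_of (m1 w1) fun W hW t t1 t2 => by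
    obtain ⟨W', hW', ne⟩ := h.two W hW
    rw [conj_eq, (mem_two (h.sq h.zV) (w3 t (thompsonOf_le 2 S t1))).resolve_right fun e =>
      h.full' h.zoz h.z1 hW' (h.le_pp hW' hW ne.symm (e ▸ t2.2.2 w (m1 w1))), one_mul]
  have c := h.cM0 (m1 w1) gd (fun e => w2 (e ▸ one_mem _)) fun e => w2 (e ▸ mem_zpowers _)
  refine ⟨w, m1 w1, gd, (commutator_mono (zpowers_le.2 w1) le_rfl).trans m5, fun t ht => ?_⟩
  rcases mem_two (h.sq h.zV) (ht.2.2 w rfl) with e | e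
  · exact c (mem_cz.2 e)
  obtain ⟨s, hs, s1⟩ := SetLike.not_le_iff_exists.1 (show ¬ S ≤ 𝐂 (zpowers w) from fun k =>
    w2 (h.zeq ▸ h.fr.inf_c h.hV ▸ ⟨m1 w1, le_centralizer_iff.1 k (mem_zpowers w)⟩))
  refine (mul_mem_cancel_left (inv_mem (h.fr.le hs))).1 (c (mem_c_of_conj_eq ?_))
  rw [show s⁻¹ * t * w * (s⁻¹ * t)⁻¹ = s⁻¹ * (t * w * t⁻¹) * s by group, conj_eq, e,
    ← (mem_two (h.sq h.zV) (w3 s hs)).resolve_left (mt mem_cz.2 s1), ← conj_eq]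
  group

theorem Up_ea (g : G) : IsElementaryAbelian 2 (Up V (g * z * g⁻¹)) := by
  rw [Up, sSup_eq_iSup']
  exact elemAb_iSup (fun ⟨_, ⟨x, e⟩, _⟩ => e ▸ elemAb_cj (h.fr.ea h.hV) x) fun i j =>
    (i.2.1.le_Up i.2.2).trans ((h.Up_ab g).trans (centralizer_anti (j.2.1.le_Up j.2.2)))

theorem lnT (hl : Ln V l) (h1 : l ≤ 𝐂 (zpowers z)) (hq : ⁅Up V z, l⁆ ≤ 𝐂 l) : l ≤ 𝐍 V := by
  obtain ⟨w, w1, w2, w3, w4⟩ := h.exw
  have VU : V ≤ Up V z := (Ln.self V).le_Up h.zV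
  have ab : Up V z ≤ 𝐂 (Up V z) := h.Up_z ▸ h.ab
  have su : ∀ u ∈ Up V z, u * u = 1 := fun u hu => pow_two u ▸ (h.Up_ea 1).2 u (by simpa using hu)
  have u1 : ncl (zpowers w) (𝐂 (zpowers z)) ≤ Up V z := ncl_le (zpowers_le.2 (VU w1)) (c_le_n_Up V z)
  have u2 := le_normalizer_ncl (zpowers w) (𝐂 (zpowers z))
  have zn := centralizer_le_normalizer (zpowers z : Set G)
  have uz := ab.trans (centralizer_anti (zpowers_le.2 (VU h.zV)))
  have sq : ∀ a ∈ l, a * a = 1 := let ⟨g, e⟩ := hl; e ▸ fun a ha => pow_two a ▸ (elemAb_cj (h.fr.ea h.hV) g).2 a ha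
  have red : RedM (𝐂 (zpowers z)) (𝐂 (zpowers z) ⊓ commStab (ncl (zpowers w) (𝐂 (zpowers z)) : Set G) (zpowers z)) :=
    fun K hK hn hO => le_inf hK (le_commStab_iff.2 ⟨hK.trans zn, commutator_comm _ K ▸ commutator_ncl_le
      (commutator_comm K _ ▸ (le_commStab_iff.1 (((h.fH_eq ▸ h.fr.sylH).inf_of_normal hn hK).le_of_pResidualOf_le
        (hO.trans fun x hx => ⟨hx.2.1, fun a ha => hx.2.2 a (le_ncl _ _ ha)⟩) (inf_le_left.trans
          (le_commStab_iff.2 ⟨h.Sz.trans zn, commutator_comm _ S ▸ w3⟩)))).2)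
      hn zn ((zpowers_le.2 (VU w1)).trans (uz.trans zn))⟩)
  have fx : ∀ a ∈ 𝐂 (zpowers z), ∀ u ∈ Up V z, u * u = 1 → (∀ c ∈ 𝐂 (zpowers u), ⁅c, a⁆ ∈ zpowers u) →
      ncl (zpowers w) (𝐂 (zpowers z)) ≤ 𝐂 (zpowers a) := fun a ha u hu u2 k => ncl_le_iff.2 fun g hg => by
    obtain ⟨a, rfl⟩ : ∃ t', g * t' * g⁻¹ = a := ⟨g⁻¹ * a * g, by group⟩
    obtain ⟨u, rfl⟩ : ∃ t', g * t' * g⁻¹ = u := ⟨g⁻¹ * u * g, by group⟩
    rw [← cj_eq_of_mem hg, conj_mem_cj_iff] at ha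
    rw [← cj_eq_of_mem_normalizer (c_le_n_Up V z hg), conj_mem_cj_iff] at hu
    have := h.hyp (ix_c (t := a) (u := u) (by simpa [conj_mul] using u2) (centralizer_anti VU (ab hu)) fun v hv => cm_inv (by
      simpa only [← conjugate_commutatorElement, ← cj_zpowers, conj_mem_cj_iff] using k (g * v * g⁻¹) (by
        rw [← cj_zpowers, ← cj_centralizer]; exact conj_mem_cj g (centralizer_anti (zpowers_le.2 hu) (ab (VU hv))))))
    rw [← cj_zpowers, ← cj_centralizer, cj_le_cj_iff, zpowers_le]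
    exact cz_symm (mem_cz.2 (h.fix_good this.1 ha this.2 w1 w2))
  have w5 := le_ncl (zpowers w) (𝐂 (zpowers z)) (mem_zpowers w)
  generalize ncl (zpowers w) (𝐂 (zpowers z)) = U at *
  have n := le_normalizer_inf le_normalizer (le_normalizer_commStab u2 zn)
  have t1 : 𝐂 (zpowers z) ⊓ commStab (U : Set G) (zpowers z) ≤ 𝐂 (zpowers z) := inf_le_left
  have t2 : ∀ x ∈ 𝐂 (zpowers z), (∀ u ∈ U, ⁅x, u⁆ ∈ zpowers z) → x ∈ 𝐂 (zpowers z) ⊓ commStab (U : Set G) (zpowers z) :=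
    fun x a b => ⟨a, zn a, b⟩
  have t3 := (le_commStab_iff.1 (inf_le_right : 𝐂 (zpowers z) ⊓ commStab (U : Set G) (zpowers z) ≤ _)).2
  refine le_trans ?_ (show 𝐂 (zpowers z) ⊓ commStab (U : Set G) (zpowers z) ≤ _ from fun x hx =>
    w4 ⟨hx.1, hx.2.1, fun a ha => hx.2.2 a (ha ▸ w5)⟩)
  generalize 𝐂 (zpowers z) ⊓ commStab (U : Set G) (zpowers z) = T at *
  by_contra e
  obtain ⟨F, f1, f2, f3, f4⟩ := exists_odd (h.fH_eq ▸ h.fr.solH) n red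
  have sq' : ∀ a ∈ l, a * a ∈ T := fun a ha => (sq a ha).symm ▸ one_mem _
  obtain ⟨B, b1, -, b3, η, e1, e2, e3⟩ := dl (Y := commStab (l : Set G) T) (h1.trans n) (f1.trans n) (h1.trans f2) sq' f3
    (le_commStab_iff.2 ⟨le_normalizer, commutator_le_of_le_normalizer (h1.trans n)⟩)
    fun k => e (f4 l h1 sq' (le_commStab_iff.1 k).2)
  obtain ⟨a, ha, e4⟩ : ∃ a ∈ l, ⁅η, a⁆ ∉ T := by
    by_contra k
    push Not at k
    exact e2 ⟨n (f1 e1), k⟩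
  have n1 : zpowers η ≤ 𝐍 (U ⊓ commStab (↑(B ⊔ T) : Set G) (zpowers z)) := by
    have := zpowers_le.2 (f1 e1)
    refine le_normalizer_inf (this.trans u2) (le_normalizer_commStab (zpowers_le.2 (mem_normalizer_of_cj_le ?_))
      (this.trans zn))
    rw [cj_sup, cj_eq_of_mem_normalizer (n (f1 e1))]
    refine sup_le (fun x hx => ?_) le_sup_right
    obtain ⟨b, hb, rfl⟩ := mem_cj'.1 hx
    exact conj_eq η b ▸ mul_mem (mem_sup_right (e3 b hb)) (mem_sup_left hb)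
  have n2 : ⁅U, l⁆ ≤ U ⊓ commStab (↑(B ⊔ T) : Set G) (zpowers z) := by
    have := commutator_le_of_le_normalizer (h1.trans u2)
    refine le_inf this (le_commStab_iff.2 ⟨this.trans (u1.trans (uz.trans zn)), commutator_sup_le'
      ((commutator_eq_bot_iff'.2 (le_centralizer_iff.1 ((commutator_mono u1 le_rfl).trans
        (hq.trans (centralizer_anti b1))))).le.trans bot_le) ((commutator_mono this le_rfl).trans
        (commutator_comm T U ▸ t3)) (b1.trans (h1.trans zn)) (t1.trans zn)⟩)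
  have n3 : ∀ t ∈ U ⊓ commStab (↑(B ⊔ T) : Set G) (zpowers z), ∀ b ∈ B, ⁅t, b⁆ ∈ zpowers z := fun t ht b hb =>
    ht.2.2 b (mem_sup_left hb : b ∈ B ⊔ T)
  have n4 : U ⊓ commStab (↑(B ⊔ T) : Set G) (zpowers z) ≤ U := inf_le_left
  generalize U ⊓ commStab (↑(B ⊔ T) : Set G) (zpowers z) = C at *
  by_cases k : ∀ t ∈ C, ⁅a, t⁆ ∈ zpowers z
  · have d := cm_n (le_normalizer_inf (le_normalizer_commStab ((zpowers_le.2 (f1 e1)).trans u2) n1)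
      (le_normalizer_commStab n1 ((zpowers_le.2 (f1 e1)).trans zn)) (mem_zpowers η))
      (mem_inf.2 ⟨(le_commStab_iff' n4).2 n2 ha, zn (h1 ha), k⟩)
    have d1 := cm_inv (cm_n (f2 (h1 ha)) e1)
    exact e4 (f3.sq (f1.trans n) d1 (t2 _ (f1 (mul_mem d1 d1)) (sq_stab d.1.2 d.2.2 fun u hu => su u (u1 (n4 hu)))))
  push Not at k
  obtain ⟨t, ht, k⟩ := k
  have k1 : t ∉ 𝐂 l := fun j => k (cm_one (cm_c j ha) ▸ one_mem _)
  obtain ⟨a', a1, a2, a3⟩ := h.tvl hl b1 b3 (h.sq h.zV) (fun j => k1 (centralizer_anti (hl.le_Up j) (ab (u1 (n4 ht)))))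
    (le_centralizer_iff.1 h1 (mem_zpowers z)) (n3 t ht) k1
  have a4 := cm_inv (cm_n (c_le_n_Up V z (h1 a1)) (u1 (n4 ht)))
  exact a2 (mem_cz.1 (fx a' (h1 a1) _ a4 (su _ a4) a3 (n4 ht)))

theorem nl (r1 : ∃ g, g * z * g⁻¹ = p) (r2 : ∃ g, g * z * g⁻¹ = q) (h1 : Up V p ≤ 𝐂 (zpowers q))
    (h2 : Up V q ≤ 𝐂 (zpowers p)) (hl : Ln V l) (hp : p ∈ l) (hm : Ln V m) (hq : q ∈ m) : l ≤ 𝐍 m := by
  obtain ⟨k, rfl⟩ := r1
  have c := (commutator_mono le_rfl (hl.le_Up hp)).trans ((commutator_le_of_le_normalizer' (h2.trans (c_le_n_Up V _))).trans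
    ((h.Up_ab k).trans (centralizer_anti (hl.le_Up hp))))
  replace h1 := (hl.le_Up hp).trans h1
  obtain ⟨g, rfl⟩ := r2
  obtain ⟨x, rfl⟩ := hm
  obtain ⟨n, hn, e⟩ := h.pt (g := x⁻¹ * g) (by simpa [mul_assoc] using mem_cj.1 hq)
  have e1 : g * z * g⁻¹ = x * n * z * (x * n)⁻¹ := by
    rw [show x * n * z * (x * n)⁻¹ = x * (n * z * n⁻¹) * x⁻¹ by group, e]; group
  rw [← cj_eq_of_mem_normalizer hn, ← cj_mul]
  rw [e1, ← cj_cj_inv (x * n) l, ← cj_Up, ← cj_commutator, ← cj_centralizer, cj_le_cj_iff] at c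
  rw [e1, ← cj_zpowers, ← cj_centralizer, le_cj_iff] at h1
  rw [← cj_normalizer, le_cj_iff]
  exact h.lnT (hl.cj _) h1 c

theorem ln_comm (hl : Ln V l) (hm : Ln V m) (h1 : l ≤ 𝐍 m) (h2 : m ≤ 𝐍 l) : l ≤ 𝐂 m := by
  by_contra e
  obtain ⟨x, hx, x1⟩ := (bot_or_exists_ne_one _).resolve_left (mt commutator_eq_bot_iff'.1 e)
  have hx' := commutator_le_inf_of_le_normalizer h2 h1 hx
  obtain ⟨g, rfl⟩ := hm
  obtain ⟨k, rfl⟩ := hl
  refine e (cj_centralizer g V ▸ le_cj_iff.2 (cj_mul g⁻¹ k V ▸ h.meet (mem_cj.1 hx'.1) ?_ (mt conj_ne_one_aux x1)))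
  simpa [cj_mul] using conj_mem_cj g⁻¹ hx'.2

theorem false : False := by
  have zz : Rz V z z z := ⟨⟨1, by simp⟩, ⟨1, by simp⟩, V, Ln.self V, h.zV, h.zV⟩
  obtain ⟨p, q, a, ⟨p', ⟨-, r2, l, hl, l1, l2⟩, b⟩, q', ⟨-, r1, m, hm, m1, m2⟩, c⟩ := exists_min_pair (r := Rz V z)
    (c := fun p q => Up V p ≤ 𝐂 (Up V q)) Rz.symm (fun p q ⟨⟨g, e⟩, _⟩ => e ▸ h.Up_ab g) fun c => by
      let E : Subgroup G := ⨆ p : {p // ∃ n, Nr (Rz V z) n z p}, Up V p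
      have hE : IsElementaryAbelian 2 E := elemAb_iSup (fun ⟨p, n, e⟩ => let ⟨g, k⟩ := nr_right e; k ▸ h.Up_ea g)
        fun ⟨p, n, e⟩ ⟨q, k, e'⟩ => c _ _ _ ((e.symm Rz.symm).trans e')
      have hV : V ≤ E := ((Ln.self V).le_Up h.zV).trans (le_iSup_of_le ⟨z, 0, .one zz⟩ le_rfl)
      have key : ∀ g : G, g * z * g⁻¹ ∈ V → g ∈ 𝐍 E := fun g hg => mem_normalizer_of_cj_le (by
        rw [cj_iSup]
        refine iSup_le fun ⟨p, n, e⟩ => ?_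
        rw [cj_Up]
        exact le_iSup_of_le ⟨_, n + 1, Nr.cons ⟨zz.1, ⟨g, rfl⟩, V, Ln.self V, h.zV, hg⟩ (nr_cj e g)⟩ le_rfl)
      refine h.fr.nH (le_trans (fun g hg => key g ?_) (fr_uniq h.fr (elemAb_isPGroup hE)
        (fun e => h.fr.ne_bot (le_bot_iff.1 (e ▸ hV))) fun g hg => key g (conj_mem_of_mem_normalizer hg h.zV)))
      rw [conj_eq_of_mem_c (h.fH_eq ▸ hg)]; exact h.zV
  have b' := b.trans (centralizer_anti (zpowers_le.2 (hl.le_Up l1 l2)))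
  have c' := c.trans (centralizer_anti (zpowers_le.2 (hm.le_Up m1 m2)))
  exact a (Up_le fun l hl hp => le_centralizer_iff.1 (Up_le fun m hm hq => h.ln_comm hm hl
    (h.nl r2 r1 c' b' hm hq hl hp) (h.nl r1 r2 b' c' hl hp hm hq)))

end D2

end H27.FD

open H26 H27.FD in
theorem H27.fd2.{u} : FD2'.{u} := fun G _ _ S V fr nB core ab hJ => by
  obtain ⟨P, pl⟩ := H16.tvs G S V fr (isP_of_le_core core) hJ
  obtain ⟨z, hz, z1⟩ := (Subgroup.bot_or_exists_ne_one _).resolve_left fr.oz_ne_bot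
  by_contra e
  refine D2.false ⟨fr, pl, isP_of_le_core core, nB, ab, fun W hW => by_contra fun k => e ?_, hz, z1⟩
  push Not at k
  rw [le_antisymm (pl.span.trans (sSup_le fun W' hW' => (k W' hW').ge)) (pl.le W hW), (pl.four W hW).card]
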