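import Cfsg.Agent.H27.FM3
import Cfsg.Agent.H9.Dihedral
/-! `H27.fm : H26.FM`: the amalgam of type `M₁₂` does not occur. -/
set_option autoImplicit false
set_option linter.unusedSectionVars false
namespace H27.FM
open Cfsg Subgroup H26 H4 H118
open scoped Pointwise commutatorElement

variable {G : Type*} [Group G] [Finite G] {S V l m : Subgroup G} {z p q r c d g t u v w x : G}

abbrev Aa (l : Subgroup G) (t : G) : Subgroup G := 𝐂 l ⊓ 𝐂 (zpowers t)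

theorem two_card {H K : Subgroup G} (h : H < K) : Nat.card H * 2 ≤ Nat.card K := by
  obtain ⟨n, hn⟩ := card_dvd_of_le h.le
  have := card_lt_of_lt h
  rw [hn] at this ⊢
  exact Nat.mul_le_mul_left _ (by by_contra e; interval_cases n <;> omega)

theorem conj_cz {a b g : G} (h : g * a * g⁻¹ ∈ 𝐂 (zpowers (g * b * g⁻¹))) : a ∈ 𝐂 (zpowers b) := by
  rwa [← cj_zpowers, ← cj_centralizer, conj_mem_cj_iff] at h

theorem cz_of {a b a' b' : G} (g : G) (h : a' ∈ 𝐂 (zpowers b')) (e1 : g * a * g⁻¹ = a') (e2 : g * b * g⁻¹ = b') :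
    a ∈ 𝐂 (zpowers b) := conj_cz (g := g) (e1 ▸ e2 ▸ h)

theorem fixpt (k : Ge S V z) (hl : Ln V l) {P : Subgroup G} (h1 : IsPGroup 2 P) (h2 : P ≤ 𝐍 l) :
    ∃ p q, Fl V l p q ∧ P ≤ 𝐂 (zpowers p) := by
  obtain ⟨p, ⟨a, b⟩, c⟩ := (bot_or_exists_ne_one _).resolve_left
    (inf_centralizer_ne_bot (k.ln_four hl).isP h1 h2 (k.ln_four hl).ne_bot)
  obtain ⟨q, f⟩ := exFl k hl a c
  exact ⟨p, q, f, le_centralizer_iff.1 (zpowers_le.2 b)⟩

theorem fixpt' (k : Ge S V z) (hl : Ln V l) (h1 : u * u = 1) (h2 : u ∈ 𝐍 l) :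
    ∃ p q, Fl V l p q ∧ u ∈ 𝐂 (zpowers p) :=
  let ⟨p, q, f, e⟩ := fixpt k hl (elemAb_isPGroup (elemAb_two_of_sq fun a ha => by
    rcases mem_two h1 ha with rfl | rfl; exacts [one_mul _, h1])) (zpowers_le.2 h2)
  ⟨p, q, f, e (mem_zpowers u)⟩

theorem np (k : Ge S V z) (hl : Ln V l) (h1 : v ∉ l) (h2 : 𝐂 (zpowers v) ≤ 𝐍 l) (g : G) : g * z * g⁻¹ ≠ v := fun e => by
  have h4 := k.ln_four (hl.cj g⁻¹)
  have n : S ≤ 𝐍 (cj g⁻¹ l) := k.S_le.trans (by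
    rw [← cj_normalizer, ← cj_le_iff, cj_centralizer, cj_zpowers, e]; exact h2)
  exact h1 (e ▸ by simpa using mem_cj.1 (zs k (k.syl.le_of_le_normalizer h4.isP le_top n) n h4.ne_bot))

namespace Mb
variable (h : Mb S V z) (f : Fl V l p q)
include h f

theorem nl (g1 : g ∈ 𝐂 (zpowers p)) (g2 : g ∈ 𝐂 (zpowers c)) (hc : c ∈ 𝐂 l) (h1 : ∀ u ∈ Up V p, u ∉ l → ⁅c, u⁆ ≠ 1) :
    g ∈ 𝐍 l := mem_normalizer_of_conj_mem fun a ha => by
  by_contra e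
  refine h1 _ (conj_mem_of_mem_normalizer (c_le_n_Up V p g1) (f.lU h.toGe ha)) e ?_
  rw [← conj_eq_of_mem_c g2, ← conjugate_commutatorElement, cm_c hc ha, mul_one, mul_inv_cancel]

theorem fixr (x1 : x ∈ 𝐂 (zpowers p)) (x2 : x ∈ 𝐍 l) (x3 : x ∈ 𝐂 (zpowers v)) (hv : v ∈ 𝐂 l) (hv' : v ∉ Tp V p) :
    x ∈ 𝐂 l := by
  obtain ⟨u, a, b⟩ := h.exU f
  refine f.genc h.toGe (h.oc f hv a) (mt (h.memT f (f.cc h.toGe hv) (centralizer_le_normalizer _ hv) a b) hv') x1 ?_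
  rw [commutatorElement_def, conjugate_commutatorElement, conj_eq_of_mem_c x3, h.sig f hv
    (conj_mem_of_mem_normalizer (c_le_n_Up V p x1) a) (mt (mem_normalizer_iff.1 x2 _).2 b) a b, mul_inv_cancel]

theorem isP : IsPGroup 2 ↥(𝐂 (zpowers p) ⊓ 𝐍 l) := isPGroup_iff_mem.2 fun x hx => ⟨3, by
  have k := h.toGe
  have e1 : x * x ∈ 𝐂 l := (em _).elim (fun e => mul_mem e e) fun e => f.mulc k hx.1 hx.2 e hx.1 hx.2 e
  have e2 : x * x * (x * x) ∈ l := h.memY f (mul_mem e1 e1) fun r a b u c d => by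
    obtain ⟨_, f'⟩ := exFl k f.ln a b
    rw [cmul e1 (h.oc f' e1 c), (f.four k).sq _ (h.oc f' e1 c)]
  rw [show 2 ^ 3 = 2 * 2 * 2 from rfl, pow_mul, pow_mul, pow_two, pow_two, pow_two, (f.four k).sq _ e2]⟩

theorem final (h1 : ∀ g : G, ∃ r ∈ l, r ≠ 1 ∧ g * z * g⁻¹ ∈ 𝐂 (zpowers r)) : False := by
  have k := h.toGe
  have h2 : ∀ m, Ln V m → ∀ g : G, ∃ r ∈ m, r ≠ 1 ∧ g * z * g⁻¹ ∈ 𝐂 (zpowers r) := fun m ⟨a, ha⟩ g => by
    obtain ⟨b, rfl⟩ := f.ln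
    obtain ⟨r, r1, r2, r3⟩ := h1 (b * a⁻¹ * g)
    refine ⟨a * b⁻¹ * r * (a * b⁻¹)⁻¹, ?_, conj_ne_one _ r2, cz_of (b * a⁻¹) r3 (by group) (by group)⟩
    rw [← ha, ← cj_inv_cj b V, ← cj_mul]; exact conj_mem_cj _ r1
  obtain ⟨y, f0⟩ := exFl k (Ln.self V) h.zV h.z1
  obtain ⟨m, u, -, f1, -, -, ne, -⟩ := h.exm f0
  have h3 : ∀ g : G, g * z * g⁻¹ ∈ 𝐂 (zpowers z) := fun g => by
    by_contra e
    obtain ⟨a, a1, a2, a3⟩ := h2 V f0.ln g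
    obtain ⟨b, b1, b2, b3⟩ := h2 m f1.ln g
    have a4 : z ≠ a := fun j => e (j ▸ a3)
    have b4 : z ≠ b := fun j => e (j ▸ b3)
    have key : ∀ l m y u a b, Fl V l z y → Fl V m z u → l ≠ m → a ∈ l → a ≠ 1 → z ≠ a → b ∈ m → b ≠ 1 → z ≠ b →
        g * z * g⁻¹ ∈ 𝐂 (zpowers a) → g * z * g⁻¹ ∈ 𝐂 (zpowers b) → g * z * g⁻¹ ∈ 𝐍 l :=
      fun l m y u a b f0 f1 ne a1 a2 a4 b1 b2 b4 a3 b3 => by
        have f2 : Fl V l z a := ⟨f0.ln, f0.pl, a1, f0.p1, a2, a4⟩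
        exact h.nl f2.symm a3 b3 (f0.Uc k (f1.lU k b1)) fun v v1 v2 => h.g2 f2 (f1.lU k b1)
          (fun j => ((f0.memZ k).1 (f0.inf_le k f1 ne j b1)).elim b2 b4.symm) v1 v2 ▸ (f2.rot k).q1
    have n1 := key _ _ _ _ _ _ f0 f1 ne a1 a2 a4 b1 b2 b4 a3 b3
    have n2 := key _ _ _ _ _ _ f1 f0 ne.symm b1 b2 b4 a1 a2 a4 b3 a3
    exact e (mem_c_of_conj_eq (((f0.memZ k).1 (f0.inf_le k f1 ne (conj_mem_of_mem_normalizer n1 f0.pl)
      (conj_mem_of_mem_normalizer n2 f1.pl))).resolve_left (conj_ne_one _ h.z1)))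
  have hE : IsElementaryAbelian 2 (ncl (zpowers z) ⊤) :=
    elemAb_iSup (fun g : (⊤ : Subgroup G) => elemAb_cj (h.zeq ▸ elemAb_oz S) (g : G)) fun a b => by
      rw [cj_zpowers, cj_zpowers, zpowers_le]
      exact cz_of (b : G)⁻¹ (h3 ((b : G)⁻¹ * a)) (by group) (by group)
  exact h.nH (le_top.trans ((le_normalizer_ncl _ _).trans (fr_uniq h.toFr (elemAb_isPGroup hE)
    (fun e => h.z1 (mem_bot.1 (e ▸ le_ncl _ _ (mem_zpowers z)))) (le_top.trans (le_normalizer_ncl _ _)))))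

variable (ht : Tt V l t)
include ht

theorem lA : l ≤ Aa l t := le_inf (f.four h.toGe).le_c (le_centralizer_iff.1 (zpowers_le.2 ht.c))
theorem tA : t ∈ Aa l t := ⟨ht.c, mem_cz.2 (commutatorElement_self t)⟩

theorem AT (hc : c ∈ Aa l t) (hc' : c ∈ Tp V p) : c ∈ l ∨ c * t ∈ l := by
  obtain ⟨u, a, b⟩ := h.exU f
  have e1 := ht.cm p f.pl f.p1 u a b
  refine ((f.memZ h.toGe).1 ((mem_Tp.1 hc').2 u a)).imp (h.ka f ht hc.1 (mem_cz.1 hc.2) a b) fun e => ?_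
  have c2 := mul_mem hc (h.tA f ht)
  exact h.ka f ht c2.1 (mem_cz.1 c2.2) a b (by rw [cmul hc.1 (e1.symm ▸ f.pl), e, e1, f.pp h.toGe])

theorem allT {p' q' : G} (f' : Fl V l p' q') (hc : c ∈ Aa l t) (hc' : c ∈ Tp V p) : c ∈ Tp V p' :=
  (h.AT f ht hc hc').elim (fun e => f'.lT h.toGe e) fun e => (mul_mem_cancel_right (h.tT f' ht)).1 (f'.lT h.toGe e)

theorem Aab : Aa l t ≤ 𝐂 (Aa l t) := by
  have k : ∀ c ∈ Aa l t, c ∈ Tp V p → c ∈ 𝐂 (Aa l t) := fun c a b => by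
    have l1 : l ≤ 𝐂 (Aa l t) := le_centralizer_iff.1 inf_le_left
    have l2 : t ∈ 𝐂 (Aa l t) := le_centralizer_iff.1 inf_le_right (mem_zpowers t)
    exact (h.AT f ht a b).elim (fun e => l1 e) fun e => (mul_mem_cancel_right l2).1 (l1 e)
  intro c hc
  by_cases e : c ∈ Tp V p
  · exact k c hc e
  refine mem_centralizer_iff.2 fun d hd => ?_
  by_cases e' : d ∈ Tp V p
  · exact (mem_centralizer_iff.1 (k d hd e') c hc).symm
  have b : ∀ c ∈ Aa l t, c ∈ Bf V p l := fun c a => h.bf f (f.cc h.toGe a.1) (centralizer_le_normalizer _ a.1)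
  have := mem_centralizer_iff.1 (k _ (mul_mem hd hc) (f.k3 h.toGe (b d hd) (b c hc) e' e)) d hd
  rwa [mul_assoc, mul_right_inj] at this

theorem nA : 𝐍 l ≤ 𝐍 (Aa l t) := fun g hg => mem_normalizer_of_conj_mem fun c hc =>
  ⟨conj_mem_of_mem_normalizer (normalizer_le_normalizer_centralizer l hg) hc.1, conj_cz (g := g⁻¹) (by
    rw [show g⁻¹ * (g * c * g⁻¹) * g⁻¹⁻¹ = c by group, conj_eq]
    exact cz_symm (mul_mem (cz_symm (mem_cz.2 (cm_c hc.1 (h.tn f ht (inv_mem hg))))) (cz_symm hc.2)))⟩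

theorem AP : IsPGroup 2 (Aa l t) :=
  (h.isP f).to_le (le_inf (inf_le_left.trans (f.cc h.toGe)) (inf_le_left.trans (centralizer_le_normalizer _)))

theorem An : 𝐍 (Aa l t) ≤ 𝐍 l :=
  h.uniq f.ln (h.AP f ht) (fun e => f.p1 (mem_bot.1 (e ▸ h.lA f ht f.pl))) (h.nA f ht)

theorem cA (hv : v ∈ Aa l t) (hv' : v ∉ l) (hc : c ∈ 𝐂 l) (hc' : c ∈ 𝐂 (zpowers v)) : c ∈ Aa l t := by
  obtain ⟨w, w1, w2, w3⟩ := h.adjg f ht (centralizer_le_normalizer _ hc)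
  have a : c * w ∈ Aa l t := ⟨mul_mem hc w1, mem_cz.2 w3⟩
  rcases w2 with rfl | ⟨r, r', f', b, b'⟩
  · simpa using a
  · have := (mul_mem_cancel_left hc').1 (centralizer_anti (zpowers_le.2 hv) (h.Aab f ht a))
    exact absurd (h.ka f' ht hv.1 (mem_cz.1 hv.2) b b' (cm_one (mem_cz.1 this))) hv'

theorem cm (hv : v ∈ Aa l t) (hv' : v ∉ l) (h1 : pCoreOf 2 (𝐂 (zpowers v)) ≤ 𝐂 l) : 𝐂 (zpowers v) ≤ 𝐍 l := by
  have a : pCoreOf 2 (𝐂 (zpowers v)) ≤ Aa l t := fun c hc => h.cA f ht hv hv' (h1 hc) (pCoreOf_le _ _ hc)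
  have b := fr_charP_c h.toFr ((h.AP f ht).to_le (zpowers_le.2 hv)) (by rintro e; rw [zpowers_eq_bot.1 e] at hv'; exact hv' (one_mem _))
  have c : Aa l t ≤ pCoreOf 2 (𝐂 (zpowers v)) := (le_inf ((h.Aab f ht).trans (centralizer_anti (zpowers_le.2 hv)))
    ((h.Aab f ht).trans (centralizer_anti a))).trans b
  exact (le_normalizer_pCoreOf 2 _).trans (le_antisymm a c ▸ h.An f ht)

theorem cr (hv : v ∈ Aa l t) (hv' : v ∉ Tp V p) : 𝐂 (zpowers v) ≤ 𝐍 l := by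
  have v1 : v ∉ l := fun e => hv' (f.lT h.toGe e)
  refine h.cm f ht hv v1 ((isSyl_of_normalizer (p := 2) (T := Aa l t) ⟨le_inf ((h.Aab f ht).trans
    (centralizer_anti (zpowers_le.2 hv))) le_normalizer, h.AP f ht, fun Q a _ c x hx => ?_⟩).pCoreOf_le.trans inf_le_left)
  have n := c.trans (inf_le_right.trans (h.An f ht))
  obtain ⟨r, r', f', e⟩ := fixpt h.toGe f.ln a n
  exact h.cA f ht hv v1 (h.fixr f' (e hx) (n hx) (c hx).1 hv.1 (mt (h.allT f' ht f hv) hv')) (c hx).1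

theorem ct : 𝐂 (zpowers t) ≤ 𝐍 l := by
  have k := h.toGe
  let T := (𝐂 (zpowers p) ⊓ 𝐍 l) ⊓ 𝐂 (zpowers t)
  have TP : IsPGroup 2 T := (h.isP f).to_le inf_le_left
  have AT : Aa l t ≤ T := le_inf (le_inf (inf_le_left.trans (f.cc k))
    (inf_le_left.trans (centralizer_le_normalizer _))) inf_le_right
  obtain ⟨s, s1, s2⟩ : ∃ s ∈ T, s ∉ 𝐂 l := by
    obtain ⟨s, s1, s2⟩ := h.exq f
    have s3 := Ge.Tp_le_n f.ln f.pl s1
    obtain ⟨w, w1, -, w3⟩ := h.adjg f ht s3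
    exact ⟨s * w, ⟨⟨mul_mem s1.1 (f.cc k w1), mul_mem s3 (centralizer_le_normalizer _ w1)⟩, mem_cz.2 w3⟩,
      mt (mul_mem_cancel_right w1).1 s2⟩
  have key : ∀ g ∈ 𝐍 T, g * p * g⁻¹ ∈ zpowers p := fun g hg => by
    by_cases e : Aa l t ≤ Tp V p
    · have c1 : ∀ a ∈ T, a ∈ 𝐂 l → ∀ b ∈ T, ⁅b, a⁆ ∈ zpowers p := fun a a1 a2 b b1 => by
        rcases h.AT f ht ⟨a2, a1.2⟩ (e ⟨a2, a1.2⟩) with j | j
        · exact f.fx k b1.1.1 b1.1.2 j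
        · rw [show a = a * t * t by rw [mul_assoc, ht.sq, mul_one]]
          exact cm_right (f.fx k b1.1.1 b1.1.2 j) (mem_cz.1 b1.2 ▸ one_mem _) (c_n (f.cc k ((f.four k).le_c j)))
      have c2 : ∀ a ∈ T, ∀ b ∈ T, ⁅b, a⁆ ∈ zpowers p := fun a a1 b b1 => by
        by_cases j : a ∈ 𝐂 l
        · exact c1 a a1 j b b1
        by_cases j' : b ∈ 𝐂 l
        · exact cm_inv (c1 b b1 j' a a1)
        have := c1 _ (mul_mem b1 a1) (f.mulc k b1.1.1 b1.1.2 j' a1.1.1 a1.1.2 j) b b1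
        rw [commutatorElement_mul_right_eq_mul_conj, commutatorElement_self, one_mul] at this
        exact (mem_normalizer_iff.1 (c_n b1.1.1) _).2 this
      have := c2 _ (conj_mem_of_mem_normalizer hg (AT (h.lA f ht f.ql))) _ (conj_mem_of_mem_normalizer hg s1)
      rwa [← conjugate_commutatorElement, f.swap k s1.1.1 s1.1.2 s2] at this
    have B1 : cj g (Aa l t) ≤ T := cj_le_of_mem_normalizer AT hg
    by_cases e' : cj g (Aa l t) ≤ 𝐂 l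
    · have g1 := h.An f ht (mem_normalizer_of_cj_le (le_inf e' (B1.trans inf_le_right)))
      by_contra j
      exact s2 (f.genc k (conj_mem_of_mem_normalizer g1 f.pl) j s1.1.1 (mem_cz.1 (cz_of g⁻¹
        (conj_mem_of_mem_normalizer (inv_mem hg) s1).1.1 rfl (by group))))
    obtain ⟨b, b1, b2⟩ := SetLike.not_le_iff_exists.1 e'
    have b3 : b ∈ 𝐂 (cj g (Aa l t)) := cj_centralizer g _ ▸ cj_mono g (h.Aab f ht) b1
    have c1 := card_mul_relIndex (𝐂 l) (cj g (Aa l t))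
    rw [(f.four k).relIndex_two (TP.to_le B1) (B1.trans (inf_le_left.trans inf_le_right)) e', card_cj] at c1
    have c2 : 𝐂 l ⊓ cj g (Aa l t) < Aa l t ⊓ Tp V p := lt_of_le_not_ge (fun c hc => ⟨⟨hc.1, (B1 hc.2).2⟩, by
      by_contra j
      exact b2 (h.fixr f (B1 b1).1.1 (B1 b1).1.2 (centralizer_anti (zpowers_le.2 hc.2) b3) hc.1 j)⟩)
      fun j => b2 (f.genc k f.ql (f.qZ k) (B1 b1).1.1 (cm_c b3 (j ⟨h.lA f ht f.ql, f.lT k f.ql⟩).2))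
    have c3 := two_card c2
    have c4 := card_lt_of_lt (inf_lt_left.2 e)
    omega
  have sy : IsSyl 2 T (𝐂 (zpowers t)) := isSyl_of_normalizer ⟨le_inf inf_le_right le_normalizer, TP, fun Q _ _ c g hg => by
    have g1 := mem_c_of_conj_eq (((f.memZ k).1 (key g (c hg).2)).resolve_left (conj_ne_one _ f.p1))
    exact ⟨⟨g1, h.nl f g1 (c hg).1 ht.c fun u a b => (ht.cm p f.pl f.p1 u a b).symm ▸ f.p1⟩, (c hg).1⟩⟩
  have o1 := sy.pCoreOf_le.trans (inf_le_left.trans inf_le_left)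
  obtain ⟨g, g1, g2⟩ := f.tr k f.symm
  obtain ⟨w, w1, -, w3⟩ := h.adjg f ht (cj_eq_iff.1 g1)
  refine h.cm f ht (h.tA f ht) (h.tl f ht) fun x hx => f.genc k f.ql (f.qZ k) (o1 hx) (mem_cz.1 (cz_of (g * w)⁻¹
    (o1 (conj_mem_of_mem_normalizer (le_normalizer_pCoreOf 2 _ (inv_mem (mem_cz.2 w3))) hx)) rfl ?_))
  rw [← g2, show (g * w)⁻¹ * (g * p * g⁻¹) * (g * w)⁻¹⁻¹ = w⁻¹ * p * w⁻¹⁻¹ by group]
  exact mem_centralizer_iff'.1 (inv_mem w1) p f.pl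

theorem cA' (hv : v ∈ Aa l t) (hv' : v ∉ l) : 𝐂 (zpowers v) ≤ 𝐍 l := by
  by_cases e : v ∈ Tp V p
  · exact h.ct f (h.tmul f ht ((h.AT f ht hv e).resolve_left hv'))
  · exact h.cr f ht hv e

/-- the case `|S| = 128` -/
theorem big : Aa l t ≤ Tp V p := fun r hr => by
  by_contra e
  have k := h.toGe
  have r1 : r ∉ l := fun j => e (f.lT k j)
  have r2 : r * r = 1 := by
    by_contra j
    obtain ⟨u, a, b⟩ := h.exU f
    have rr := mul_mem hr hr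
    have l1 : r * r ∈ l := h.ka f ht rr.1 (mem_cz.1 rr.2) a b (by
      rw [cmul hr.1 (h.oc f hr.1 a), (f.four k).sq _ (h.oc f hr.1 a)])
    obtain ⟨q', f'⟩ := exFl k f.ln l1 j
    obtain ⟨g, g1, g2⟩ := f'.tr k f'.symm
    replace g1 := cj_eq_iff.1 g1
    have s1 := conj_mem_of_mem_normalizer (h.nA f ht g1) hr
    have s2 : g * r * g⁻¹ ∉ Tp V p := fun i => by
      have f2 := f.cj g⁻¹
      rw [cj_eq_of_mem_normalizer (inv_mem g1)] at f2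
      refine e (h.allT f2 ht f hr ?_)
      rw [← cj_Tp, mem_cj, inv_inv]; exact i
    have b : ∀ c ∈ Aa l t, c ∈ Bf V p l := fun c a => h.bf f (f.cc k a.1) (centralizer_le_normalizer _ a.1)
    have s3 : g * r * g⁻¹ * r * (g * r * g⁻¹ * r) = 1 :=
      (h.AT f ht (mul_mem s1 hr) (f.k3 k (b _ s1) (b _ hr) s2 e)).elim ((f.four k).sq _) fun i => (h.tmul f ht i).sq
    rw [mul_assoc, ← mul_assoc r, mem_centralizer_iff.1 (h.Aab f ht s1) r hr, mul_assoc _ r r, ← mul_assoc, conj_mul, g2,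
      mul_eq_one_iff_eq_inv, inv_eq_of_mul_eq_one_right (f'.pp k)] at s3
    exact f'.ne s3.symm
  refine h.final f fun g => ?_
  have u2 : g * z * g⁻¹ * (g * z * g⁻¹) = 1 := by rw [conj_mul, h.zz, mul_one, mul_inv_cancel]
  rcases H9.isConj_or_exists_commute u2 r2 with j | ⟨v, v1, -, v2, v3⟩
  · obtain ⟨a, ha⟩ := isConj_iff.1 j
    exact absurd (by rw [← ha]; group) (np k f.ln r1 (h.cr f ht hr e) (a * g))
  have v4 : v * v = 1 := by rw [← pow_two, ← v1, pow_orderOf_eq_one]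
  have v5 : v ∈ 𝐂 (zpowers r) := mem_centralizer_zpowers.2 v3.eq.symm
  have v6 := h.cr f ht hr e v5
  have v7 := mem_centralizer_zpowers.2 v2.eq
  obtain ⟨p', q', f', v8⟩ := fixpt' k f.ln v4 v6
  have v9 := h.cA f ht hr r1 (h.fixr f' v8 v6 v5 hr.1 (mt (h.allT f' ht f hr) e)) v5
  by_cases j : v ∈ l
  · exact ⟨v, j, by rintro rfl; simp at v1, v7⟩
  · obtain ⟨a, b, f2, i⟩ := fixpt' k f.ln u2 (h.cA' f ht v9 j v7)
    exact ⟨a, f2.pl, f2.p1, i⟩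

theorem adjT (hc : c ∈ 𝐂 l) (hc' : c ∈ Tp V p) : ∃ w, (w = 1 ∨ w ∈ Up V p ∧ w ∉ l) ∧ c * w ∈ Aa l t := by
  obtain ⟨w, w1, w2, w3⟩ := h.adjg f ht (centralizer_le_normalizer _ hc)
  have a : c * w ∈ Aa l t := ⟨mul_mem hc w1, mem_cz.2 w3⟩
  refine ⟨w, w2.imp_right fun ⟨r, r', f', b, b'⟩ => ⟨?_, b'⟩, a⟩
  by_contra e
  exact b' (h.inT ⟨f.ln, f.pl, f'.pl, f.p1, f'.p1, fun j => e (j ▸ b)⟩ b ((mul_mem_cancel_left hc').1 (h.big f ht a)))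

theorem Tt' (hc : c ∈ Tp V p) : ⁅c, t⁆ ∈ zpowers p := by
  have k := h.toGe
  have a : ∀ c ∈ Tp V p, c ∈ 𝐂 l → ⁅c, t⁆ ∈ zpowers p := fun c c1 c2 => by
    obtain ⟨w, rfl | ⟨w1, w2⟩, w3⟩ := h.adjT f ht c2 c1
    · rw [mul_one] at w3; exact mem_cz.1 w3.2 ▸ one_mem _
    · rw [show c = c * w * w by rw [mul_assoc, k.Up_sq f.col w1, mul_one]]
      exact cm_left (mem_cz.1 w3.2 ▸ one_mem _) (cm_inv ((ht.cm p f.pl f.p1 w w1 w2).symm ▸ mem_zpowers p))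
        (c_n (f.cc k w3.1))
  by_cases e : c ∈ 𝐂 l
  · exact a c hc e
  obtain ⟨m, u, s, f', -, -, ne, hs, s1, s2, s3, -⟩ := h.exm f
  have c1 := mul_mem hc s1
  rw [show c = c * s * s by rw [mul_assoc, hs.sq, mul_one]]
  exact cm_left (a _ c1 (f.mulc k hc.1 (Ge.Tp_le_n f.ln f.pl hc) e s1.1 s2 s3)) (f.inf_le k f' ne (h.tn f ht s2)
    (cm_inv (h.tn f' hs (Ge.Tp_le_n f'.ln f'.pl (h.tT f ht))))) (c_n c1.1)

omit ht in
theorem invT (hv : v ∈ Tp V p) (v2 : v * v = 1) : v ∈ Up V p ∨ ∃ m u, Fl V m p u ∧ Tt V m v := by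
  have k := h.toGe
  obtain ⟨m, u, f', hm⟩ : ∃ m u, Fl V m p u ∧ v ∈ 𝐂 m := by
    obtain ⟨u, a, b⟩ := h.exU f
    have q1 := f.lU k f.ql
    have key : ∀ u ∈ Up V p, u ∉ zpowers p → ⁅v, u⁆ = 1 → ∃ m u, Fl V m p u ∧ v ∈ 𝐂 m := fun u a b c =>
      let ⟨m, f'⟩ := h.g3 f a b; ⟨m, u, f', f'.genc k f'.ql b hv.1 c⟩
    rcases (f.memZ k).1 ((mem_Tp.1 hv).2 q q1) with j | j
    · exact key q q1 (f.qZ k) j
    rcases (f.memZ k).1 ((mem_Tp.1 hv).2 u a) with j' | j'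
    · exact key u a (fun i => b (zpowers_le.2 f.pl i)) j'
    exact key _ (mul_mem q1 a) (fun i => b ((mul_mem_cancel_left f.ql).1 (zpowers_le.2 f.pl i)))
      (by rw [cmul' (f.Uc k q1) (j'.symm ▸ f.pl), j, j', f.pp k])
  obtain ⟨t, ht⟩ := h.exT f'
  obtain ⟨w, rfl | ⟨w1, w2⟩, w3⟩ := h.adjT f' ht hm hv
  · rw [mul_one] at w3
    exact (h.AT f' ht w3 hv).imp (fun j => f'.lU k j) fun j => ⟨m, u, f', h.tmul f' ht j⟩
  rcases h.AT f' ht w3 (h.big f' ht w3) with j | j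
  · exact Or.inl ((mul_mem_cancel_right w1).1 (f'.lU k j))
  have t2 := h.tmul f' ht j
  have := t2.cm p f'.pl f'.p1 w w1 w2
  rw [cmul hm (by simp), commutatorElement_self, one_mul] at this
  have e : ⁅v, w⁆ = v * w * (v * w) := by
    rw [commutatorElement_def, inv_eq_of_mul_eq_one_right v2, inv_eq_of_mul_eq_one_right (k.Up_sq f.col w1), mul_assoc]
  exact absurd (this.symm.trans (e.trans t2.sq)) f.p1

theorem invC (hv : v ∈ 𝐂 (zpowers t)) (v2 : v * v = 1) : v ∈ l ∨ ∃ m r u, r ∈ l ∧ Fl V m r u ∧ Tt V m v := by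
  have k := h.toGe
  have v1 := h.ct f ht hv
  obtain ⟨p, q, f, v3⟩ := fixpt' k f.ln v2 v1
  have v4 : v ∈ Tp V p := by
    by_contra e
    obtain ⟨a, a1, a2⟩ := h.exU f.symm
    have := h.Tt' f ht (f.k3 k (h.bf f v3 v1) (h.UB f a1) e (mt (h.inT f a1) a2))
    rw [commutatorElement_mul_left_eq_conj_mul, mem_cz.1 hv, mul_one, ← mem_normalizer_iff.1 (c_n v3),
      ← commutatorElement_inv, ht.cm q f.ql f.q1 a a1 a2, inv_mem_iff] at this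
    exact f.qZ k this
  refine (h.invT f v4 v2).imp (fun j => ?_) fun ⟨m, u, a, b⟩ => ⟨m, p, u, f.pl, a, b⟩
  by_contra e
  exact f.p1 ((ht.cm p f.pl f.p1 v j e).symm.trans (cm_one (mem_cz.1 hv)))

theorem ptC (hv : g * z * g⁻¹ ∈ 𝐂 (zpowers t)) : g * z * g⁻¹ ∈ l :=
  (h.invC f ht hv (by rw [conj_mul, h.zz, mul_one, mul_inv_cancel])).resolve_right fun ⟨_, _, _, _, f', b⟩ =>
    np h.toGe f'.ln (h.tl f' b) (h.ct f' b) g rfl

theorem false : False := h.final f fun g => by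
  have k := h.toGe
  rcases H9.isConj_or_exists_commute (x := g * z * g⁻¹) (by rw [conj_mul, h.zz, mul_one, mul_inv_cancel]) ht.sq with
    j | ⟨v, v1, -, v2, v3⟩
  · obtain ⟨a, ha⟩ := isConj_iff.1 j
    exact absurd (by rw [← ha]; group) (np k f.ln (h.tl f ht) (h.ct f ht) (a * g))
  have v7 := mem_centralizer_zpowers.2 v2.eq
  rcases h.invC f ht (mem_centralizer_zpowers.2 v3.eq.symm) (by rw [← pow_two, ← v1, pow_orderOf_eq_one]) with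
    j | ⟨m, r, u, a, f', b⟩
  · exact ⟨v, j, by rintro rfl; simp at v1, v7⟩
  · exact ⟨r, a, f'.p1, f'.cc k ((f'.four k).le_c (h.ptC f' b v7))⟩

end Mb

end H27.FM

namespace H27
open FM H118
universe u

theorem fm : H26.FM.{u} := fun _ _ _ _ V h _ hg h1 h2 => by
  obtain ⟨z, k⟩ := mb_of h hg h1 h2
  obtain ⟨y, f⟩ := exFl k.toGe (Ln.self V) k.zV k.z1
  obtain ⟨t, ht⟩ := k.exT f
  exact k.false f ht

end H27
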