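import Cfsg.Agent.H8.Bs0

/-! The hard configurations `Hard12 3` and `Hard12 5` of S4372, by coordinates on the span of the conjugates of `e`. -/

set_option autoImplicit false

namespace H27.BsH
open Subgroup Cfsg H18 H21.Rb H8.Bs
open scoped commutatorElement

universe u

abbrev V4 (p : ℕ) := ZMod p × ZMod p × ZMod p × ZMod p
abbrev M4 (p : ℕ) := V4 p × V4 p × V4 p × V4 p
abbrev Ix (p : ℕ) := ZMod p × Fin 2 × Fin 2 × Fin 2 × Fin 2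

section
variable {p : ℕ}
def lin (B : M4 p) (c : V4 p) : V4 p := c.1 • B.1 + c.2.1 • B.2.1 + c.2.2.1 • B.2.2.1 + c.2.2.2 • B.2.2.2
def X1 (v : V4 p) : V4 p := (v.2.2.1, v.2.2.2, v.1, v.2.1)
def X2 (v : V4 p) : V4 p := (v.2.1, v.1, v.2.2.2, v.2.2.1)
def Z1 (v : V4 p) : V4 p := (v.1, v.2.1, -v.2.2.1, -v.2.2.2)
def Z2 (v : V4 p) : V4 p := (v.1, -v.2.1, v.2.2.1, -v.2.2.2)
def op (a : Fin 2) (f : V4 p → V4 p) (v : V4 p) : V4 p := if a = 0 then v else f v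
def act (P : Ix p) (v : V4 p) : V4 p := op P.2.1 X1 (op P.2.2.1 X2 (op P.2.2.2.1 Z1 (op P.2.2.2.2 Z2 (P.1 • v))))
def tau (v u : V4 p) (C : M4 p) (P : Ix p) (a : V4 p) : V4 p := lin (v, u, act P v, act P u) (lin C a)
def Ok (τ f : V4 p → V4 p) : Prop := ∃ Q : Ix p, Q.1 ≠ 0 ∧ τ (f (1, 0, 0, 0)) = act Q (τ (1, 0, 0, 0)) ∧
  τ (f (0, 1, 0, 0)) = act Q (τ (0, 1, 0, 0)) ∧ τ (f (0, 0, 1, 0)) = act Q (τ (0, 0, 1, 0)) ∧
  τ (f (0, 0, 0, 1)) = act Q (τ (0, 0, 0, 1))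
instance [NeZero p] (τ f : V4 p → V4 p) : Decidable (Ok τ f) := by unfold Ok; infer_instance
end

variable {G : Type*} [Group G] {p : ℕ} {V N M B T : Subgroup G} {e x₁ x₂ b₁ b₂ : G}

def Ψ (e x₁ x₂ : G) (a : V4 p) : G := e ^ a.1.val * (x₂ * e * x₂⁻¹) ^ a.2.1.val *
  (x₁ * e * x₁⁻¹) ^ a.2.2.1.val * (x₁ * (x₂ * e * x₂⁻¹) * x₁⁻¹) ^ a.2.2.2.val

def Rel (e x₁ x₂ g : G) (τ : V4 p → V4 p) : Prop := ∀ a, g * Ψ e x₁ x₂ a * g⁻¹ = Ψ e x₁ x₂ (τ a)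

theorem Rel.mul {g h : G} {τ σ : V4 p → V4 p} (a : Rel e x₁ x₂ g τ) (b : Rel e x₁ x₂ h σ) :
    Rel e x₁ x₂ (g * h) (fun v => τ (σ v)) := fun v => by
  rw [← a, ← b]; group

theorem Rel.op {g : G} {τ : V4 p → V4 p} (h : Rel e x₁ x₂ g τ) (a : Fin 2) :
    Rel e x₁ x₂ (g ^ a.1) (op a τ) := fun v => by
  fin_cases a
  · simp [BsH.op]
  · simpa [BsH.op] using h v

theorem mul4 (hV : Abel V) {a b c d a' b' c' d' : G} (h1 : a ∈ V) (h2 : b ∈ V) (h3 : c ∈ V) (h4 : d ∈ V)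
    (k1 : a' ∈ V) (k2 : b' ∈ V) (k3 : c' ∈ V) (k4 : d' ∈ V) :
    a * a' * (b * b') * (c * c') * (d * d') = a * b * c * d * (a' * b' * c' * d') := by
  letI : CommGroup V := { (inferInstance : Group V) with mul_comm := fun a b => Subtype.ext (comm_of_cent hV a.2 b.2) }
  have : ∀ a b c d a' b' c' d' : V, a * a' * (b * b') * (c * c') * (d * d') = a * b * c * d * (a' * b' * c' * d') :=
    fun _ _ _ _ _ _ _ _ => by ac_rfl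
  exact congrArg Subtype.val (this ⟨a, h1⟩ ⟨b, h2⟩ ⟨c, h3⟩ ⟨d, h4⟩ ⟨a', k1⟩ ⟨b', k2⟩ ⟨c', k3⟩ ⟨d', k4⟩)

variable [Fact p.Prime] (h : HD p V N M B T e x₁ x₂ b₁ b₂)
include h

theorem mem (K : Subgroup G) (hK : N ≤ N(K)) (he : e ∈ K) (a : V4 p) : Ψ e x₁ x₂ a ∈ K :=
  mul_mem (mul_mem (mul_mem (pow_mem he _) (pow_mem (conj_mem hK h.m2 he) _)) (pow_mem (conj_mem hK h.m1 he) _))
    (pow_mem (conj_mem hK h.m1 (conj_mem hK h.m2 he)) _)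

theorem add (a b : V4 p) : Ψ e x₁ x₂ (a + b) = Ψ e x₁ x₂ a * Ψ e x₁ x₂ b := by
  have k : ∀ y ∈ V, ∀ i j : ZMod p, y ^ (i + j).val = y ^ i.val * y ^ j.val := fun y hy i j => by
    rw [ZMod.val_add, ← pow_eq_pow_mod _ (h.el.pow y hy), pow_add]
  have e1 := conj_mem h.NV h.m2 h.eV
  have e2 := conj_mem h.NV h.m1 h.eV
  have e3 := conj_mem h.NV h.m1 e1
  simp only [Ψ, Prod.fst_add, Prod.snd_add, k _ h.eV, k _ e1, k _ e2, k _ e3]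
  exact mul4 h.el.abel (pow_mem h.eV _) (pow_mem e1 _) (pow_mem e2 _) (pow_mem e3 _) (pow_mem h.eV _)
    (pow_mem e1 _) (pow_mem e2 _) (pow_mem e3 _)

omit h in
theorem zero : Ψ e x₁ x₂ (0 : V4 p) = 1 := by simp [Ψ]

theorem smul (k : ZMod p) (a : V4 p) : Ψ e x₁ x₂ (k • a) = Ψ e x₁ x₂ a ^ k.val := by
  have : ∀ n : ℕ, Ψ e x₁ x₂ (n • a) = Ψ e x₁ x₂ a ^ n := fun n => by
    induction n with
    | zero => simp [zero]
    | succ n ih => rw [succ_nsmul, add h, ih, pow_succ]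
  rw [← this, ← Nat.cast_smul_eq_nsmul (ZMod p), ZMod.natCast_zmod_val]

theorem neg (a : V4 p) : Ψ e x₁ x₂ (-a) = (Ψ e x₁ x₂ a)⁻¹ :=
  eq_inv_of_mul_eq_one_left (by rw [← add h, neg_add_cancel, zero])

theorem rlin {g : G} {A A' : M4 p} (h1 : g * Ψ e x₁ x₂ A.1 * g⁻¹ = Ψ e x₁ x₂ A'.1)
    (h2 : g * Ψ e x₁ x₂ A.2.1 * g⁻¹ = Ψ e x₁ x₂ A'.2.1) (h3 : g * Ψ e x₁ x₂ A.2.2.1 * g⁻¹ = Ψ e x₁ x₂ A'.2.2.1)
    (h4 : g * Ψ e x₁ x₂ A.2.2.2 * g⁻¹ = Ψ e x₁ x₂ A'.2.2.2) (c : V4 p) :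
    g * Ψ e x₁ x₂ (lin A c) * g⁻¹ = Ψ e x₁ x₂ (lin A' c) := by
  simp only [lin, add h, smul h, ← h1, ← h2, ← h3, ← h4, conj_pow]
  group

theorem rel_of {g : G} {A : M4 p} {τ : V4 p → V4 p} (hτ : ∀ a, τ a = lin A a) (h1 : g * e * g⁻¹ = Ψ e x₁ x₂ A.1)
    (h2 : g * (x₂ * e * x₂⁻¹) * g⁻¹ = Ψ e x₁ x₂ A.2.1) (h3 : g * (x₁ * e * x₁⁻¹) * g⁻¹ = Ψ e x₁ x₂ A.2.2.1)
    (h4 : g * (x₁ * (x₂ * e * x₂⁻¹) * x₁⁻¹) * g⁻¹ = Ψ e x₁ x₂ A.2.2.2) : Rel e x₁ x₂ g τ := fun a => by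
  have := rlin h (g := g) (A := ((1, 0, 0, 0), (0, 1, 0, 0), (0, 0, 1, 0), (0, 0, 0, 1))) (A' := A)
    (by rw [← h1]; simp [Ψ, ZMod.val_one]) (by rw [← h2]; simp [Ψ, ZMod.val_one])
    (by rw [← h3]; simp [Ψ, ZMod.val_one]) (by rw [← h4]; simp [Ψ, ZMod.val_one]) a
  rw [hτ, ← this]
  simp [lin]

omit h in
theorem E0 : Ψ e x₁ x₂ ((1, 0, 0, 0) : V4 p) = e := by simp [Ψ, ZMod.val_one]
omit h in
theorem E1 : Ψ e x₁ x₂ ((0, 1, 0, 0) : V4 p) = x₂ * e * x₂⁻¹ := by simp [Ψ, ZMod.val_one]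
omit h in
theorem E2 : Ψ e x₁ x₂ ((0, 0, 1, 0) : V4 p) = x₁ * e * x₁⁻¹ := by simp [Ψ, ZMod.val_one]
omit h in
theorem E3 : Ψ e x₁ x₂ ((0, 0, 0, 1) : V4 p) = x₁ * (x₂ * e * x₂⁻¹) * x₁⁻¹ := by simp [Ψ, ZMod.val_one]

omit h [Fact p.Prime] in
theorem cc {a b y : G} (c : Commute a b) : a * (b * y * b⁻¹) * a⁻¹ = b * (a * y * a⁻¹) * b⁻¹ := by
  calc _ = (a * b) * y * (a * b)⁻¹ := by group
    _ = _ := by rw [c.eq]; group

omit h [Fact p.Prime] in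
theorem c2 {a y : G} (c : a * a = 1) : a * (a * y * a⁻¹) * a⁻¹ = y := by
  calc _ = (a * a) * y * (a * a)⁻¹ := by group
    _ = _ := by rw [c]; group

omit h [Fact p.Prime] in
theorem cf {a y : G} (c : Commute a y) : a * y * a⁻¹ = y := by rw [c.eq]; group

omit h [Fact p.Prime] in
theorem ci {x b y : G} (hx : x ∈ N(V)) (hb : b ∈ N(V)) (a : ∀ v ∈ V, ⁅x, b⁆ * v * ⁅x, b⁆⁻¹ = v⁻¹) (hy : y ∈ V)
    (f : b * y * b⁻¹ = y) : b * (x * y * x⁻¹) * b⁻¹ = (x * y * x⁻¹)⁻¹ := by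
  have := a _ (conj_mem_N hb (conj_mem_N hx hy))
  rw [← inv_eq_iff_eq_inv, ← this, commutatorElement_def]
  calc _ = x * (b * y * b⁻¹) * x⁻¹ := by group
    _ = _ := by rw [f]

theorem r1 : Rel (p := p) e x₁ x₂ x₁ X1 :=
  rel_of h (A := ((0, 0, 1, 0), (0, 0, 0, 1), (1, 0, 0, 0), (0, 1, 0, 0))) (fun a => by simp [X1, lin])
    E2.symm E3.symm (by rw [c2 h.s1, E0]) (by rw [c2 h.s1, E1])

theorem r2 : Rel (p := p) e x₁ x₂ x₂ X2 :=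
  rel_of h (A := ((0, 1, 0, 0), (1, 0, 0, 0), (0, 0, 0, 1), (0, 0, 1, 0))) (fun a => by simp [X2, lin])
    E1.symm (by rw [c2 h.s2, E0]) (by rw [E3, cc h.c12]) (by rw [← cc h.c12, c2 h.s2, E2])

theorem r3 : Rel (p := p) e x₁ x₂ b₁ Z1 := by
  have k : b₁ * (x₂ * e * x₂⁻¹) * b₁⁻¹ = x₂ * e * x₂⁻¹ := by rw [← cc h.c23, cf h.f1]
  exact rel_of h (A := ((1, 0, 0, 0), (0, 1, 0, 0), -(0, 0, 1, 0), -(0, 0, 0, 1))) (fun a => by simp [Z1, lin])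
    (by rw [E0, cf h.f1]) (by rw [E1, k])
    (by rw [neg h, E2, ci (h.NV h.m1) (h.NV h.m3) h.a1 h.eV (cf h.f1)])
    (by rw [neg h, E3, ci (h.NV h.m1) (h.NV h.m3) h.a1 (conj_mem h.NV h.m2 h.eV) k])

theorem r4 : Rel (p := p) e x₁ x₂ b₂ Z2 := by
  have k := ci (h.NV h.m2) (h.NV h.m4) h.a2 h.eV (cf h.f2)
  exact rel_of h (A := ((1, 0, 0, 0), -(0, 1, 0, 0), (0, 0, 1, 0), -(0, 0, 0, 1))) (fun a => by simp [Z2, lin])
    (by rw [E0, cf h.f2]) (by rw [neg h, E1, k]) (by rw [E2, ← cc h.c14, cf h.f2])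
    (by rw [neg h, E3, ← cc h.c14, k]; group)

theorem e_pow {k : ZMod p} (hk : e ^ k.val = 1) : k = 0 := by
  have := orderOf_dvd_of_pow_eq_one hk
  rw [h.el.orderOf Fact.out h.eV h.e1] at this
  exact (ZMod.val_eq_zero k).1 (Nat.eq_zero_of_dvd_of_lt this k.val_lt)

theorem inj (h4 : (4 : ZMod p) ≠ 0) : Function.Injective (Ψ (p := p) e x₁ x₂) := by
  have cl : ∀ {g τ}, Rel (p := p) e x₁ x₂ g τ → ∀ {a}, Ψ e x₁ x₂ a = 1 → Ψ e x₁ x₂ (τ a) = 1 :=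
    fun r a ha => by rw [← r, ha]; group
  have k : ∀ a : V4 p, Ψ e x₁ x₂ a = 1 → a.1 = 0 := fun a ha => by
    have h1 : Ψ e x₁ x₂ (a + Z1 a) = 1 := by rw [add h, ha, cl (r3 h) ha, mul_one]
    have h2 : Ψ e x₁ x₂ ((a + Z1 a) + Z2 (a + Z1 a)) = 1 := by rw [add h, h1, cl (r4 h) h1, mul_one]
    have h3 : (a + Z1 a) + Z2 (a + Z1 a) = (4 * a.1) • ((1, 0, 0, 0) : V4 p) := by
      simp only [Z1, Z2, Prod.ext_iff, Prod.fst_add, Prod.snd_add, Prod.smul_mk, smul_eq_mul]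
      refine ⟨by ring, by ring, by ring, by ring⟩
    rw [h3, smul h, E0] at h2
    exact (mul_eq_zero.1 (e_pow h h2)).resolve_left h4
  intro a b hab
  have ha : Ψ e x₁ x₂ (a - b) = 1 := by rw [sub_eq_add_neg, add h, neg h, hab, mul_inv_cancel]
  rw [← sub_eq_zero]
  generalize a - b = c at ha
  exact Prod.ext (k c ha) (Prod.ext (k _ (cl (r2 h) ha)) (Prod.ext (k _ (cl (r1 h) ha))
    (k _ (cl (r1 h) (cl (r2 h) ha)))))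

variable [Finite G] (hM : ∀ m ∈ M, m * e * m⁻¹ ∈ zpowers e)
include hM

theorem relN {n : G} (hn : n ∈ N) : ∃ P : Ix p, P.1 ≠ 0 ∧ Rel e x₁ x₂ n (act P) ∧
    (P = (1, 0, 0, 0, 0) → n ∈ B) := by
  obtain ⟨a, b, c, d, m, hm, rfl⟩ := h.gen n hn
  obtain ⟨j, hj⟩ := (mem_powers_iff_mem_zpowers.2 (hM m hm))
  have hk : m * e * m⁻¹ = e ^ (j : ZMod p).val := by
    rw [ZMod.val_natCast, ← pow_eq_pow_mod _ (h.el.pow e h.eV)]; exact hj.symm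
  generalize (j : ZMod p) = k at hk
  have rm : Rel e x₁ x₂ m fun v : V4 p => k • v :=
    rel_of h (A := (k • (1, 0, 0, 0), k • (0, 1, 0, 0), k • (0, 0, 1, 0), k • (0, 0, 0, 1)))
      (fun a => by simp [lin, Prod.ext_iff, mul_comm]) (by rw [smul h, E0, hk])
      (by rw [smul h, E1, cc (h.cM m hm).2.1, hk, conj_pow])
      (by rw [smul h, E2, cc (h.cM m hm).1, hk, conj_pow])
      (by rw [smul h, E3, cc (h.cM m hm).1, cc (h.cM m hm).2.1, hk, conj_pow, conj_pow])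
  refine ⟨(k, a, b, c, d), fun e0 => h.e1 ?_, ?_, fun e0 => ?_⟩
  · simp only at e0
    rw [e0, ZMod.val_zero, pow_zero] at hk
    exact conj_eq_one_iff'.1 hk
  · exact (((((r1 h).op a).mul ((r2 h).op b)).mul ((r3 h).op c)).mul ((r4 h).op d)).mul rm
  · simp only [Prod.mk.injEq] at e0
    obtain ⟨rfl, rfl, rfl, rfl, rfl⟩ := e0
    simpa using h.reg m hm (by rw [hk, ZMod.val_one, pow_one])

theorem relT (h4 : (4 : ZMod p) ≠ 0) {v u : V4 p} {C : M4 p} {g : G} {f : V4 p → V4 p} (hg : g ∈ N)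
    (rg : Rel e x₁ x₂ g f) (hC : ∀ a, lin (v, u, f v, f u) (lin C a) = a) {t : G} (ht : t ∈ T)
    (h1 : t * Ψ e x₁ x₂ v * t⁻¹ = Ψ e x₁ x₂ v) (h2 : t * Ψ e x₁ x₂ u * t⁻¹ = Ψ e x₁ x₂ u) :
    ∃ P : Ix p, P.1 ≠ 0 ∧ Rel e x₁ x₂ t (tau v u C P) ∧ Ok (tau v u C P) X1 ∧ Ok (tau v u C P) X2 ∧
      Ok (tau v u C P) Z1 ∧ Ok (tau v u C P) Z2 := by
  obtain ⟨P, p0, rP, -⟩ := relN h hM (conj_mem h.TN ht hg)
  have r : Rel e x₁ x₂ t (tau v u C P) := fun a => by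
    conv_lhs => rw [← hC a]
    refine rlin h h1 h2 ?_ ?_ _
    · simp only
      rw [← rg, ← rP]
      conv_rhs => rw [← h1]
      group
    · simp only
      rw [← rg, ← rP]
      conv_rhs => rw [← h2]
      group
  have ok : ∀ {y : G} {f : V4 p → V4 p}, y ∈ N → Rel e x₁ x₂ y f → Ok (tau v u C P) f := fun {y f} hy ry => by
    obtain ⟨Q, q0, rQ, -⟩ := relN h hM (conj_mem h.TN ht hy)
    have : ∀ a, tau v u C P (f a) = act Q (tau v u C P a) := fun a => inj h h4 (by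
      rw [← r, ← ry, ← rQ, ← r]; group)
    exact ⟨Q, q0, this _, this _, this _, this _⟩
  exact ⟨P, p0, r, ok h.m1 (r1 h), ok h.m2 (r2 h), ok h.m3 (r3 h), ok h.m4 (r4 h)⟩

theorem out (h4 : (4 : ZMod p) ≠ 0) {v u : V4 p} (hv : ∀ P : Ix p, act P v = v → P = (1, 0, 0, 0, 0))
    (hu : u ≠ 0) (huv : ∀ P : Ix p, act P u ≠ v)
    (ht : ∀ t ∈ T, t * Ψ e x₁ x₂ v * t⁻¹ = Ψ e x₁ x₂ v → t * Ψ e x₁ x₂ u * t⁻¹ = Ψ e x₁ x₂ u →
      Rel (p := p) e x₁ x₂ t id) : Out V N B T := by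
  have mm : ∀ a : V4 p, Ψ e x₁ x₂ a ∈ V ⊓ C(B) :=
    mem h _ (norm_inf h.NV (h.NB.trans le_N)) ⟨h.eV, h.eB⟩
  have rg : Rg N B (Ψ e x₁ x₂ v) := fun n hn e1 => by
    obtain ⟨P, -, r, k⟩ := relN h hM hn
    exact k (hv P (inj h h4 (by rw [← r, e1])))
  refine ⟨_, mm v, _, mm u, _, mm v, rg, rg, fun e1 => hu (inj h h4 (e1.trans zero.symm)), fun n hn e1 => ?_,
    fun t h1 h2 h3 => ⟨h2, fun n hn => ?_⟩⟩
  · obtain ⟨P, -, r, -⟩ := relN h hM hn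
    exact huv P (inj h h4 (by rw [← r, e1]))
  · obtain ⟨P, -, r, -⟩ := relN h hM hn
    rw [r, ht t h1 h2 h3, id]

omit hM in
theorem triv {t : G} (ht : t ∈ T) (r : Rel (p := p) e x₁ x₂ (t ^ p) id) : Rel (p := p) e x₁ x₂ t id := fun a => by
  have g1 : p.gcd (orderOf t) = 1 :=
    (Nat.Prime.coprime_iff_not_dvd Fact.out).2 fun e => h.cop (e.trans (orderOf_dvd_card ht))
  have c1 : t ^ p ∈ centralizer {Ψ e x₁ x₂ a} :=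
    mem_centralizer_singleton_iff.2 (mul_inv_eq_iff_eq_mul.1 (r a))
  have c2 := mem_centralizer_singleton_iff.1 (zpowers_le.2 c1 (mem_zpowers_pow_iff.2 g1))
  exact mul_inv_eq_iff_eq_mul.2 c2

omit hM in
theorem bad {t : G} (ht : t ∈ T) {τ : V4 p → V4 p} (h4 : (4 : ZMod p) ≠ 0) (p3 : p = 3) (r : Rel e x₁ x₂ t τ)
    (h6 : ∀ a, τ (τ (τ (τ (τ (τ a))))) = a) : ∀ a, τ (τ a) = a := fun a => by
  have r2 := r.mul r
  have := triv h (mul_mem ht ht) (fun a => by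
    have := (r2.mul (r2.mul r2)) a
    simp only [h6] at this
    have e3 : (t * t) ^ p = t * t * (t * t * (t * t)) := by
      rw [p3]; simp only [pow_succ, pow_zero, one_mul, mul_assoc]
    rw [e3, this, id]) a
  exact inj h h4 (by rw [← r2, this, id])

end H27.BsH
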