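import Cfsg.Agent.H27.BsH

/-! `Hard12 3` and `Hard12 5` (finite checks in dimension four). -/

set_option autoImplicit false

namespace H27.BsH
open Subgroup Cfsg H18 H21.Rb H8.Bs

universe u

def Dec {p : ℕ} (v u : V4 p) (C : M4 p) (S : List (M4 p)) : Prop := ∀ P : Ix p, P.1 ≠ 0 → Ok (tau v u C P) X1 →
  Ok (tau v u C P) X2 → Ok (tau v u C P) Z1 → Ok (tau v u C P) Z2 →
  (∀ a, tau v u C P a = a) ∨ ∃ M ∈ S, ∀ a, tau v u C P a = lin M a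
instance {p : ℕ} [NeZero p] (v u : V4 p) (C : M4 p) (S : List (M4 p)) : Decidable (Dec v u C S) := by
  unfold Dec; infer_instance

def Bad {p : ℕ} (A B : M4 p) : Prop :=
  (∀ a, lin A (lin B (lin A (lin B (lin A (lin B (lin A (lin B (lin A (lin B (lin A (lin B a))))))))))) = a) ∧
    ¬ ∀ a, lin A (lin B (lin A (lin B a))) = a
instance {p : ℕ} [NeZero p] (A B : M4 p) : Decidable (Bad A B) := by unfold Bad; infer_instance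

def C1 : M4 3 := ((0, 2, 1, 2), (1, 2, 0, 2), (0, 0, 0, 1), (0, 1, 0, 0))
def C2 : M4 3 := ((0, 2, 0, 2), (2, 0, 2, 0), (0, 2, 0, 1), (2, 1, 1, 2))
def C3 : M4 3 := ((2, 2, 2, 2), (1, 1, 2, 2), (2, 0, 2, 0), (1, 2, 2, 1))
def C5 : M4 5 := ((2, 3, 2, 3), (3, 4, 2, 1), (3, 0, 3, 0), (0, 1, 0, 4))
def S1 : List (M4 3) := [((2, 0, 0, 0), (0, 0, 1, 0), (0, 1, 0, 0), (0, 0, 0, 1)),
  ((1, 0, 0, 0), (0, 0, 1, 0), (0, 1, 0, 0), (0, 0, 0, 1)), ((2, 0, 0, 0), (0, 1, 0, 0), (0, 0, 1, 0), (0, 0, 0, 1))]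
def S2 : List (M4 3) := [((1, 0, 0, 0), (0, 0, 0, 1), (0, 0, 1, 0), (0, 1, 0, 0)),
  ((2, 2, 2, 2), (2, 1, 1, 2), (2, 1, 2, 1), (2, 2, 1, 1)), ((2, 2, 2, 2), (2, 2, 1, 1), (2, 1, 2, 1), (2, 1, 1, 2))]
def S3 : List (M4 3) := [((2, 1, 1, 1), (1, 2, 1, 1), (1, 1, 2, 1), (1, 1, 1, 2)),
  ((1, 0, 0, 0), (0, 1, 0, 0), (0, 0, 0, 1), (0, 0, 1, 0)), ((2, 1, 1, 1), (1, 2, 1, 1), (1, 1, 1, 2), (1, 1, 2, 1))]

theorem d1 : Dec (0, 1, 1, 1) (0, 0, 0, 1) C1 S1 := by decide +kernel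
theorem d2 : Dec (0, 1, 1, 1) (1, 0, 1, 0) C2 S2 := by decide +kernel
theorem d3 : Dec (0, 1, 1, 1) (1, 1, 2, 2) C3 S3 := by decide +kernel
theorem d5 : Dec (0, 1, 1, 1) (1, 0, 1, 3) C5 [] := by decide +kernel
theorem dB : ∀ A ∈ S1, ∀ B ∈ S2, ∀ C ∈ S3, Bad A B ∨ Bad A C ∨ Bad B C := by decide +kernel

section
variable {G : Type*} [Group G] [Finite G] {p : ℕ} {V N M B T : Subgroup G} {e x₁ x₂ b₁ b₂ : G} [Fact p.Prime]

theorem alt (h : HD p V N M B T e x₁ x₂ b₁ b₂) (hM : ∀ m ∈ M, m * e * m⁻¹ ∈ zpowers e) (h4 : (4 : ZMod p) ≠ 0)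
    {v u : V4 p} {C : M4 p} {S : List (M4 p)} {g : G} {f : V4 p → V4 p} (hg : g ∈ N)
    (rg : Rel e x₁ x₂ g f) (hC : ∀ a, lin (v, u, f v, f u) (lin C a) = a) (d : Dec v u C S)
    (hv : ∀ P : Ix p, act P v = v → P = (1, 0, 0, 0, 0)) (hu : u ≠ 0) (huv : ∀ P : Ix p, act P u ≠ v) :
    Out V N B T ∨ ∃ A ∈ S, ∃ t ∈ T, Rel e x₁ x₂ t (lin A) := by
  by_contra hn
  rw [not_or] at hn
  refine hn.1 (out h hM h4 hv hu huv fun t ht h1 h2 => ?_)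
  obtain ⟨P, p0, r, k1, k2, k3, k4⟩ := relT h hM h4 hg rg hC ht h1 h2
  rcases d P p0 k1 k2 k3 k4 with k | ⟨A, hA, k⟩
  · exact fun a => by rw [r, k, id]
  · exact (hn.2 ⟨A, hA, t, ht, fun a => by rw [r, k]⟩).elim

end

theorem f1 : (4 : ZMod 5) ≠ 0 := by decide
theorem f2 : ∀ a, lin (((0, 1, 1, 1) : V4 5), ((1, 0, 1, 3) : V4 5), Z2 (0, 1, 1, 1), Z2 (1, 0, 1, 3)) (lin C5 a) = a := by
  decide +kernel
theorem f3 : ∀ P : Ix 5, act P (0, 1, 1, 1) = (0, 1, 1, 1) → P = (1, 0, 0, 0, 0) := by decide +kernel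
theorem f4 : ((1, 0, 1, 3) : V4 5) ≠ 0 := by decide
theorem f5 : ∀ P : Ix 5, act P (1, 0, 1, 3) ≠ (0, 1, 1, 1) := by decide +kernel

theorem hard5 : Hard12.{u} 5 := by
  intro G _ _ V N M B T e x₁ x₂ b₁ b₂ h hM
  haveI : Fact (Nat.Prime 5) := ⟨by norm_num⟩
  rcases alt h hM f1 h.m4 (r4 h) f2 d5 f3 f4 f5 with k | ⟨A, hA, -⟩
  · exact k
  · simp at hA

theorem hard3p : Hard12.{u} 3 := by
  intro G _ _ V N M B T e x₁ x₂ b₁ b₂ h hM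
  have h4 : (4 : ZMod 3) ≠ 0 := by decide
  have hv : ∀ P : Ix 3, act P (0, 1, 1, 1) = (0, 1, 1, 1) → P = (1, 0, 0, 0, 0) := by decide +kernel
  rcases alt h hM h4 h.m2 (r2 h) (by decide +kernel) d1 hv (by decide) (by decide +kernel) with k | ⟨A, hA, a, ha, ra⟩
  · exact k
  rcases alt h hM h4 h.m3 (r3 h) (by decide +kernel) d2 hv (by decide) (by decide +kernel) with k | ⟨A', hB, b, hb, rb⟩
  · exact k
  rcases alt h hM h4 h.m4 (r4 h) (by decide +kernel) d3 hv (by decide) (by decide +kernel) with k | ⟨C, hC, c, hc, rc⟩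
  · exact k
  rcases dB A hA A' hB C hC with k | k | k
  · exact (k.2 (bad h (mul_mem ha hb) h4 rfl (ra.mul rb) k.1)).elim
  · exact (k.2 (bad h (mul_mem ha hc) h4 rfl (ra.mul rc) k.1)).elim
  · exact (k.2 (bad h (mul_mem hb hc) h4 rfl (rb.mul rc) k.1)).elim

end H27.BsH
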