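import Cfsg.Agent.H13.EQ3

/-! Equivariant quadratic action, part 1: minimal quadratic elements attached to a unipotent group containing a
quadratic element (`exists_W`), the unipotent radical `UU` of the stabilizer of a root group and its transitivity on
partners (`sameU`). -/

set_option autoImplicit false
set_option linter.unusedSectionVars false
set_option linter.unusedVariables false

namespace H27.Eq
open Subgroup H28 H20.QP H13.EQ LinearMap Module
open scoped commutatorElement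

universe u
variable {k : Type u} [Field k] {M : Type*} [AddCommGroup M] [Module k M] [FiniteDimensional k M]
  {G P : Subgroup (End k M)ˣ} {α β a b c x y τ σ a' b' : End k M} {g e : (End k M)ˣ}

theorem hq (hk : Big k) (h : D G α) (h' : Q k G τ) : Q k G (τ * α * τ) := by
  by_cases hne : α * τ * α = 0
  · exact Q.triple hk.two h' h.toQ (by linear_combination (norm := noncomm_ring) τ * hne * τ)
  · obtain ⟨R, _, _, _, ρ, t, η, H, -, -, h1, -, h2⟩ := h.mu hk h' hne
    have := H.symm.aba 1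
    rw [← mul_assoc, ← H.cb, mul_assoc, ← mul_assoc (ρ 1), h1, ← mul_assoc] at this
    rw [this]
    exact (h2 _).2

theorem hq_ne (hk : Big k) (h : D G α) (h' : Q k G τ) (hne : α * τ * α ≠ 0) : τ * α * τ ≠ 0 := fun e => by
  obtain ⟨β, hβ, -, h2, h3, h4, -⟩ := h.partner' hk h' hne
  have h5 : β * (α * τ) = 0 := zl h4 (by rwa [← mul_assoc])
  exact hβ.ne (by rw [← h2]; exact zr h3 (by rwa [mul_assoc]))

theorem hq_d (hk : Big k) (h : D G α) (h' : Q k G τ) (h0 : τ * α * τ ≠ 0) : D G (τ * α * τ) :=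
  h.of_rk (hq hk h h') h0 ((rk_mul_right _ _).trans (rk_mul_left _ _))

theorem cq_d (hk : Big k) (h : D G β) (h' : Q k G τ) (e : τ * β * τ = 0) (h0 : β * τ - τ * β ≠ 0) :
    D G (β * τ - τ * β) := by
  have e' : β * τ * β = 0 := by_contra fun hne => hq_ne hk h h' hne e
  have h1 : range (β * τ) ≤ range β ⊓ ker τ := le_inf (rml _ _) (range_le_ker_iff.2 (show τ * (β * τ) = 0 by rwa [← mul_assoc]))
  have h2 : range (β * τ - τ * β) ≤ range (β * τ) ⊔ range (τ * β) := by
    rintro _ ⟨m, rfl⟩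
    exact sub_mem (Submodule.mem_sup_left ⟨m, rfl⟩) (Submodule.mem_sup_right ⟨m, rfl⟩)
  have := Submodule.finrank_mono h1
  have := Submodule.finrank_mono h2
  have := rk_mul_add β τ
  have := Submodule.finrank_sup_add_finrank_inf_eq (range (β * τ)) (range (τ * β))
  exact h.of_rk (h.toQ.comm h' e' e) h0 (by simp only [rk] at *; omega)

theorem comm_of_norm (hk : Big k) (ha : D G α) (hb : D G β) (he : e ∈ E G α) (e1 : e ≠ 1)
    (hn : cj e (E G β) = E G β) : ⁅E G α, E G β⁆ = ⊥ := by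
  refine (ha.uc hk hb (by_contra fun hne => e1 (r1_eq_one (ha.r1 hk hb hne) he hn))).comm_or.resolve_right fun c => ?_
  obtain ⟨x, hx, rfl⟩ := E_cases he
  have x0 : x ≠ 0 := fun e => e1 (un_eq_one.2 e)
  have m : x * β - β * x ∈ cE G β := by
    refine (un_mem (h := (c.q hx hb.mem_cE).sq)).1 ?_
    rw [← c.comm_un hx hb.mem_cE]
    exact mul_mem (hn.le (conj_mem_cj (un_mem.2 hb.mem_cE))) (inv_mem (un_mem.2 hb.mem_cE))
  have n := c.ne' hx x0 hb.mem_cE hb.ne
  have := c.ann hx (δ := β) (by rw [← c.d.cE_eq (c.mem hx hb.mem_cE) n, hb.cE_eq m n]; exact hb.mem_cE)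
  exact n (by rw [this.1, this.2, sub_zero])

theorem comm_val (h : ⁅E G α, E G β⁆ = ⊥) (hx : x ∈ cE G α) (hy : y ∈ cE G β) : x * y = y * x := by
  have := congrArg Units.val (comm_commute h (un_mem (h := hx.1.sq).2 hx) (un_mem (h := hy.1.sq).2 hy)).eq
  simp only [Units.val_mul, un_val] at this
  linear_combination (norm := noncomm_ring) this

theorem cE_of_cj (hg : g ∈ G) (h : D G α) (e : cj g (E G α) = E G β) : g * α * (g⁻¹ : (End k M)ˣ) ∈ cE G β := by
  rw [cj_E hg] at e
  exact cE_of_E e ▸ (h.conj hg).mem_cE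

theorem cj_E_of_comm (hg : g ∈ G) (e : g * α = α * g) : cj g (E G α) = E G α := by
  rw [cj_E hg, e, mul_assoc, Units.mul_inv, mul_one]

theorem mem_aug_Q (h : Q k P σ) : σ ∈ aug k P := by simpa using mem_aug (k := k) h.one

/-- the range lies in the span of the ranges of the quadratic elements of `P` -/
def II (P : Subgroup (End k M)ˣ) (φ : End k M) : Prop := ∀ y : End k M, (∀ σ, Q k P σ → y * σ = 0) → y * φ = 0

/-- minimal quadratic elements attached to `P` -/
structure BB (G P : Subgroup (End k M)ˣ) (β : End k M) : Prop where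
  d : D G β
  i : II P β
  c : ∀ σ, Q k P σ → β * σ = σ * β

theorem exists_BB (hk : Big k) (hPG : P ≤ G) (hP : Un k P) (hτ : Q k P τ) (hα : D G α) (hne : α * τ * α ≠ 0) :
    ∃ β, BB G P β := by
  obtain ⟨n, hn⟩ := hP
  have key : ∀ m, ∀ φ, D G φ → II P φ →
      (∀ i j, m ≤ i + j → ∀ x ∈ aug k P ^ i, ∀ y ∈ aug k P ^ j, x * φ * y = 0) → ∃ β, BB G P β := by
    intro m
    induction m with
    | zero =>
      intro φ h _ hz
      have one : (1 : End k M) ∈ aug k P ^ 0 := Submodule.one_le.1 (by simp)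
      exact absurd (by simpa using hz 0 0 le_rfl 1 one 1 one) h.ne
    | succ m ih =>
      intro φ h hi hz
      by_cases hc : ∀ σ, Q k P σ → φ * σ = σ * φ
      · exact ⟨φ, h, hi, hc⟩
      push Not at hc
      obtain ⟨σ, hσ, hc⟩ := hc
      have l : ∀ {i x}, x ∈ aug k P ^ i → x * σ ∈ aug k P ^ (i + 1) := fun hx => by
        rw [pow_succ]; exact Submodule.mul_mem_mul hx (mem_aug_Q hσ)
      have r : ∀ {i x}, x ∈ aug k P ^ i → σ * x ∈ aug k P ^ (i + 1) := fun hx => by
        rw [pow_succ']; exact Submodule.mul_mem_mul (mem_aug_Q hσ) hx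
      by_cases h0 : σ * φ * σ = 0
      · refine ih _ (cq_d hk h (hσ.mono hPG) h0 (sub_ne_zero.2 hc)) (fun y hy => ?_) fun i j hij x hx y hy => ?_
        · linear_combination (norm := noncomm_ring) hi y hy * σ - hy σ hσ * φ
        · linear_combination (norm := noncomm_ring) hz i (j + 1) (by omega) x hx _ (r hy) -
            hz (i + 1) j (by omega) _ (l hx) y hy
      · refine ih _ (hq_d hk h (hσ.mono hPG) h0) (fun y hy => ?_) fun i j hij x hx y hy => ?_
        · linear_combination (norm := noncomm_ring) hy σ hσ * φ * σ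
        · linear_combination (norm := noncomm_ring) hz (i + 1) (j + 1) (by omega) _ (l hx) _ (r hy)
  have z : ∀ i, n ≤ i → ∀ x ∈ aug k P ^ i, x = 0 := fun i hi x hx => by
    obtain ⟨j, rfl⟩ := Nat.exists_eq_add_of_le hi
    rwa [pow_add, hn, Submodule.bot_mul, Submodule.mem_bot] at hx
  refine key (n + n) _ (hq_d hk hα (hτ.mono hPG) (hq_ne hk hα (hτ.mono hPG) hne)) (fun y hy => ?_)
    fun i j hij x hx y hy => ?_
  · linear_combination (norm := noncomm_ring) hy τ hτ * α * τ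
  · rcases le_or_gt n i with h | h
    · rw [z i h x hx, zero_mul, zero_mul]
    · rw [z j (by omega) y hy, mul_zero]

theorem BB.nonopp (hk : Big k) (hPG : P ≤ G) (hP : Un k P) (h : BB G P α) (h' : BB G P β) : α * β * α = 0 := by
  by_contra hne
  obtain ⟨n, hn⟩ := hP
  obtain ⟨b, p, hb⟩ := h.d.exists_pt hk h'.d hne
  have hb' : b ∈ cE G β := cE_of_E hb ▸ p.b.mem_cE
  have cb : ∀ σ, Q k P σ → b * σ = σ * b := fun σ hσ => by
    have q := hσ.mono hPG
    have r := pt_conj p q.one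
    have e1 : (un σ q.sq : End k M) * α * ((un σ q.sq)⁻¹ : (End k M)ˣ) = α := by
      rw [un_val, un_inv]
      linear_combination (norm := noncomm_ring) -h.c σ hσ - σ * h.c σ hσ - q.sq * α
    rw [e1] at r
    have := pt_uniq hk p r (cE_of_cj q.one p.b (by
      rw [hb]; exact cj_E_of_comm q.one (by rw [un_val]; linear_combination (norm := noncomm_ring) -h'.c σ hσ)))
    rw [Units.mul_inv_eq_iff_eq_mul, un_val] at this
    linear_combination (norm := noncomm_ring) -this
  have key : ∀ j, ∀ y : End k M, (∀ t ∈ aug k P ^ j, y * t = 0) → y * (α * b + b * α) = 0 := fun j => by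
    induction j with
    | zero => exact fun y hy => by rw [← mul_one y, hy 1 (Submodule.one_le.1 (by simp)), zero_mul]
    | succ j ih =>
      intro y hy
      have h1 : ∀ σ, Q k P σ → y * (α * b + b * α) * σ = 0 := fun σ hσ => by
        have := ih (y * σ) fun t ht => by
          rw [mul_assoc]; exact hy _ (by rw [pow_succ']; exact Submodule.mul_mem_mul (mem_aug_Q hσ) ht)
        linear_combination (norm := noncomm_ring) this + y * α * cb σ hσ + y * h.c σ hσ * b + y * b * h.c σ hσ +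
          y * cb σ hσ * α
      have h2 := h.i _ h1
      have h3 := zr (cE_r hb') (h'.i _ h1)
      linear_combination (norm := noncomm_ring) h2 * b + h3 * α - y * p.ee
  have := key n 1 (by simp [hn])
  exact h.d.ne (by rw [← (p.ea p.a.mem_cE).1, ← one_mul (_ + _), this, zero_mul])

theorem Q_conj (h : Q k P σ) (hg : g ∈ normalizer (P : Set (End k M)ˣ)) : Q k P (g * σ * (g⁻¹ : (End k M)ˣ)) :=
  ⟨by simp [mul_assoc, h.sq'], fun c => by
    obtain ⟨x, hx, e⟩ := h.mem c
    exact ⟨g * x * g⁻¹, (mem_normalizer_iff.1 hg x).1 hx, by simp [e, mul_add, add_mul]⟩⟩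

theorem exists_W (hk : Big k) (hPG : P ≤ G) (hP : Un k P) (hτ : Q k P τ) (hα : D G α) (hne : α * τ * α ≠ 0) :
    ∃ W ≤ G0 G, Un k W ∧ G ⊓ normalizer (P : Set (End k M)ˣ) ≤ normalizer (W : Set (End k M)ˣ) ∧
      ∃ β, ∃ h : D G β, un β h.sq ∈ W := by
  let H : Subgroup (End k M)ˣ :=
    { carrier := {g | g ∈ G ∧ ∀ σ, Q k P σ ↔ Q k P (g * σ * (g⁻¹ : (End k M)ˣ))}
      one_mem' := ⟨one_mem _, by simp⟩
      mul_mem' := fun {g h} hg hh => ⟨mul_mem hg.1 hh.1, fun σ => by
        rw [hh.2, hg.2]; simp [mul_assoc]⟩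
      inv_mem' := fun {g} hg => ⟨inv_mem hg.1, fun σ => by rw [hg.2 (_ * _)]; simp [mul_assoc]⟩ }
  let C : Subgroup (End k M)ˣ :=
    { carrier := {g | ∀ σ, Q k P σ → g * σ * (g⁻¹ : (End k M)ˣ) = σ}
      one_mem' := by simp
      mul_mem' := fun {g h} hg hh σ hσ => by
        conv_rhs => rw [← hg σ hσ, ← hh σ hσ]
        simp [mul_assoc]
      inv_mem' := fun {g} hg σ hσ => by
        conv_lhs => rw [← hg σ hσ]
        simp [mul_assoc] }
  have hB : ∀ g ∈ H, ∀ β, BB G P β → BB G P (g * β * (g⁻¹ : (End k M)ˣ)) := fun g hg β h =>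
    ⟨h.d.conj hg.1, fun y hy => by
      have := h.i (y * g) fun σ hσ => by
        simpa [mul_assoc] using congrArg (· * (g : End k M)) (hy _ ((hg.2 σ).1 hσ))
      rw [← mul_assoc, ← mul_assoc, this, zero_mul], fun σ hσ => by
      have := congrArg (fun z => (g : End k M) * z * (g⁻¹ : (End k M)ˣ)) (h.c _ (((inv_mem hg).2 σ).1 hσ))
      simpa [mul_assoc] using this⟩
  have hC : ∀ g ∈ H, cj g C ≤ C := fun g hg x hx σ hσ => by
    have := congrArg (fun z => (g : End k M) * z * (g⁻¹ : (End k M)ˣ)) (mem_cj.1 hx _ (((inv_mem hg).2 σ).1 hσ))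
    simpa [mul_assoc] using this
  let 𝒲 : Set (Subgroup (End k M)ˣ) := {A | ∃ β, BB G P β ∧ A = E G β ⊓ C}
  have hc : ∀ A ∈ 𝒲, ∀ g ∈ H, cj g A ∈ 𝒲 := by
    rintro _ ⟨β, h, rfl⟩ g hg
    refine ⟨_, hB g hg β h, ?_⟩
    rw [cj_inf, cj_E hg.1, le_antisymm (hC g hg) (by simpa using cj_mono (g := g) (hC _ (inv_mem hg)))]
  obtain ⟨β, hβ⟩ := exists_BB hk hPG hP hτ hα hne
  refine ⟨⨆ A ∈ 𝒲, A, iSup₂_le ?_, un_iSup (G := H) ?_ ?_ hc, fun g hg => ?_, β, hβ.d, ?_⟩
  · rintro _ ⟨β, h, rfl⟩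
    exact inf_le_left.trans h.d.le_G0
  · rintro _ ⟨β, h, rfl⟩ g hg
    refine ⟨E_le hg.1, fun σ => ⟨fun hσ => by rwa [hg.2 σ hσ], fun hσ => ?_⟩⟩
    have := (inv_mem hg.2 : g⁻¹ ∈ C) _ hσ
    simp only [inv_inv, mul_assoc, Units.inv_mul_cancel_left, Units.inv_mul, mul_one] at this
    rwa [this, ← mul_assoc]
  · rintro _ ⟨α, h, rfl⟩ _ ⟨β, h', rfl⟩
    exact (h.d.uc hk h'.d (h.nonopp hk hPG hP h')).unip.mono (sup_le_sup inf_le_left inf_le_left)
  · have hg' : g ∈ H := ⟨hg.1, fun σ => ⟨fun h => Q_conj h hg.2, fun h => by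
      simpa [mul_assoc] using Q_conj h (inv_mem hg.2)⟩⟩
    exact mem_normalizer_iff_cj.2 (cj_iSup_eq (fun A hA => hc A hA g hg') fun A hA => hc A hA _ (inv_mem hg'))
  · refine le_iSup₂_of_le (f := fun A _ => A) (E G β ⊓ C) ⟨β, hβ, rfl⟩ le_rfl ⟨un_mem.2 hβ.d.mem_cE, fun σ hσ => ?_⟩
    rw [Units.mul_inv_eq_iff_eq_mul, un_val]
    linear_combination (norm := noncomm_ring) hβ.c σ hσ

end H27.Eq
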