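import Cfsg.Agent.H27.Eq1

/-! Equivariant quadratic action, part 2: the unipotent radical `UU` of the stabilizer of a root group, its
transitivity on partners (`sameU`), common opposites (`rr_cls`) and weak closure of root groups (`uniqE`). -/

set_option autoImplicit false
set_option linter.unusedSectionVars false
set_option linter.unusedVariables false

namespace H27.Eq
open Subgroup H28 H20.QP H13.EQ LinearMap Module
open scoped commutatorElement

universe u
variable {k : Type u} [Field k] {M : Type*} [AddCommGroup M] [Module k M] [FiniteDimensional k M]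
  {G P : Subgroup (End k M)ˣ} {α β a b c x y τ σ a' b' a'' : End k M} {g e u : (End k M)ˣ}

/-- the elements of `G0 G` acting trivially on the factors of `0 < range a ≤ ker a < M` -/
def UU (G : Subgroup (End k M)ˣ) (a : End k M) : Subgroup (End k M)ˣ where
  carrier := {g | g ∈ G0 G ∧ a * g = a ∧ g * a = a ∧ ∀ y x : End k M, y * a = 0 → a * x = 0 → y * g * x = y * x}
  one_mem' := ⟨one_mem _, by simp⟩
  mul_mem' := fun {g h} hg hh => ⟨mul_mem hg.1 hh.1, by rw [Units.val_mul, ← mul_assoc, hg.2.1, hh.2.1],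
    by rw [Units.val_mul, mul_assoc, hh.2.2.1, hg.2.2.1], fun y x hy hx => by
      rw [Units.val_mul, ← mul_assoc, hh.2.2.2 (y * g) x (by rw [mul_assoc, hg.2.2.1, hy]) hx, hg.2.2.2 y x hy hx]⟩
  inv_mem' := fun {g} hg => by
    have h2 : ((g⁻¹ : (End k M)ˣ) : End k M) * a = a := by rw [Units.inv_mul_eq_iff_eq_mul, hg.2.2.1]
    refine ⟨inv_mem hg.1, by rw [Units.mul_inv_eq_iff_eq_mul, hg.2.1], h2, fun y x hy hx => ?_⟩
    rw [← hg.2.2.2 (y * (g⁻¹ : (End k M)ˣ)) x (by rw [mul_assoc, h2, hy]) hx]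
    simp [mul_assoc]

theorem UU_cE (hu : u ∈ UU G a) (hx : x ∈ cE G a) : x * u = x ∧ u * x = x :=
  ⟨by have := zl (cE_k hx) (y := (u : End k M) - 1) (by rw [mul_sub, hu.2.1, mul_one, sub_self])
      linear_combination (norm := noncomm_ring) this,
   by have := zr (cE_r hx) (x := (u : End k M) - 1) (by rw [sub_mul, hu.2.2.1, one_mul, sub_self])
      linear_combination (norm := noncomm_ring) this⟩

theorem UU_eq (h : D G a) (hx : x ∈ cE G a) (h0 : x ≠ 0) : UU G x = UU G a := by
  have key : ∀ {a x}, D G a → x ∈ cE G a → x ≠ 0 → UU G a ≤ UU G x := fun h hx h0 u hu =>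
    ⟨hu.1, (UU_cE hu hx).1, (UU_cE hu hx).2, fun y z hy hz => hu.2.2.2 y z (zr (h.of_cE hx h0).2.1.ge hy)
      (zl (h.of_cE hx h0).2.2.le hz)⟩
  exact le_antisymm (key (h.of_cE hx h0).1 (h.cE_eq hx h0 ▸ h.mem_cE) h.ne) (key h hx h0)

theorem E_le_UU (h : D G a) : E G a ≤ UU G a := fun g hg => by
  obtain ⟨x, hx, rfl⟩ := E_cases hg
  refine ⟨h.le_G0 hg, by simp [mul_add, cE_mul h.mem_cE hx], by simp [add_mul, cE_mul hx h.mem_cE], fun y z hy hz => ?_⟩
  simp [mul_add, zr (cE_r hx) hy]

theorem cj_UU (hg : g ∈ G) : cj g (UU G a) = UU G (g * a * (g⁻¹ : (End k M)ˣ)) := by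
  have key : ∀ {g a u}, g ∈ G → u ∈ UU G a → g * u * g⁻¹ ∈ UU G (g * a * (g⁻¹ : (End k M)ˣ)) := fun {g a u} hg hu =>
    ⟨conj_G0 hg hu.1, by simp [mul_assoc, ← mul_assoc a, hu.2.1], by
      simpa [mul_assoc] using congrArg (fun z => (g : End k M) * z * (g⁻¹ : (End k M)ˣ)) hu.2.2.1,
      fun y x hy hx => by
      have := hu.2.2.2 (y * g) ((g⁻¹ : (End k M)ˣ) * x)
        (by simpa [mul_assoc] using congrArg (· * (g : End k M)) hy)
        (by simpa [mul_assoc] using congrArg (((g⁻¹ : (End k M)ˣ) : End k M) * ·) hx)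
      simpa [mul_assoc] using this⟩
  ext u
  rw [mem_cj]
  exact ⟨fun h => by simpa [mul_assoc] using key hg h, fun h => by simpa [mul_assoc] using key (inv_mem hg) h⟩

theorem norm_UU (h : D G a) (hg : g ∈ G) (e : cj g (E G a) = E G a) : cj g (UU G a) = UU G a := by
  rw [cj_UU hg, UU_eq h (cE_of_cj hg h e) (h.conj hg).ne]

theorem UU_nil (hu : u ∈ UU G a) : ((u : End k M) - 1) ^ 3 = 0 := by
  have := hu.2.2.2 (u - 1) (u - 1) (by rw [sub_mul, hu.2.2.1, one_mul, sub_self])
    (by rw [mul_sub, hu.2.1, mul_one, sub_self])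
  linear_combination (norm := noncomm_ring) this

theorem same_eps' (hk : Big k) (p : Pt G a b) (q : Pt G a b') (e : a * b' + b' * a = a * b + b * a) :
    ∃ γ ∈ cE G a, b' = (1 + γ) * b * (1 - γ) := by
  set γ := a * b - a * b' with hγ
  have h1 : γ = b' * a - b * a := by linear_combination (norm := noncomm_ring) hγ - e
  have ga : γ * a = 0 := by rw [h1, sub_mul, mul_assoc, mul_assoc, p.a.sq]; simp
  have ag : a * γ = 0 := by rw [hγ, mul_sub, p.a.sq', p.a.sq']; simp
  have gg : γ * γ = 0 := by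
    nth_rewrite 2 [hγ]
    rw [mul_sub, ← mul_assoc, ← mul_assoc, ga]; simp
  have hb : b' = (1 + γ) * b * (1 - γ) := by
    have h2 : b * (1 - γ) = b * a * b' := by rw [hγ]; linear_combination (norm := noncomm_ring) -p.bab
    rw [mul_assoc, h2, h1]
    linear_combination (norm := noncomm_ring) -q.bab - b' * p.aba * b' + b * p.aba * b'
  have key : ∀ l : k, (γ + l • a) * b' * (γ + l • a) ∈ cE G a := fun l => by
    set c := γ + l • a with hc
    have ca : c * a = 0 := by simp [hc, add_mul, ga, p.a.sq]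
    have ac : a * c = 0 := by simp [hc, mul_add, ag, p.a.sq]
    have cg : c * γ = 0 := by simp [hc, add_mul, gg, ag]
    have gc : γ * c = 0 := by simp [hc, mul_add, gg, ga]
    have cc : c * c = 0 := by nth_rewrite 2 [hc]; simp [mul_add, cg, ca]
    have cr : range c ≤ range a := by
      rw [show c = a * (b - b' + l • 1) by simp [hc, hγ, mul_add, mul_sub]]; exact rml _ _
    have ck : ker a ≤ ker c := by
      rw [show c = (b' - b + l • 1) * a by simp [hc, h1, add_mul, sub_mul]]; exact kml _ _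
    have u1 : a * b * c = c := by
      have := zr cr (x := a * b - 1) (by linear_combination (norm := noncomm_ring) p.aba)
      linear_combination (norm := noncomm_ring) this
    have u2 : c * b * a = c := by
      have := zl ck (y := b * a - 1) (by linear_combination (norm := noncomm_ring) p.aba)
      linear_combination (norm := noncomm_ring) this
    have hd := p.b.conj' (p.a.toQ.smul (-l))
    set d := (1 + (-l) • a) * b * (1 - (-l) • a) with hdd
    have ada : a * d * a = a := by simp [hdd, mul_add, add_mul, mul_assoc, p.a.sq, p.a.sq', p.aba]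
    have adc : a * d * c = c := by
      simpa [hdd, mul_add, add_mul, mul_assoc, p.a.sq, p.a.sq', ac] using u1
    have cda : c * d * a = c := by
      have : ∀ x, c * (a * x) = 0 := fun x => by rw [← mul_assoc, ca, zero_mul]
      simpa [hdd, mul_add, add_mul, mul_assoc, p.a.sq, p.a.sq', this] using u2
    have e1 : (1 + c) * (1 + (-l) • a) = 1 + γ := by simp [mul_add, add_mul, ca]; rw [hc]; abel
    have e2 : (1 - (-l) • a) * (1 - c) = 1 - γ := by simp [mul_sub, add_mul, ac]; simp [hc]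
    have hb' : b' = (1 + c) * d * (1 - c) := by
      rw [hb, hdd, ← e1, ← e2]; simp only [mul_assoc]
    by_cases hne : d * b' * d = 0
    · have h2 : d * c * d * c * d = 0 := by
        rw [hb'] at hne
        linear_combination (norm := noncomm_ring) -hne + hd.sq * (1 - c) * d + d * c * hd.sq
      have h3 : c * d * c = 0 := by
        have := congrArg (fun x => a * x * a) h2
        simp only [mul_zero, zero_mul] at this
        rw [← this]
        calc c * d * c = (a * d * c) * d * (c * d * a) := by rw [adc, cda]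
          _ = _ := by simp only [mul_assoc]
      have : c * b' * c = 0 := by
        rw [hb']
        linear_combination (norm := noncomm_ring) h3 + cc * d * (1 - c) * c - c * d * cc
      rw [this]; exact zero_mem _
    · obtain ⟨y, hy, y1, y2⟩ := hd.partner hk q.b hne
      have y0 : y ≠ 0 := fun e => hd.ne (by rw [← y1, e]; simp)
      obtain ⟨x, hx, r⟩ := ptn hk q.symm hy y0
      have d1 : d * (1 - c) * y = 0 := zr (cE_r hy) (by
        rw [hb']; linear_combination (norm := noncomm_ring) hd.sq * (1 - c) - d * cc * d * (1 - c))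
      have d2 : y * ((1 + c) * d) = 0 := zl (cE_k hy) (by
        rw [hb']; linear_combination (norm := noncomm_ring) (1 + c) * hd.sq - (1 + c) * d * cc * d)
      have h2 : c * y * c = -a := by
        have : d * c * y * c * d = -d := by
          linear_combination (norm := noncomm_ring) -y1 - d1 * c * d + d * d2
        calc c * y * c = (a * d * c) * y * (c * d * a) := by rw [adc, cda]
          _ = a * (d * c * y * c * d) * a := by simp only [mul_assoc]
          _ = _ := by rw [this, mul_neg, neg_mul, ada]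
      have u3 : a * b' * c = c := by
        have := zr cr (x := a * b' - 1) (by linear_combination (norm := noncomm_ring) q.aba)
        linear_combination (norm := noncomm_ring) this
      have x0 := q.a.of_cE hx r.b.ne
      have u4 : c * y * x = c := by
        have := zl (x0.2.2.le.trans ck) (y := y * x - 1) (by linear_combination (norm := noncomm_ring) r.bab)
        linear_combination (norm := noncomm_ring) this
      have h3 : c * y * (c * b' * c + x) = 0 := by
        linear_combination (norm := noncomm_ring) h2 * b' * c - u3 + u4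
      have h4 : c * b' * c + x = 0 := by
        have r1 : range (c * b' * c + x) ≤ range (c * (y * c)) := by
          rw [← mul_assoc c y, h2, range_neg]
          rintro _ ⟨m, rfl⟩
          exact add_mem (cr ⟨_, rfl⟩) (cE_r hx ⟨_, rfl⟩)
        ext m
        obtain ⟨m', hm⟩ := r1 ⟨m, rfl⟩
        have h5 : a (y (c m')) = 0 := by
          have := congrArg (· m) h3
          simp only [End.mul_apply (c * y), ← hm] at this
          have h6 := congrArg (· (y (c m'))) h2
          simp only [End.mul_apply, LinearMap.neg_apply, LinearMap.zero_apply] at h6 this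
          rw [this] at h6
          exact neg_eq_zero.1 h6.symm
        rw [← hm]
        exact ck h5
      rw [eq_neg_of_add_eq_zero_left h4]
      exact neg_mem hx
  have hg : γ ∈ cE G a := by
    have := Submodule.smul_mem _ (2 : k)⁻¹ (sub_mem (sub_mem (key 1) (key 0)) p.a.mem_cE)
    have u3 : a * b' * γ = γ := by rw [hγ]; linear_combination (norm := noncomm_ring) q.aba * b - q.aba * b'
    have u4 : γ * b' * a = γ := by rw [h1]; linear_combination (norm := noncomm_ring) b' * q.aba - b * q.aba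
    rwa [show (γ + (1 : k) • a) * b' * (γ + (1 : k) • a) - (γ + (0 : k) • a) * b' * (γ + (0 : k) • a) - a = (2 : k) • γ by
      rw [one_smul, zero_smul, two_smul]
      linear_combination (norm := noncomm_ring) u3 + u4 + q.aba, smul_smul, inv_mul_cancel₀ hk.two, one_smul] at this
  exact ⟨γ, hg, hb⟩

theorem sameU [Finite M] (hk : Big k) (p : Pt G a b) (q : Pt G a b') :
    ∃ u ∈ UU G a, u * b' * (u⁻¹ : (End k M)ˣ) = b := by
  have : Finite (End k M) := Finite.of_injective _ DFunLike.coe_injective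
  set ε := a * b + b * a with hε
  set ε' := a * b' + b' * a with hε'
  have h1 := p.ea p.a.mem_cE
  have h2 := q.ea q.a.mem_cE
  have ee := p.ee
  have ee' := q.ee
  rw [← hε] at h1 ee
  rw [← hε'] at h2 ee'
  have z1 := nn_sq p
  have z2 := nn_sq q
  rw [← hε] at z1
  rw [← hε'] at z2
  have zm : nn p * nn p ∈ G0 G := mul_mem (nn_mem p) (nn_mem p)
  have wm : nn q * nn q ∈ G0 G := mul_mem (nn_mem q) (nn_mem q)
  set z := nn p * nn p
  set w := nn q * nn q
  have zz : z * z = 1 := Units.ext (by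
    rw [Units.val_mul, z1, Units.val_one]; linear_combination (norm := noncomm_ring) 4 • ee)
  have ww : w * w = 1 := Units.ext (by
    rw [Units.val_mul, z2, Units.val_one]; linear_combination (norm := noncomm_ring) 4 • ee')
  set ν := ((z * w : (End k M)ˣ) : End k M) - 1 with hν
  have hν' : ν = -(ε + ε) - (ε' + ε') + (ε + ε) * (ε' + ε') := by
    rw [hν, Units.val_mul, z1, z2]; noncomm_ring
  have an : a * ν = 0 := by
    rw [hν']
    linear_combination (norm := noncomm_ring) -(2 • h1.2) + 2 • h2.2 + 2 • h1.2 * (ε' + ε')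
  have na : ν * a = 0 := by
    rw [hν']
    linear_combination (norm := noncomm_ring) 2 • h1.1 - 2 • h2.1 + 2 • (ε + ε) * h2.1
  have nil : ν * ν * ν = 0 := by
    have e1 : ε * ν = a * (b * ν) := by rw [hε]; linear_combination (norm := noncomm_ring) b * an
    have e2 : ε' * ν = a * (b' * ν) := by rw [hε']; linear_combination (norm := noncomm_ring) b' * an
    have : ν * ν = a * (-(b * ν + b * ν) + (b' * ν + b' * ν)) := by
      nth_rewrite 1 [hν']
      linear_combination (norm := noncomm_ring) -(2 • e1) - 2 • e2 + 4 • ε * e2 + 4 • h1.1 * (b' * ν)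
    rw [mul_assoc, this, ← mul_assoc, na, zero_mul]
  obtain ⟨n, hn⟩ := dih zz ww (odd_of_nil hk.two (isOfFinOrder_of_finite _) ⟨3, by rw [← hν, pow_three', nil]⟩)
  have um : (z * w) ^ n ∈ UU G a := pow_mem (show z * w ∈ UU G a from ⟨mul_mem zm wm,
    by linear_combination (norm := noncomm_ring) an - a * hν, by linear_combination (norm := noncomm_ring) na - hν * a,
    fun y x hy hx => by
      have e1 : y * ε * x = 0 := by rw [hε]; linear_combination (norm := noncomm_ring) hy * b * x + y * b * hx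
      have e2 : y * ε' * x = 0 := by rw [hε']; linear_combination (norm := noncomm_ring) hy * b' * x + y * b' * hx
      have e3 : y * ε * ε' * x = 0 := by
        rw [hε, hε']
        linear_combination (norm := noncomm_ring) hy * b * (a * b' + b' * a) * x + y * b * p.a.sq * b' * x +
          y * b * a * b' * hx
      linear_combination (norm := noncomm_ring) y * hν' * x - y * hν * x - 2 • e1 - 2 • e2 + 4 • e3⟩) n
  have ca : Commute ((z * w : (End k M)ˣ) : End k M) a := by
    rw [show ((z * w : (End k M)ˣ) : End k M) = ν + 1 by rw [hν]; abel]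
    exact Commute.add_left (na.trans an.symm) (Commute.one_left _)
  have ua : (((z * w) ^ n : (End k M)ˣ) : End k M) * a * ((((z * w) ^ n)⁻¹ : (End k M)ˣ) : End k M) = a := by
    rw [Units.mul_inv_eq_iff_eq_mul, Units.val_pow_eq_pow_val]
    exact (ca.pow_left n).eq
  set g := (z * w) ^ n
  have r := pt_conj q (G0_le um.1)
  rw [ua] at r
  refine (same_eps' hk p r ?_).elim fun γ ⟨hγ, e⟩ => ⟨(un γ hγ.1.sq)⁻¹ * g,
    mul_mem (inv_mem (E_le_UU p.a (un_mem.2 hγ))) um, by
      rw [mul_inv_rev, inv_inv, Units.val_mul, Units.val_mul, un_inv, un_val, mul_assoc (1 - γ), mul_assoc (1 - γ),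
        ← mul_assoc (_ * b'), e]
      linear_combination (norm := noncomm_ring) -hγ.1.sq * b * (1 - γ) * (1 + γ) - b * hγ.1.sq⟩
  have h3 := congrArg Units.val hn
  rw [Units.val_mul, Units.val_mul, z1, z2] at h3
  have h4 : (2 : k) • ((g : End k M) * ε' * (g⁻¹ : (End k M)ˣ) - ε) = 0 := by
    rw [two_smul]
    linear_combination (norm := noncomm_ring) g.mul_inv - h3
  rw [smul_eq_zero_iff_right hk.two, sub_eq_zero] at h4
  rw [← hε, ← h4, hε']
  nth_rewrite 1 2 [← ua]
  simp [mul_add, add_mul, mul_assoc]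

theorem two_poly {V : Type*} [AddCommGroup V] [Module k V] (h5 : 4 < Cardinal.mk k) {u₀ u₁ u₂ v₀ v₁ v₂ : V}
    (hu : ¬ (u₀ = 0 ∧ u₁ = 0 ∧ u₂ = 0)) (hv : ¬ (v₀ = 0 ∧ v₁ = 0 ∧ v₂ = 0)) :
    ∃ t : k, u₀ + t • u₁ + t ^ 2 • u₂ ≠ 0 ∧ v₀ + t • v₁ + t ^ 2 • v₂ ≠ 0 := by
  have key : ∀ {u₀ u₁ u₂ : V}, ¬ (u₀ = 0 ∧ u₁ = 0 ∧ u₂ = 0) → ∃ f : Polynomial k, f ≠ 0 ∧ f.natDegree ≤ 2 ∧
      ∀ t, f.eval t ≠ 0 → u₀ + t • u₁ + t ^ 2 • u₂ ≠ 0 := fun {u₀ u₁ u₂} h => by
    obtain ⟨φ, hφ⟩ : ∃ φ : Dual k V, ¬ (φ u₀ = 0 ∧ φ u₁ = 0 ∧ φ u₂ = 0) := by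
      by_contra hc
      push Not at hc
      exact h ⟨(forall_dual_apply_eq_zero_iff k _).1 fun φ => (hc φ).1,
        (forall_dual_apply_eq_zero_iff k _).1 fun φ => (hc φ).2.1,
        (forall_dual_apply_eq_zero_iff k _).1 fun φ => (hc φ).2.2⟩
    refine ⟨.C (φ u₂) * .X ^ 2 + .C (φ u₁) * .X + .C (φ u₀), fun e => hφ ⟨?_, ?_, ?_⟩,
      Polynomial.natDegree_quadratic_le, fun t ht e => ht ?_⟩
    · simpa using congrArg (·.coeff 0) e
    · simpa using congrArg (·.coeff 1) e
    · simpa [Polynomial.coeff_X, Polynomial.coeff_C] using congrArg (·.coeff 2) e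
    · have := congrArg φ e
      simp only [map_add, map_smul, map_zero, smul_eq_mul] at this
      simp only [Polynomial.eval_add, Polynomial.eval_mul, Polynomial.eval_C, Polynomial.eval_pow, Polynomial.eval_X]
      linear_combination this
  obtain ⟨f, f0, f1, f2⟩ := key hu
  obtain ⟨g, g0, g1, g2⟩ := key hv
  obtain ⟨t, ht⟩ := (f * g).exists_eval_ne_zero_of_natDegree_lt_card (mul_ne_zero f0 g0) (lt_of_le_of_lt (by
    exact_mod_cast (Polynomial.natDegree_mul_le.trans (add_le_add f1 g1) : _ ≤ 4)) h5)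
  rw [Polynomial.eval_mul, mul_ne_zero_iff] at ht
  exact ⟨t, f2 t ht.1, g2 t ht.2⟩

/-- there is a common opposite root -/
def RR (G : Subgroup (End k M)ˣ) (a a' : End k M) : Prop := ∃ c, D G c ∧ a * c * a ≠ 0 ∧ a' * c * a' ≠ 0

theorem common (h5 : 4 < Cardinal.mk k) (hc : D G c) (hy : Q k G y)
    (h1 : ¬ (a * c * a = 0 ∧ a * (y * c - c * y) * a = 0 ∧ -(a * (y * c * y) * a) = 0))
    (h2 : ¬ (a' * c * a' = 0 ∧ a' * (y * c - c * y) * a' = 0 ∧ -(a' * (y * c * y) * a') = 0)) : RR G a a' := by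
  obtain ⟨t, t1, t2⟩ := two_poly h5 h1 h2
  have e : ∀ a : End k M, a * ((1 + t • y) * c * (1 - t • y)) * a =
      a * c * a + t • (a * (y * c - c * y) * a) + t ^ 2 • -(a * (y * c * y) * a) := fun a => by
    simp only [mul_add, add_mul, mul_sub, sub_mul, mul_one, one_mul, smul_mul_assoc, mul_smul_comm, smul_sub, smul_add,
      smul_neg, smul_smul, pow_two, mul_assoc]
    abel
  exact ⟨_, hc.conj' (hy.smul t), by rwa [e], by rwa [e]⟩

theorem rr_path (hk : Big k) (h5 : 4 < Cardinal.mk k) (hb : D G b) (hb' : D G b') (ha' : D G a') (h1 : a * b * a ≠ 0)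
    (h2 : b' * b * b' ≠ 0) (h3 : a' * b' * a' ≠ 0) : RR G a a' :=
  common h5 hb hb'.toQ (fun h => h1 h.1) fun h => ha'.opp_of_mem hk hb' h3 ha'.mem_cE ha'.ne
    ((mem_cE hb'.sq).2 ⟨hq hk hb hb'.toQ, by rw [mul_assoc]; exact rml _ _, kml _ _⟩) h2 (neg_eq_zero.1 h.2.2)

theorem RR.trans (hk : Big k) (h5 : 4 < Cardinal.mk k) (ha' : D G a') (ha'' : D G a'') (h : RR G a a')
    (h' : RR G a' a'') : RR G a a'' := by
  obtain ⟨c, hc, c1, c2⟩ := h
  obtain ⟨c', hc', c3, c4⟩ := h'
  obtain ⟨d, hd, d1, d2⟩ := rr_path hk h5 hc ha' hc' c1 c2 (ha'.opp_symm hk hc' c3)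
  exact rr_path hk h5 hd hc' ha'' d1 d2 c4

theorem rr_cls (hk : Big k) (h5 : 4 < Cardinal.mk k) (hG : NU k G) (ha : D G a) (h : E G a' ∈ cls G (E G a)) :
    RR G a a' := by
  let H : Subgroup (End k M)ˣ :=
    { carrier := {g | g ∈ G ∧ ∀ a, D G a → RR G a (g * a * (g⁻¹ : (End k M)ˣ))}
      one_mem' := ⟨one_mem _, fun a ha => by
        obtain ⟨c, hc, e⟩ := ha.exists_opp hk hG
        exact ⟨c, hc, e, by simpa using e⟩⟩
      mul_mem' := fun {g h} hg hh => ⟨mul_mem hg.1 hh.1, fun a ha => (hh.2 a ha).trans hk h5 (ha.conj hh.1)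
        (ha.conj (mul_mem hg.1 hh.1)) (by simpa [mul_assoc] using hg.2 _ (ha.conj hh.1))⟩
      inv_mem' := fun {g} hg => ⟨inv_mem hg.1, fun a ha => by
        obtain ⟨c, hc, e1, e2⟩ := hg.2 _ (ha.conj (inv_mem hg.1))
        exact ⟨c, hc, by simpa [mul_assoc] using e2, e1⟩⟩ }
  have hH : G0 G ≤ H := iSup₂_le (by
    rintro _ ⟨β, hβ, rfl⟩ g hg
    obtain ⟨y, hy, rfl⟩ := E_cases hg
    refine ⟨E_le hg, fun a ha => ?_⟩
    obtain ⟨c, hc, e⟩ := ha.exists_opp hk hG
    refine common h5 hc hy.1 (fun h => e h.1) fun h => e ?_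
    rw [un_val, un_inv] at h
    have h1 := congrArg (fun z => (1 - y) * z * (1 + y)) (show (1 + y) * a * (1 - y) * ((1 + y) * c * (1 - y)) *
      ((1 + y) * a * (1 - y)) = 0 by linear_combination (norm := noncomm_ring) h.1 + h.2.1 + h.2.2)
    have e1 : ∀ z, (1 - y) * ((1 + y) * z) = z := fun z => by linear_combination (norm := noncomm_ring) -hy.1.sq * z
    have e2 : (1 - y) * (1 + y) = 1 := by linear_combination (norm := noncomm_ring) -hy.1.sq
    simpa only [mul_assoc, e1, e2, mul_one, mul_zero, zero_mul] using h1)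
  obtain ⟨g, hg, e⟩ := h
  obtain ⟨c, hc, e1, e2⟩ := (hH hg).2 a ha
  have m := cE_of_cj (G0_le hg) ha e
  exact ⟨c, hc, e1, fun h => e2 (by rw [mul_assoc]; exact mid_zero h m m)⟩

theorem J0 (hk : Big k) (hG : NU k G) (h : Q k (G0 G) τ) (h0 : ∀ c, D G c → c * τ * c = 0) : τ = 0 := by
  have := hG.of_norm G0_le (fun g hg => G0_cj hg) (E G τ ⊓ G0 G ⊓ centralizer (G0 G : Set (End k M)ˣ))
    (inf_le_left.trans inf_le_right) (un_E.mono (inf_le_left.trans inf_le_left)) fun g hg =>
      mem_normalizer_iff_cj.1 (centralizer_le_normalizer _ fun x hx => (hx.2 g hg).symm)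
  exact (un_eq_one (h := h.sq)).1 (this.le ⟨⟨un_mem.2 (h.mono G0_le).mem_cE, h.one⟩, fun g hg =>
    (comm_commute (N0_comm hk hG) hg (un_N0 (h.mono G0_le) h0)).eq⟩)

theorem uniq (hk : Big k) (hG : NU k G) (p : Pt G a b) (ha' : D G a') (hc : a * a' = a' * a)
    (h0 : ∀ c, D G c → c * (a' - a) * c = 0) : a' = a := by
  have h2 : ∀ x : End k M, x + x = 0 → x = 0 := fun x h => by
    rwa [← two_smul k, smul_eq_zero_iff_right hk.two] at h
  have J : ∀ {x : End k M} {g : (End k M)ˣ}, g ∈ G → (∀ c, D G c → c * x * c = 0) →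
      ∀ c, D G c → c * (g * x * (g⁻¹ : (End k M)ˣ)) * c = 0 := fun {x g} hg hx c hc => by
    simpa [mul_assoc] using congrArg (fun z => (g : End k M) * z * (g⁻¹ : (End k M)ˣ)) (hx _ (hc.conj (inv_mem hg)))
  have zm : nn p * nn p ∈ G := G0_le (mul_mem (nn_mem p) (nn_mem p))
  have z1 := nn_sq p
  have ee := p.ee
  have ea := p.ea p.a.mem_cE
  have eb := p.symm.ea p.b.mem_cE
  rw [add_comm] at eb
  obtain ⟨ε, hε⟩ : ∃ ε, ε = a * b + b * a := ⟨_, rfl⟩
  rw [← hε] at z1 ee ea eb
  have z2 : (((nn p * nn p)⁻¹ : (End k M)ˣ) : End k M) = 1 - (ε + ε) := Units.inv_eq_of_mul_eq_one_right (by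
    rw [z1]; linear_combination (norm := noncomm_ring) 4 • ee)
  have d := ha'.conj zm
  have j := J zm h0
  rw [z1, z2] at d j
  obtain ⟨a'', ha''⟩ : ∃ a'', a'' = (1 - (ε + ε)) * a' * (1 - (ε + ε)) := ⟨_, rfl⟩
  rw [show (1 - (ε + ε)) * (a' - a) * (1 - (ε + ε)) = a'' - a by
    linear_combination (norm := noncomm_ring) -ha'' + 2 • ea.1 - 2 • ea.2 - 4 • ea.1 * ε] at j
  rw [← ha''] at d
  have s1 : a * a'' = a * a' := by
    linear_combination (norm := noncomm_ring) a * ha'' - 2 • ea.2 * a' * (1 - (ε + ε)) - hc * (1 - (ε + ε)) +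
      2 • a' * ea.2 - hc
  have s2 : a'' * a = a * a' := by
    linear_combination (norm := noncomm_ring) ha'' * a - 2 • (1 - (ε + ε)) * a' * ea.1 + (1 - (ε + ε)) * hc +
      2 • ea.1 * a'
  have aa : a' * a'' * a' = 0 := by
    linear_combination (norm := noncomm_ring) j a' ha' - hc * a' + a * ha'.sq
  have cm : a' * a'' = a'' * a' := by
    rcases (ha'.uc hk d aa).comm_or with h | h
    · exact comm_val h ha'.mem_cE d.mem_cE
    obtain ⟨β, hβ, e⟩ := h.d.exists_opp hk hG
    refine absurd ?_ (h.d.opp_symm hk hβ e)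
    have j1 : ∀ c, D G c → c * (a'' - a') * c = 0 := fun c hc => by
      linear_combination (norm := noncomm_ring) j c hc - h0 c hc
    have := J ha'.one j1 β hβ
    rw [un_val, un_inv] at this
    linear_combination (norm := noncomm_ring) this - j1 β hβ + β * aa * β - β * ha'.sq * a' * β
  obtain ⟨η, hη⟩ : ∃ η, η = a' - a'' := ⟨_, rfl⟩
  obtain ⟨θ, hθ⟩ : ∃ θ, θ = a' + a'' - (a + a) := ⟨_, rfl⟩
  have jθ : ∀ c, D G c → c * θ * c = 0 := fun c hc => by
    linear_combination (norm := noncomm_ring) c * hθ * c + j c hc + h0 c hc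
  have a1 : a * η = 0 := by linear_combination (norm := noncomm_ring) a * hη - s1
  have a2 : η * a = 0 := by linear_combination (norm := noncomm_ring) hη * a - s2 - hc
  have z3 : (1 - (ε + ε)) * a'' = a' * (1 - (ε + ε)) := by
    linear_combination (norm := noncomm_ring) (1 - (ε + ε)) * ha'' + 4 • ee * a' * (1 - (ε + ε))
  have z4 : a'' * (1 - (ε + ε)) = (1 - (ε + ε)) * a' := by
    linear_combination (norm := noncomm_ring) ha'' * (1 - (ε + ε)) + 4 • (1 - (ε + ε)) * a' * ee
  have a3 : η - ε * η - η * ε = 0 := h2 _ (by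
    linear_combination (norm := noncomm_ring) (1 - (ε + ε)) * hη + hη * (1 - (ε + ε)) - z3 - z4)
  have a4 : ε * θ - θ * ε = 0 := h2 _ (by
    linear_combination (norm := noncomm_ring) 2 • ε * hθ - 2 • hθ * ε - z3 + z4 - 4 • ea.1 + 4 • ea.2)
  have a5 : η * ε * η = 0 := by linear_combination (norm := noncomm_ring) η * hε * η + a2 * b * η + η * b * a1
  have a6 : η * η = a * b * (η * η) := by
    linear_combination (norm := noncomm_ring) a3 * η + a5 + hε * η * η + b * a1 * η
  have a7 : η * η = η * η * (b * a) := by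
    linear_combination (norm := noncomm_ring) η * a3 + a5 + η * η * hε + η * a2 * b
  have t1 : θ * θ = 2 • (a' * a'') - 8 • (a * a') := by
    rw [hθ]
    linear_combination (norm := noncomm_ring) ha'.sq + d.sq - cm + 4 • p.a.sq - 2 • s1 - 2 • s2 + 2 • hc
  have t2 : η * η = -(2 • (a' * a'')) := by
    rw [hη]; linear_combination (norm := noncomm_ring) ha'.sq + d.sq + cm
  have t3 : b * (θ * θ) * b = 0 := by
    linear_combination (norm := noncomm_ring) -b * θ * θ * eb.1 - b * θ * a4 * b + b * θ * hε * θ * b +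
      b * θ * a * jθ b p.b + jθ b p.b * a * θ * b
  have t4 : θ * θ = 0 := by
    have u1 : θ * θ = a * b * (θ * θ) := by
      linear_combination (norm := noncomm_ring) t1 - a * b * t1 + t2 - a * b * t2 - a6 + 8 • p.aba * a'
    have u2 : θ * θ = θ * θ * (b * a) := by
      linear_combination (norm := noncomm_ring) t1 - t1 * (b * a) + t2 - t2 * (b * a) - a7 + 8 • a' * p.aba +
        8 • hc * (b * a) - 8 • hc
    linear_combination (norm := noncomm_ring) u1 + a * b * u2 + a * t3 * a
  have t5 : a' * a'' - 4 • (a * a') = 0 := h2 _ (by linear_combination (norm := noncomm_ring) t4 - t1)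
  have q1 : Q k (G0 G) a := Q_of_cE p.a.mem_cE p.a.le_G0
  have q2 : Q k (G0 G) a' := Q_of_cE ha'.mem_cE ha'.le_G0
  have q3 : Q k (G0 G) a'' := Q_of_cE d.mem_cE d.le_G0
  have t6 := J0 hk hG (τ := θ) ⟨t4, fun t => by
    have := ((q2.mem t).mul (q3.mem t)).mul (q1.mem (-(t + t)))
    rwa [show (1 + t • a') * (1 + t • a'') * (1 + (-(t + t)) • a) = 1 + t • θ + (t * t) • (a' * a'' - 4 • (a * a')) +
      (2 * t * t) • ((a * a' - a'' * a) + (a * a' - a' * a)) - (2 * t * t * t) • (a' * (a'' * a)) by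
        simp only [hθ, mul_add, add_mul, mul_one, one_mul, smul_mul_assoc, mul_smul_comm, mul_assoc]
        module, t5, s2, ← hc, show a' * (a * a') = 0 by rw [hc, ha'.sq'], sub_self, add_zero, smul_zero, smul_zero,
        smul_zero, add_zero, add_zero, sub_zero] at this⟩ jθ
  have t7 : a * a' = 0 := h2 _ (by linear_combination (norm := noncomm_ring) a * t6 - a * hθ - s1 + 2 • p.a.sq)
  exact sub_eq_zero.1 (J0 hk hG (q2.sub q1 (hc ▸ t7) t7) h0)

theorem uniqE [Finite M] {p : ℕ} [Fact p.Prime] (hk : Big k) (hG : NU k G) (ha : D G a) (ha' : D G a')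
    (hU : IsPGroup p (UU G a)) (hE : IsPGroup p (E G a')) (hR : RR G a a')
    (h1 : UU G a ≤ normalizer (E G a' : Set (End k M)ˣ)) (h2 : UU G a' ≤ normalizer (E G a : Set (End k M)ˣ)) :
    E G a = E G a' := by
  have : Finite (End k M) := Finite.of_injective _ DFunLike.coe_injective
  obtain ⟨⟨g, hg, hg'⟩, g1⟩ := ne_bot_iff_exists_ne_one.1 (H1.inf_centralizer_ne_bot_of_isPGroup hU hE h1 ha'.E_ne_bot)
  obtain ⟨x, hx, rfl⟩ := E_cases hg
  have x0 : x ≠ 0 := fun e => g1 (Subtype.ext ((un_eq_one (h := hx.1.sq)).2 e))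
  have dx := (ha'.of_cE hx x0).1
  obtain ⟨c, hc, c1, c2⟩ := hR
  obtain ⟨b, q, hb⟩ := dx.exists_pt hk hc (ha'.opp_of_mem hk hc c2 hx x0 hc.mem_cE hc.ne)
  obtain ⟨y, r, hy⟩ := q.b.exists_pt hk ha (hc.opp_of_mem hk ha (ha.opp_symm hk hc c1) (cE_of_E hb ▸ q.b.mem_cE) q.b.ne
    ha.mem_cE ha.ne)
  have hy' : y ∈ cE G a := cE_of_E hy ▸ r.b.mem_cE
  have cm := comm_of_norm hk ha ha' (un_mem (h := ha.sq).2 ha.mem_cE) (fun e => ha.ne (un_eq_one.1 e))
    (mem_normalizer_iff_cj.1 (h1 (E_le_UU ha (un_mem.2 ha.mem_cE))))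
  rw [← hy, ← ha'.E_eq hx x0, uniq hk hG r.symm dx (comm_val cm hy' hx) fun d hd => ?_]
  by_cases h3 : y * d * y = 0
  · have h4 : x * d * x = 0 := by
      by_contra h4
      obtain ⟨b₂, q₂, hb₂⟩ := dx.exists_pt hk hd h4
      obtain ⟨u, hu, e⟩ := sameU hk q q₂
      rw [UU_eq ha' hx x0] at hu
      have m := cE_of_cj (inv_mem (G0_le hu.1)) r.b (hy ▸ mem_normalizer_iff_cj.1 (inv_mem (h2 hu)) :
        cj u⁻¹ (E G y) = E G y)
      have := (r.b.uc hk hd h3).aba _ m b₂ (cE_of_E hb₂ ▸ q₂.b.mem_cE) _ m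
      refine r.symm.opp ?_
      rw [← e]
      simpa [mul_assoc] using congrArg (fun z => (u : End k M) * z * (u⁻¹ : (End k M)ˣ)) this
    have e1 := (r.b.uc hk hd h3).bab d hd.mem_cE y r.b.mem_cE d hd.mem_cE
    have e2 := (dx.uc hk hd h4).bab d hd.mem_cE x dx.mem_cE d hd.mem_cE
    linear_combination (norm := noncomm_ring) e2 - e1
  · obtain ⟨b₁, q₁, hb₁⟩ := r.b.exists_pt hk hd h3
    obtain ⟨u, hu, e⟩ := sameU hk r.symm q₁
    rw [UU_eq ha hy' r.b.ne] at hu
    have e1 := UU_cE hu hy'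
    have e2 := congrArg Units.val (hg' u hu)
    simp only [Units.val_mul, un_val] at e2
    have e3 : (u : End k M) * b₁ = b * u := by rw [← e]; simp [mul_assoc]
    have e4 : b₁ * (x - y) * b₁ = 0 := by
      rw [← Units.mul_right_inj u]
      linear_combination (norm := noncomm_ring) e3 * (x - y) * b₁ + b * (e2 - e1.2 + e1.1) * b₁ +
        b * (x - y) * e3 + (q.bab - r.aba) * u
    have m : d ∈ cE G b₁ := (cE_of_E hb₁).symm ▸ hd.mem_cE
    rw [mul_assoc]
    exact mid_zero e4 m m

end H27.Eq
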