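import Cfsg.Agent.H27.Eq2

/-! Equivariant quadratic action, part 3: unipotent groups and `p`-groups (`un_of_pg`, `pg_of_nil`), invariant root
groups are normalized by invariant Sylow subgroups (`norm_E`), partners commuting with a given pair (`partner_comm`),
products over orbits (`orbit_prod`). -/

set_option autoImplicit false
set_option linter.unusedSectionVars false
set_option linter.unusedVariables false

namespace H27.Eq
open Subgroup H28 H20.QP H13.EQ LinearMap Module
open scoped commutatorElement Pointwise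

universe u
variable {k : Type u} [Field k] {M : Type*} [AddCommGroup M] [Module k M] [FiniteDimensional k M]
  {G P A W : Subgroup (End k M)ˣ} {α β a b c x y τ σ a' b' a'' : End k M} {g e u : (End k M)ˣ}
  {p : ℕ} [hp : Fact p.Prime] [CharP k p]

theorem pow_eq_one_of_nil (p : ℕ) [hp : Fact p.Prime] [CharP k p] {n : ℕ} (h : ((g : End k M) - 1) ^ n = 0) :
    g ^ p ^ n = 1 := by
  rcases subsingleton_or_nontrivial (End k M) with _ | _
  · exact Subsingleton.elim _ _
  have : CharP (End k M) p := charP_of_injective_algebraMap (algebraMap k (End k M)).injective p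
  refine Units.ext ?_
  have := sub_pow_char_pow_of_commute p n (Commute.one_right (g : End k M))
  rw [pow_eq_zero_of_le (Nat.lt_pow_self hp.out.one_lt).le h, one_pow] at this
  rw [Units.val_pow_eq_pow_val, Units.val_one, ← sub_eq_zero, ← this]

theorem pg_of_un (h : Un k P) : IsPGroup p P := by
  obtain ⟨n, hn⟩ := h
  exact H26.isPGroup_iff_mem.2 fun g hg => ⟨n, pow_eq_one_of_nil p
    ((Submodule.mem_bot k).1 (hn ▸ Submodule.pow_mem_pow _ (mem_aug hg) n))⟩

theorem pg_UU : IsPGroup p (UU G a) := H26.isPGroup_iff_mem.2 fun g hg => ⟨3, pow_eq_one_of_nil p (UU_nil hg)⟩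

theorem un_of_pg [Finite M] (hP : IsPGroup p P) : Un k P := by
  let ρ : Representation k P M := (Units.coeHom _).comp P.subtype
  have key : ∀ F : Submodule k M, (∀ g, F ≤ F.comap (ρ g)) → ∃ n, ∀ x ∈ aug k P ^ n, range x ≤ F := fun F => by
    induction F using WellFoundedGT.induction with | ind F ih
    intro hF
    by_cases ht : F = ⊤
    · exact ⟨0, fun x _ => ht ▸ le_top⟩
    let F' : Submodule k M := ⨅ g : P, F.comap (ρ g - 1)
    have m : ∀ m, m ∈ F' ↔ ∀ g : P, ρ g m - m ∈ F := fun m => by simp [F']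
    have h1 : F < F' := by
      refine lt_of_le_of_ne (fun x hx => (m x).2 fun g => sub_mem (hF g hx) hx) fun e => ?_
      let : MulAction P (M ⧸ F) := MulAction.compHom _ (ρ.quotient F hF).toHomUnits
      have := Submodule.Quotient.nontrivial_iff.2 ht
      have : Finite (M ⧸ F) := Finite.of_surjective _ F.mkQ_surjective
      have hd : p ∣ Nat.card (M ⧸ F) := by
        obtain ⟨v, hv⟩ := exists_ne (0 : M ⧸ F)
        have : addOrderOf v = p := addOrderOf_eq_prime (by rw [← Nat.cast_smul_eq_nsmul k]; simp) hv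
        exact this ▸ addOrderOf_dvd_natCard v
      obtain ⟨v, hv, v0⟩ := hP.exists_fixed_point_of_prime_dvd_card_of_fixed_point (M ⧸ F) hd (a := 0)
        fun g => map_zero (ρ.quotient F hF g)
      obtain ⟨v, rfl⟩ := F.mkQ_surjective v
      exact v0 ((Submodule.Quotient.mk_eq_zero F).2 (e.ge ((m v).2 fun g => (Submodule.Quotient.eq F).1 (hv g)))).symm
    obtain ⟨n, hn⟩ := ih F' h1 fun g x hx => (m _).2 fun h => by
      have := hF g ((m x).1 hx (g⁻¹ * h * g))
      rwa [Submodule.mem_comap, map_sub, ← End.mul_apply, ← map_mul, show g * (g⁻¹ * h * g) = h * g by group, map_mul]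
        at this
    refine ⟨n + 1, fun x hx => ?_⟩
    rw [pow_succ'] at hx
    refine Submodule.mul_induction_on hx (fun y hy z hz => ?_) fun y z hy hz => (range_add_le _ _).trans (sup_le hy hz)
    rintro _ ⟨v, rfl⟩
    have : aug k P ≤ F.comap (LinearMap.applyₗ (z v)) := aug_le.2 fun g hg => (m _).1 (hn z hz ⟨v, rfl⟩) ⟨g, hg⟩
    exact this hy
  obtain ⟨n, hn⟩ := key ⊥ fun g => bot_le
  exact ⟨n, eq_bot_iff.2 fun x hx => range_eq_bot.1 (eq_bot_iff.2 (hn x hx))⟩

theorem nn_two (hk : Big k) (q : Pt G a b) : orderOf (nn q * nn q) = 2 := by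
  refine orderOf_eq_prime (Units.ext ?_) fun e => ?_
  · rw [pow_two, Units.val_mul, nn_sq, Units.val_one]; linear_combination (norm := noncomm_ring) 4 • q.ee
  · have h := congrArg Units.val e
    rw [nn_sq, Units.val_one, sub_eq_self, ← two_smul k, smul_eq_zero_iff_right hk.two] at h
    exact q.a.ne (by rw [← (q.ea q.a.mem_cE).1, h, zero_mul])

theorem no_pN (hk : Big k) (q : Pt G a b) {N : Subgroup (End k M)ˣ} (hN : IsPGroup p N) (h1 : un a q.a.sq ∈ N)
    (h2 : nn q ∈ normalizer (N : Set (End k M)ˣ)) : False := by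
  have h3 : (un b q.b.sq)⁻¹ ∈ N := by
    rw [show (un b q.b.sq)⁻¹ = nn q * un a q.a.sq * (nn q)⁻¹ from Units.ext (by
      rw [Units.val_mul, Units.val_mul, un_val, mul_add, add_mul, nn_a q q.a.mem_cE, mul_assoc b, q.bab]
      simp [sub_eq_add_neg])]
    exact (mem_normalizer_iff.1 h2 _).1 h1
  have h4 : nn q ∈ N := mul_mem (mul_mem h1 h3) h1
  obtain ⟨n, hn⟩ := H26.isPGroup_iff_mem.1 hN _ (mul_mem h4 h4)
  have h5 := orderOf_dvd_of_pow_eq_one hn
  rw [nn_two hk] at h5
  have h6 : 2 = p := (Nat.prime_dvd_prime_iff_eq Nat.prime_two hp.out).1 (Nat.prime_two.dvd_of_dvd_pow h5)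
  exact hk.two (by exact_mod_cast (CharP.cast_eq_zero_iff k p 2).2 (h6 ▸ dvd_rfl))

theorem norm_E [Finite M] (hk : Big k) (h5 : 4 < Cardinal.mk k) (hG : NU k G) (hA : A ≤ G)
    (hc : (Nat.card A).Coprime (Nat.card (G0 G))) (hs : Group.IsSolvable A) (ha : D G a)
    (hAa : A ≤ normalizer (E G a : Set (End k M)ˣ)) (hW : W ≤ G0 G) (hW' : IsPGroup p W)
    (hAW : A ≤ normalizer (W : Set (End k M)ˣ))
    (hCW : G0 G ⊓ centralizer (A : Set (End k M)ˣ) ≤ normalizer (W : Set (End k M)ˣ)) :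
    W ≤ normalizer (E G a : Set (End k M)ˣ) := by
  have : Finite (End k M) := Finite.of_injective _ DFunLike.coe_injective
  have h0 : A ≤ normalizer (G0 G : Set (End k M)ˣ) := fun x hx => mem_normalizer_iff_cj.2 (G0_cj (hA hx))
  obtain ⟨T, hT, hAT⟩ := H1.exists_invariant_isSylowIn (K := G0 G ⊓ normalizer (E G a : Set (End k M)ˣ))
    (H1.le_normalizer_inf h0 (hAa.trans le_normalizer)) (H1.coprime_of_le_right hc inf_le_left) (Or.inl hs) p
  have hU : UU G a ≤ T := hT.le_of_normal pg_UU (fun u hu => ⟨hu.1, mem_normalizer_iff_cj.2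
    (cj_E_of_comm (G0_le hu.1) (hu.2.2.1.trans hu.2.1.symm))⟩) fun t ht => mem_normalizer_iff_cj.2
    (norm_UU ha (G0_le (hT.le ht).1) (mem_normalizer_iff_cj.1 (hT.le ht).2))
  have hT' : H1.IsSylowIn p T (G0 G) := H1.isSylowIn_of_normalizer (hT.of_le (le_inf (hT.le.trans inf_le_left)
    le_normalizer) fun n hn => ⟨hn.1, mem_normalizer_iff_cj.2 (by
      have n1 := G0_le hn.1
      have n2 := mem_normalizer_iff_cj.1 hn.2
      rw [cj_E n1]
      refine (uniqE hk hG ha (ha.conj n1) (pg_UU (p := p)) (pg_of_un un_E) (rr_cls hk h5 hG ha ⟨n, hn.1, cj_E n1⟩)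
        (fun u hu => mem_normalizer_iff_cj.2 ?_) ?_).symm
      · have := mem_normalizer_iff_cj.1 (hT.le (mem_cj.1 (n2.ge (hU hu)))).2
        rw [← cj_E n1, ← cj_mul, show u * n = n * (n⁻¹ * u * n) by group, cj_mul, this]
      · rw [← cj_UU n1]
        exact ((cj_mono hU).trans n2.le).trans (hT.le.trans inf_le_right))⟩)
  obtain ⟨S, hS, hWS, hAS⟩ := H1.exists_invariant_isSylowIn_ge h0 hc (Or.inl hs) hW hW' hAW
  obtain ⟨c, hc', e⟩ := H1.invariant_isSylowIn_conj h0 hc (Or.inl hs) hS hT' hAS hAT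
  refine fun w hw => (hT.le ?_).2
  rw [← e, mem_pointwise_smul_iff_inv_smul_mem]
  exact hWS (by simpa using (mem_normalizer_iff''.1 (hCW hc') w).1 hw)

theorem partner_comm (p : ℕ) [hp : Fact p.Prime] [CharP k p] [Finite M] [Finite k] (hk : Big k) (q : Pt G a b) (r : Pt G β y) (h1 : β * a = a * β)
    (h2 : β * b = b * β) : ∃ β', Pt G β β' ∧ β' * a = a * β' ∧ β' * b = b * β' := by
  have : Finite (End k M) := Finite.of_injective _ DFunLike.coe_injective
  let Mo : Subgroup (SL2 k) :=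
    { carrier := {s | (s.1 0 1 = 0 ∧ s.1 1 0 = 0) ∨ (s.1 0 0 = 0 ∧ s.1 1 1 = 0)}
      one_mem' := Or.inl (by simp)
      mul_mem' := by
        rintro s t (hs | hs) (ht | ht) <;> simp [Matrix.mul_apply, Fin.sum_univ_two, hs, ht]
      inv_mem' := by
        rintro s (hs | hs) <;> simp [Matrix.adjugate_fin_two, hs] }
  have hMo : ¬ p ∣ Nat.card Mo := fun hd => by
    obtain ⟨⟨s, hs⟩, e⟩ := exists_prime_orderOf_dvd_card' p hd
    rw [Subgroup.orderOf_mk] at e
    have d := s.2
    rw [Matrix.det_fin_two] at d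
    have e1 := e ▸ pow_orderOf_eq_one s
    rcases hs with hs | hs
    · have e2 : ∀ n, (s ^ n).1 0 0 = s.1 0 0 ^ n := fun n => by
        induction n with
        | zero => simp
        | succ n ih => rw [pow_succ, pow_succ, ← ih]; simp [-Matrix.SpecialLinearGroup.coe_pow, Matrix.mul_apply, hs]
      have e3 : s.1 0 0 = 1 := by
        have := e2 p
        rw [e1] at this
        exact frobenius_inj k p (by rw [map_one, _root_.frobenius_def, ← this]; simp)
      rw [show s = 1 from sl2_ext e3 (by simp [hs]) (by simp [hs]) (by simpa [e3, hs] using d), orderOf_one] at e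
      exact hp.out.one_lt.ne e
    · have e2 : s * s = -1 := by
        refine sl2_ext ?_ ?_ ?_ ?_ <;> simp [Matrix.mul_apply, hs] at d ⊢ <;> linear_combination -d
      have e3 : p ∣ 2 ^ 2 := e ▸ orderOf_dvd_of_pow_eq_one (by
        rw [show 2 ^ 2 = 2 * 2 from rfl, pow_mul, pow_two s, e2]; simp)
      exact hk.two (by exact_mod_cast (CharP.cast_eq_zero_iff k p 2).2 (hp.out.dvd_of_dvd_pow e3))
  have val : ∀ s, (q.mu.θ s : End k M) = 1 - (a * b + b * a) + s.1 0 0 • (a * b) + s.1 0 1 • a + s.1 1 0 • b +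
      s.1 1 1 • (b * a) := fun s => by
    have ea := (q.ea q.a.mem_cE).1
    have eb := (q.symm.ea q.b.mem_cE).1
    rw [add_comm] at eb
    simp only [MU.θ_val, F, toSpanSingleton_apply, smul_mul_assoc, ← mul_assoc, ea, eb, mul_one, one_smul, add_assoc]
  have mG : ∀ s, q.mu.θ s ∈ G := fun s => G0_le (cls_le ⟨_, q.a, rfl⟩ (th_mem hk q s))
  have cm : ∀ s, (q.mu.θ s : End k M) * β * ((q.mu.θ s)⁻¹ : (End k M)ˣ) = β := fun s => by
    have c1 : Commute β a := h1
    have c2 : Commute β b := h2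
    rw [Units.mul_inv_eq_iff_eq_mul, val]
    exact ((((((Commute.one_right β).sub_right ((c1.mul_right c2).add_right (c2.mul_right c1))).add_right
      ((c1.mul_right c2).smul_right _)).add_right (c1.smul_right _)).add_right (c2.smul_right _)).add_right
      ((c2.mul_right c1).smul_right _)).symm
  have hu : ∀ u ∈ UU G β, u * β * ((u⁻¹ : (End k M)ˣ) : End k M) = β := fun u hu => by
    rw [Units.mul_inv_eq_iff_eq_mul, hu.2.1, hu.2.2.1]
  obtain ⟨n, hn⟩ := IsPGroup.iff_card.1 (pg_UU (p := p) (G := G) (a := β))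
  have := (pg_UU (p := p) (G := G) (a := β)).isNilpotent
  obtain ⟨u, hu', e⟩ := H1.exists_fixed_point (A := Mo.map q.mu.θ) (K := UU G β) (by
      rintro _ ⟨s, -, rfl⟩
      rw [mem_normalizer_iff_cj, cj_UU (mG s), cm])
    (by rw [hn]; exact (((Nat.Prime.coprime_iff_not_dvd hp.out).2 hMo).symm.coprime_dvd_left
          (card_map_dvd _ _)).pow_right n)
    (Or.inr inferInstance) (⟨β, y⟩ : Pr (End k M)) (by
      rintro _ ⟨s, -, rfl⟩
      have r' := pt_conj r (mG s)
      rw [cm] at r'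
      obtain ⟨u, h, e⟩ := sameU hk r' r
      exact ⟨u, h, Pr.ext ((hu u h).trans (cm s).symm) e⟩)
  have r' := pt_conj r (G0_le hu'.1)
  rw [hu u hu'] at r'
  obtain ⟨z, hz⟩ : ∃ z, z = u * y * ((u⁻¹ : (End k M)ˣ) : End k M) := ⟨_, rfl⟩
  rw [← hz] at r'
  have f : ∀ s ∈ Mo, Commute z (q.mu.θ s : End k M) := fun s hs => by
    have := congrArg Pr.b (e _ ⟨s, hs, rfl⟩)
    rw [smul_b, Units.mul_inv_eq_iff_eq_mul] at this
    exact hz ▸ this.symm
  obtain ⟨t, t0, t1⟩ := hk.ex
  have f1 := f wS (Or.inr (by simp))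
  have f2 := f (dg t t⁻¹ (mul_inv_cancel₀ t0)) (Or.inl (by simp [dg]))
  have f3 : Commute z (a * b) := by
    have f4 := (f2.sub_right (Commute.one_right z)).mul_right (f2.sub_right ((Commute.one_right z).smul_right t⁻¹))
    rw [show (_ - 1) * (_ - t⁻¹ • 1) = ((t - 1) * (t - t⁻¹)) • (a * b) by
      rw [val]
      simp [dg, mul_add, add_mul, mul_sub, sub_mul, mul_assoc, q.a.sq', q.b.sq', q.aba, q.bab]
      module] at f4
    refine smul_right_injective _ (mul_ne_zero (sub_ne_zero.2 fun e => t1 (by rw [e, one_pow]))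
      (sub_ne_zero.2 fun e => t1 (by rw [pow_two]; nth_rewrite 2 [e]; exact mul_inv_cancel₀ t0)) :
        (t - 1) * (t - t⁻¹) ≠ 0) ?_
    simpa using f4.eq
  rw [val] at f1
  refine ⟨z, r', ?_, ?_⟩
  · have := f3.mul_right f1
    rwa [show a * b * _ = a by simp [mul_add, mul_sub, mul_assoc, q.b.sq, q.b.sq', q.aba', q.aba]] at this
  · have := (f1.mul_right f3).neg_right
    rwa [show -(_ * (a * b)) = b by simp [add_mul, sub_mul, mul_assoc, q.a.sq', q.bab]] at this

theorem orbit_prod {Γ : Type*} [Group Γ] [Finite Γ] {A L H : Subgroup Γ} {c : Γ} (hc : c ∈ L)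
    (hH : ∀ x ∈ A, x * c * x⁻¹ ∈ H) (hL : ∀ x ∈ A, x * c * x⁻¹ = c ∨ x * c * x⁻¹ ∈ centralizer (L : Set Γ)) :
    ∃ d ∈ H ⊓ centralizer (A : Set Γ), ∃ r ∈ centralizer (L : Set Γ), d = c * r := by
  classical
  have := Fintype.ofFinite A
  let S : Finset Γ := Finset.univ.image fun x : A => x * c * (x : Γ)⁻¹
  have hS : ∀ s, s ∈ S ↔ ∃ x ∈ A, x * c * x⁻¹ = s := fun s => by simp [S]
  have cm : (S : Set Γ).Pairwise (Function.onFun Commute _root_.id) := fun s hs t ht _ => by
    obtain ⟨x, hx, rfl⟩ := (hS s).1 hs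
    obtain ⟨y, hy, rfl⟩ := (hS t).1 ht
    have : Commute (y⁻¹ * x * c * (y⁻¹ * x)⁻¹) c := by
      rcases hL _ (mul_mem (inv_mem hy) hx) with h | h
      · rw [h]
      · exact (h c hc).symm
    simpa [mul_assoc, Function.onFun] using this.map (MulAut.conj y)
  have c0 : c ∈ S := (hS c).2 ⟨1, one_mem _, by simp⟩
  refine ⟨S.noncommProd _root_.id cm, ⟨Subgroup.noncommProd_mem _ _ fun s hs => ?_, fun a ha => ?_⟩,
    (S.erase c).noncommProd _root_.id (cm.mono fun s hs => Finset.mem_of_mem_erase hs), Subgroup.noncommProd_mem _ _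
    fun s hs => ?_, (Finset.mul_noncommProd_erase S c0 _root_.id cm).symm⟩
  · obtain ⟨x, hx, rfl⟩ := (hS s).1 hs
    exact hH x hx
  · rw [← mul_inv_eq_iff_eq_mul, ← MulAut.conj_apply]
    erw [Finset.map_noncommProd _ _ _ (MulAut.conj a).toMonoidHom]
    have : S.map (MulAut.conj a).toEquiv.toEmbedding = S := Finset.eq_of_subset_of_card_le (fun s hs => by
      obtain ⟨t, ht, rfl⟩ := Finset.mem_map.1 hs
      obtain ⟨x, hx, rfl⟩ := (hS t).1 ht
      exact (hS _).2 ⟨a * x, mul_mem ha hx, by simp [mul_assoc]⟩) (by simp)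
    simp only [Finset.noncommProd]
    congr 1
    conv_rhs => rw [← this, Finset.map_val, Multiset.map_map]
    rfl
  · obtain ⟨x, hx, rfl⟩ := (hS s).1 (Finset.mem_of_mem_erase hs)
    exact (hL x hx).resolve_left (Finset.ne_of_mem_erase hs)

end H27.Eq
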