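import Cfsg.Agent.H27.Eq3

/-! Equivariant quadratic action, part 4: if `A` acts coprimely on the linear group `K` in characteristic `p ≥ 5` and
`P ≤ K` is an `A`-invariant `p`-subgroup normalized by `C_K(A)`, then the quadratic elements of `P` lie in `O_p(K)`
(`Eq.main`). -/

set_option autoImplicit false
set_option linter.unusedSectionVars false
set_option linter.unusedVariables false

namespace H27.Eq
open Subgroup H28 H20.QP H13.EQ LinearMap Module
open scoped commutatorElement Pointwise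

/-- the standing hypothesis -/
structure Hy (p : ℕ) {Γ : Type*} [Group Γ] (K A P : Subgroup Γ) : Prop where
  nK : A ≤ normalizer (K : Set Γ)
  cop : (Nat.card A).Coprime (Nat.card K)
  solv : Group.IsSolvable A
  le : P ≤ K
  pP : IsPGroup p P
  nP : A ≤ normalizer (P : Set Γ)
  cP : K ⊓ centralizer (A : Set Γ) ≤ normalizer (P : Set Γ)

/-- `g` lies in a normal `p`-subgroup of `K` -/
def Cn (p : ℕ) {Γ : Type*} [Group Γ] (K : Subgroup Γ) (g : Γ) : Prop :=
  ∃ N ≤ K, IsPGroup p N ∧ K ≤ normalizer (N : Set Γ) ∧ g ∈ N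

section
variable {p : ℕ} {Γ Γ' : Type*} [Group Γ] [Group Γ'] [Finite Γ] {K A P L : Subgroup Γ}

theorem Hy.map (h : Hy p K A P) (f : Γ →* Γ') : Hy p (K.map f) (A.map f) (P.map f) := by
  have := h.solv
  refine ⟨H26.map_le_normalizer_map f h.nK, (h.cop.coprime_dvd_left (card_map_dvd _ _)).coprime_dvd_right
    (card_map_dvd _ _), Group.isSolvable_of_surjective (f.subgroupMap_surjective A), Subgroup.map_mono h.le,
    h.pP.map f, H26.map_le_normalizer_map f h.nP, ?_⟩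
  rw [← H1.map_inf_centralizer_eq f h.nK (H1.coprime_of_le_right h.cop inf_le_left) (Or.inl h.solv)]
  exact H26.map_le_normalizer_map f h.cP

theorem Hy.sub (h : Hy p K A P) (hA : A ≤ L) : Hy p (K.subgroupOf L) (A.subgroupOf L) (P.subgroupOf L) := by
  have := h.solv
  exact ⟨(Subgroup.comap_mono h.nK).trans (le_normalizer_comap _), (h.cop.coprime_dvd_left
    (H1.card_subgroupOf_dvd _ _)).coprime_dvd_right (H1.card_subgroupOf_dvd _ _),
    Group.isSolvable_of_isSolvable_injective (f := (subgroupOfEquivOfLe hA).toMonoidHom)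
      (subgroupOfEquivOfLe hA).injective, Subgroup.comap_mono h.le, h.pP.comap_subtype,
    (Subgroup.comap_mono h.nP).trans (le_normalizer_comap _), fun x hx => le_normalizer_comap _
      (h.cP ⟨hx.1, fun a ha => congrArg Subtype.val (hx.2 ⟨a, hA ha⟩ ha)⟩)⟩

theorem Hy.inf (h : Hy p K A P) (hL : L ≤ K) (hA : A ≤ normalizer (L : Set Γ)) : Hy p L A (P ⊓ L) :=
  ⟨hA, H1.coprime_of_le_right h.cop hL, h.solv, inf_le_right, h.pP.to_inf_left, H1.le_normalizer_inf h.nP hA,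
    H1.le_normalizer_inf ((inf_le_inf_right _ hL).trans h.cP) (inf_le_left.trans le_normalizer)⟩

theorem Hy.mem (h : Hy p K A P) {x : Γ} (hx : x ∈ K ⊔ A) (hc : (Nat.card A).Coprime (orderOf x)) : x ∈ K := by
  obtain ⟨κ, hκ, a, ha, rfl⟩ := (H1.mem_sup_of_le_normalizer h.nK).1 hx
  have key : ∀ m : ℕ, (κ * a) ^ m * (a ^ m)⁻¹ ∈ K := fun m => by
    induction m with
    | zero => simp
    | succ m ih =>
      rw [show (κ * a) ^ (m + 1) * (a ^ (m + 1))⁻¹ = κ * (a * ((κ * a) ^ m * (a ^ m)⁻¹) * a⁻¹) by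
        rw [pow_succ', pow_succ' a]; group]
      exact mul_mem hκ ((mem_normalizer_iff.1 (h.nK ha) _).1 ih)
  have := key (Nat.card A)
  rw [show a ^ Nat.card A = 1 from congrArg Subtype.val (pow_card_eq_one' (x := (⟨a, ha⟩ : A))), inv_one,
    mul_one] at this
  obtain ⟨m, hm⟩ := exists_pow_eq_self_of_coprime (x := κ * a) hc
  exact hm ▸ pow_mem this m

end

universe v
variable {p : ℕ} [hp : Fact p.Prime]

theorem core {M : Type v} [AddCommGroup M] [Module (ZMod p) M] [Finite M] {K A P : Subgroup (End (ZMod p) M)ˣ}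
    (h5 : 5 ≤ p) (h : Hy p K A P) (hG : NU (ZMod p) (K ⊔ A))
    (ih : ∀ K' A' P' : Subgroup (End (ZMod p) M)ˣ, K' < K → Hy p K' A' P' → ∀ g ∈ P',
      ((g : End (ZMod p) M) - 1) * (g - 1) = 0 → Cn p K' g) {g : (End (ZMod p) M)ˣ} (hg : g ∈ P)
    (sq : ((g : End (ZMod p) M) - 1) * (g - 1) = 0) : g = 1 := by
  have : Finite (End (ZMod p) M) := Finite.of_injective _ DFunLike.coe_injective
  have hk := big h5
  have h4 : 4 < Cardinal.mk (ZMod p) := by
    rw [Cardinal.mk_fintype, ZMod.card]; exact_mod_cast h5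
  by_contra g1
  obtain ⟨τ, hτ⟩ : ∃ τ, τ = (g : End (ZMod p) M) - 1 := ⟨_, rfl⟩
  rw [← hτ] at sq
  obtain rfl : g = un τ sq := Units.ext (by simp [hτ])
  have up : ∀ {y : End (ZMod p) M} (h : y * y = 0), un y h ^ p = 1 := fun h => Units.ext (by
    rw [un_pow (p := p)]; simp)
  have qτ : Q (ZMod p) P τ := ⟨sq, fun c => ⟨_, pow_mem hg c.val, by rw [un_pow (p := p)]; simp⟩⟩
  have τ0 : τ ≠ 0 := fun e => g1 (un_eq_one.2 e)
  have pA : (Nat.card A).Coprime p := h.cop.coprime_dvd_right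
    ((orderOf_eq_prime (up sq) g1).symm.dvd.trans (K.orderOf_dvd_natCard (h.le hg)))
  set G := K ⊔ A with hGdef
  have KG : K ≤ G := le_sup_left
  have AG : A ≤ G := le_sup_right
  have GK : G ≤ normalizer (K : Set (End (ZMod p) M)ˣ) := sup_le le_normalizer h.nK
  have G0N : G ≤ normalizer (G0 G : Set (End (ZMod p) M)ˣ) := fun x hx => mem_normalizer_iff_cj.2 (G0_cj hx)
  have hG0 : G0 G ≤ K := iSup₂_le (by
    rintro _ ⟨α, hα, rfl⟩ x hx
    obtain ⟨y, hy, rfl⟩ := E_cases hx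
    exact h.mem (E_le hx) (pA.coprime_dvd_right (orderOf_dvd_of_pow_eq_one (up _))))
  have nc : ∀ {a b}, (q : Pt G a b) → ¬ Commute (un a q.a.sq) (un b q.b.sq) := fun {a b} q e => by
    have := congrArg Units.val e.eq
    simp only [Units.val_mul, un_val] at this
    exact q.opp (by rw [show a * b = b * a by linear_combination (norm := noncomm_ring) this, mul_assoc, q.a.sq,
      mul_zero])
  have um : ∀ {a}, (h : D G a) → un a h.sq ∈ E G a := fun h => un_mem.2 h.mem_cE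
  by_cases hN : ∀ α, D G α → α * τ * α = 0
  · obtain ⟨α, hα⟩ := exists_D (qτ.mono (h.le.trans KG)) τ0
    obtain ⟨β, hβ, hne⟩ := hα.exists_opp hk hG
    obtain ⟨β', q, -⟩ := hα.exists_pt hk hβ hne
    have n1 := H1.le_normalizer_inf GK (H1.le_normalizer_centralizer G0N)
    obtain ⟨N, N1, N2, N3, N4⟩ := ih (K ⊓ centralizer (G0 G : Set (End (ZMod p) M)ˣ)) A _
      (lt_of_le_of_ne inf_le_left fun e => nc q
      ((e.ge (hG0 (q.b.le_G0 (um q.b)))).2 _ (q.a.le_G0 (um q.a)))) (h.inf inf_le_left (AG.trans n1)) _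
      ⟨hg, h.le hg, fun x hx => (comm_commute (N0_comm hk hG) hx (un_N0 (qτ.mono (h.le.trans KG)) hN)).eq⟩
      (by simpa using sq)
    exact g1 ((hG.of_norm (inf_le_left.trans KG) (fun x hx => mem_normalizer_iff_cj.1 (n1 hx)) N N1 (un_of_pg N2)
      fun x hx => mem_normalizer_iff_cj.1 (N3 hx)).le N4)
  push Not at hN
  obtain ⟨α, hα, hne⟩ := hN
  obtain ⟨W, W1, W2, W3, β, hβ, W4⟩ := exists_W hk (h.le.trans KG) (un_of_pg h.pP) qτ hα hne
  have hW : Hy p K A W := ⟨h.nK, h.cop, h.solv, W1.trans hG0, pg_of_un W2, (le_inf AG h.nP).trans W3,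
    (le_inf (inf_le_left.trans KG) h.cP).trans W3⟩
  obtain ⟨y, r⟩ : ∃ y, Pt G β y := by
    obtain ⟨γ, hγ, hne⟩ := hβ.exists_opp hk hG
    exact (hβ.exists_pt hk hγ hne).imp fun _ h => h.1
  have fin : ∀ K' A', K' < K → Hy p K' A' (W ⊓ K') → ∀ y, (r : Pt G β y) → un β hβ.sq ∈ K' → un y r.b.sq ∈ K' →
      False := fun K' A' h1 h2 y r m1 m2 => by
    obtain ⟨N, N1, N2, N3, N4⟩ := ih K' A' _ h1 h2 _ ⟨W4, m1⟩ (by simpa using hβ.sq)
    exact no_pN hk r N2 N4 (N3 (mul_mem (mul_mem m1 (inv_mem m2)) m1))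
  have Sβ : E G β ∈ Sg G := ⟨β, hβ, rfl⟩
  have le1 : ∀ {B C}, C ∈ cls G B → C ≤ ⨆ C ∈ cls G B, C := fun h => le_iSup₂_of_le (f := fun A _ => A) _ h le_rfl
  rcases ((cls_le Sβ).trans hG0).lt_or_eq with h1 | h1
  · have n1 : A ⊓ St G (E G β) ≤ normalizer ((⨆ C ∈ cls G (E G β), C : Subgroup _) : Set (End (ZMod p) M)ˣ) :=
      fun x hx => mem_normalizer_iff_cj.2 (cj_iSup_eq (fun C hC => cls_trans hx.2.2 (cls_conj hx.2.1 hC))
        fun C hC => cls_trans (inv_mem hx).2.2 (cls_conj (inv_mem hx).2.1 hC))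
    refine fin _ (A ⊓ St G (E G β)) h1 ⟨n1, H1.coprime_of_le_left (H1.coprime_of_le_right h.cop h1.le) inf_le_left,
      by have := h.solv; exact H1.isSolvable_of_le inf_le_left, inf_le_right, hW.pP.to_inf_left,
      H1.le_normalizer_inf (inf_le_left.trans hW.nP) n1, fun c hc => ?_⟩ y r (le1 cls_self (um hβ))
      (le1 (hβ.cj_of_opp hk r.b r.opp) (um r.b))
    obtain ⟨d, hd, s, hs, e⟩ := orbit_prod (A := A) (H := K) hc.1
      (fun x hx => (mem_normalizer_iff.1 (h.nK hx) _).1 (h1.le hc.1)) fun x hx => by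
        by_cases hx' : cj x (E G β) ∈ cls G (E G β)
        · exact Or.inl (by rw [hc.2 x ⟨hx, AG hx, hx'⟩, mul_inv_cancel_right])
        · refine Or.inr fun w hw => (comm_commute (cls_comm hk hG Sβ (Sg_cj Sβ (AG hx)) fun e => hx' (e ▸ cls_self))
            hw ?_).eq
          have : cj x (⨆ C ∈ cls G (E G β), C) ≤ ⨆ C ∈ cls G (cj x (E G β)), C := by
            rw [cj_iSup]
            exact iSup₂_le fun C hC => le1 (cls_conj (AG hx) hC)
          exact this (conj_mem_cj hc.1)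
    rw [show c = d * s⁻¹ by rw [e, mul_inv_cancel_right]]
    refine mul_mem (inf_normalizer_le_normalizer_inf ⟨hW.cP hd, ?_⟩)
      (inv_mem (centralizer_le_normalizer _ (centralizer_le (SetLike.coe_subset_coe.2 inf_le_right) hs)))
    rw [e]
    exact mul_mem (le_normalizer hc.1) (centralizer_le_normalizer _ hs)
  have one : ∀ {γ}, D G γ → E G γ ∈ cls G (E G β) := fun {γ} hγ => by_contra fun hn => by
    obtain ⟨δ, hδ, hne⟩ := hγ.exists_opp hk hG
    obtain ⟨δ', q, -⟩ := hγ.exists_pt hk hδ hne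
    exact nc q (comm_commute (cls_comm hk hG ⟨γ, hγ, rfl⟩ Sβ fun e => hn (e ▸ cls_self)) (le1 cls_self (um q.a))
      (h1.ge (hG0 (q.b.le_G0 (um q.b)))))
  have c0 := H1.coprime_of_le_right h.cop hG0
  have ho : Odd (Nat.card A) := Nat.coprime_two_right.1 (c0.coprime_dvd_right
    (nn_two hk r ▸ (G0 G).orderOf_dvd_natCard (mul_mem (nn_mem r) (nn_mem r))))
  obtain ⟨⟨a, b⟩, q, hπ⟩ := fix_pair hk AG c0 ho h.solv r
  have fx : ∀ x ∈ A, x * a = a * x ∧ x * b = b * x := fun x hx => by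
    have := hπ x hx (by rw [cj_E (AG hx)]; exact cls_trans (cls_symm (one q.a)) (one (q.a.conj (AG hx))))
    exact ⟨Units.mul_inv_eq_iff_eq_mul _ |>.1 (congrArg Pr.a this),
      Units.mul_inv_eq_iff_eq_mul _ |>.1 (congrArg Pr.b this)⟩
  have cm : ∀ {a}, D G a → (∀ x ∈ A, x * a = a * x) → β * a = a * β := fun {a} ha hx =>
    comm_val (comm_of_norm hk hβ ha (um hβ) (fun e => hβ.ne (un_eq_one.1 e)) (mem_normalizer_iff_cj.1
      (norm_E hk h4 hG AG c0 h.solv ha (fun x h => mem_normalizer_iff_cj.2 (cj_E_of_comm (AG h) (hx x h))) W1 hW.pP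
        hW.nP ((inf_le_inf_right _ hG0).trans hW.cP) W4))) hβ.mem_cE ha.mem_cE
  have c1 := cm q.a fun x hx => (fx x hx).1
  have c2 := cm q.b fun x hx => (fx x hx).2
  obtain ⟨y, r, c3, c4⟩ := partner_comm p hk q r c1 c2
  have mem : ∀ {x : (End (ZMod p) M)ˣ}, x * a = a * x → x * b = b * x →
      x ∈ centralizer ((zpowers (un a q.a.sq) ⊔ zpowers (un b q.b.sq) : Subgroup _) : Set (End (ZMod p) M)ˣ) :=
    fun {x} e1 e2 => le_centralizer_iff.1 (sup_le (zpowers_le.2 ?_) (zpowers_le.2 ?_)) (mem_zpowers x)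
  · refine fin (K ⊓ centralizer ((zpowers (un a q.a.sq) ⊔ zpowers (un b q.b.sq) : Subgroup _) :
      Set (End (ZMod p) M)ˣ)) A (lt_of_le_of_ne inf_le_left fun e => nc q ((e.ge (hG0 (q.b.le_G0 (um q.b)))).2 _
      (mem_sup_left (mem_zpowers _)))) (hW.inf inf_le_left (H1.le_normalizer_inf h.nK (H1.le_normalizer_centralizer
        fun x hx => centralizer_le_normalizer _ (mem (fx x hx).1 (fx x hx).2)))) y r
      ⟨hG0 (hβ.le_G0 (um hβ)), mem ?_ ?_⟩ ⟨hG0 (r.b.le_G0 (um r.b)), mem ?_ ?_⟩ <;>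
    simp [mul_add, add_mul, c1, c2, c3, c4]
  all_goals
    rintro _ ⟨n, rfl⟩
    refine (Commute.zpow_left (Units.ext ?_) n).eq
    simp [mul_add, add_mul, e1, e2]

theorem main (h5 : 5 ≤ p) (n : ℕ) : ∀ (M : Type v) [AddCommGroup M] [Module (ZMod p) M] [Finite M]
    (K A P : Subgroup (End (ZMod p) M)ˣ), Nat.card K + finrank (ZMod p) M = n → Hy p K A P → ∀ g ∈ P,
      ((g : End (ZMod p) M) - 1) * (g - 1) = 0 → Cn p K g := by
  induction n using Nat.strong_induction_on with | _ n ih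
  intro M _ _ _ K A P hn h g hg sq
  have : Finite (End (ZMod p) M) := Finite.of_injective _ DFunLike.coe_injective
  have triv : g = 1 → Cn p K g := fun e => ⟨⊥, bot_le, IsPGroup.of_bot, by simp, e ▸ one_mem _⟩
  rcases subsingleton_or_nontrivial M with _ | _
  · exact triv (Subsingleton.elim _ _)
  by_cases irr : ∀ W : Submodule (ZMod p) M, (∀ g ∈ K ⊔ A, ∀ w ∈ W, (g : M →ₗ[ZMod p] M) w ∈ W) → W = ⊥ ∨ W = ⊤
  · exact triv (core h5 h (nu_of_irr ⟨exists_ne 0, irr⟩) (fun K' A' P' h1 => ih _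
      (hn ▸ Nat.add_lt_add_right (H1.card_lt_of_lt h1) _) M K' A' P' rfl) hg sq)
  push Not at irr
  obtain ⟨W, hW, W0, W1⟩ := irr
  let ρ : Representation (ZMod p) (K ⊔ A : Subgroup _) M := (Units.coeHom _).comp (K ⊔ A).subtype
  have hW' : ∀ g, W ≤ W.comap (ρ g) := fun g w hw => hW g g.2 w hw
  have : Finite (M ⧸ W) := Finite.of_surjective _ W.mkQ_surjective
  have h' := h.sub (L := K ⊔ A) le_sup_right
  let g' : (K ⊔ A : Subgroup _) := ⟨g, mem_sup_left (h.le hg)⟩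
  have dim := W.finrank_quotient_add_finrank
  have d1 := Submodule.finrank_lt W1
  have d2 : finrank (ZMod p) W ≠ 0 := fun e => W0 (Submodule.finrank_eq_zero.1 e)
  have cK : ∀ {Γ' : Type v} [Group Γ'] (f : (K ⊔ A : Subgroup _) →* Γ'),
      Nat.card ((K.subgroupOf (K ⊔ A)).map f) ≤ Nat.card K := fun f =>
    Nat.le_of_dvd Nat.card_pos ((card_map_dvd _ _).trans (H1.card_subgroupOf_dvd _ _))
  let f₁ := (ρ.subrepresentation W hW').toHomUnits
  let f₂ := (ρ.quotient W hW').toHomUnits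
  have sq' : ∀ m, ρ g' (ρ g' m - m) - (ρ g' m - m) = 0 := fun m => congrArg (· m) sq
  obtain ⟨N₁, -, a2, a3, a4⟩ := ih _ (hn ▸ Nat.add_lt_add_of_le_of_lt (cK f₁) d1) W _ _ _ rfl (h'.map f₁) (f₁ g') ⟨g', hg, rfl⟩
    (LinearMap.ext fun m => Subtype.ext (sq' m))
  obtain ⟨N₂, -, b2, b3, b4⟩ := ih _ (hn ▸ Nat.add_lt_add_of_le_of_lt (cK f₂) (by omega)) (M ⧸ W) _ _ _ rfl (h'.map f₂) (f₂ g') ⟨g', hg, rfl⟩
    (LinearMap.ext fun m => by
      obtain ⟨m, rfl⟩ := W.mkQ_surjective m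
      exact congrArg W.mkQ (sq' m))
  refine ⟨(K.subgroupOf (K ⊔ A) ⊓ (N₁.comap f₁ ⊓ N₂.comap f₂)).map (K ⊔ A).subtype, ?_, IsPGroup.map ?_ _, ?_,
    g', ⟨h.le hg, a4, b4⟩, rfl⟩
  · rintro _ ⟨x, hx, rfl⟩
    exact hx.1
  · refine H26.isPGroup_iff_mem.2 fun x hx => ?_
    obtain ⟨i, hi⟩ := H26.isPGroup_iff_mem.1 a2 _ hx.2.1
    obtain ⟨j, hj⟩ := H26.isPGroup_iff_mem.1 b2 _ hx.2.2
    have e1 : f₁ (x ^ p ^ (i + j)) = 1 := by rw [map_pow, pow_add, pow_mul, hi, one_pow]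
    have e2 : f₂ (x ^ p ^ (i + j)) = 1 := by rw [map_pow, add_comm, pow_add, pow_mul, hj, one_pow]
    refine ⟨i + j + 2, Subtype.ext ?_⟩
    rw [pow_add, pow_mul]
    refine pow_eq_one_of_nil p (LinearMap.ext fun m => ?_)
    have e3 : ρ (x ^ p ^ (i + j)) m - m ∈ W := (Submodule.Quotient.eq W).1
      (congrArg (fun z : (End (ZMod p) (M ⧸ W))ˣ => z.1 (W.mkQ m)) e2)
    exact sub_eq_zero.2 (congrArg (fun z : (End (ZMod p) W)ˣ => (z.1 ⟨_, e3⟩).1) e1)
  · conv_lhs => rw [← map_subgroupOf_eq_of_le (le_sup_left : K ≤ K ⊔ A)]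
    exact H26.map_le_normalizer_map _ (H1.le_normalizer_inf le_normalizer (H1.le_normalizer_inf
      (H26.le_normalizer_comap f₁ a3) (H26.le_normalizer_comap f₂ b3)))

end H27.Eq
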