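import Cfsg.Agent.H27.Eq4
import Cfsg.Agent.H27.KInfMain

/-! Flavell's equivariant analogue of the ZJ-theorem: `K_∞(P)` is normal (`Eq.kL_normal`). -/

set_option autoImplicit false
set_option linter.unusedSectionVars false
set_option linter.unusedVariables false

namespace H27.Eq
open Subgroup H26 H4 Cfsg
open scoped commutatorElement

variable {p : ℕ} [hp : Fact p.Prime] {Γ : Type*} [Group Γ] [Finite Γ] {K A P U : Subgroup Γ}

theorem Hy.min (h5 : 5 ≤ p) [K.Normal] (h : Hy p K A P) [U.Normal] (hU : IsPGroup p U) (h0 : U ≠ ⊥)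
    (hm : ∀ N : Subgroup Γ, N.Normal → N ≤ U → N = ⊥ ∨ N = U) {a : Γ} (ha : a ∈ P)
    (qa : ⁅⁅U, zpowers a⁆, zpowers a⁆ = ⊥) : a ∈ 𝐂 U := by
  have hV : IsElementaryAbelian p U := phi_eq_bot_iff.1 ((hm _ inferInstance (phi_le p U)).resolve_right (phi_lt hU h0).ne)
  let ι : Γ →* 𝐍 U := (MonoidHom.id Γ).codRestrict _ fun x => (normalizer_eq_top U).ge (mem_top x)
  let ρ : Γ →* (Module.End (ZMod p) (EA hV))ˣ := ((EA.rep hV).comp ι).toHomUnits
  have hρ : ∀ g x, EA.val ((ρ g : Module.End (ZMod p) (EA hV)) x) = g * EA.val x * g⁻¹ := fun g x => rfl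
  have irr : IsIrreducibleFor ρ.range := by
    obtain ⟨⟨v, hv⟩, hv1⟩ := (ne_bot_iff_exists_ne_one.1 h0)
    refine ⟨⟨EA.mk hV v hv, fun e => hv1 (Subtype.ext (EA.val_eq_one.2 e))⟩, fun W hW => ?_⟩
    let N : Subgroup Γ :=
      { carrier := {g | ∃ w ∈ W, EA.val w = g}
        one_mem' := ⟨0, zero_mem _, rfl⟩
        mul_mem' := by
          rintro _ _ ⟨x, hx, rfl⟩ ⟨y, hy, rfl⟩
          exact ⟨_, add_mem hx hy, rfl⟩
        inv_mem' := by
          rintro _ ⟨x, hx, rfl⟩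
          exact ⟨_, neg_mem hx, rfl⟩ }
    refine (hm N ⟨?_⟩ ?_).imp (fun e => eq_bot_iff.2 fun w hw => ?_) fun e => eq_top_iff.2 fun w _ => ?_
    · rintro _ ⟨x, hx, rfl⟩ g
      exact ⟨_, hW _ ⟨g, rfl⟩ x hx, hρ g x⟩
    · rintro _ ⟨x, hx, rfl⟩
      exact EA.val_mem x
    · exact EA.val_eq_one.1 (e.le ⟨w, hw, rfl⟩)
    · obtain ⟨x, hx, e⟩ := e.ge (EA.val_mem w)
      exact EA.val_injective e ▸ hx
  obtain ⟨N, h1, h2, h3, h4⟩ := main h5 _ (EA hV) _ _ _ rfl (h.map ρ) (ρ a) (mem_map_of_mem ρ ha)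
    (EA.rep_quad (g := ι a) qa)
  have := (H20.QP.nu_of_irr irr).of_norm (map_le_range ρ K) (by
    rintro _ ⟨g, rfl⟩
    exact H28.mem_normalizer_iff_cj.1 (le_normalizer_map ρ ⟨g, le_normalizer_of_normal (mem_top g), rfl⟩))
    N h1 (un_of_pg h2) fun g hg => H28.mem_normalizer_iff_cj.1 (h3 hg)
  exact EA.rep_eq_one_iff (g := ι a).1 (congrArg Units.val (this.le h4 : ρ a = 1))

theorem Hy.chief (h5 : 5 ≤ p) [K.Normal] (h : Hy p K A P) {V : Subgroup Γ} (hc : IsChiefFactor U V)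
    (hU : IsPGroup p U) {g : Γ} (hg : g ∈ P) (h1 : ⁅⁅U, zpowers g⁆, zpowers g⁆ ≤ V) : ⁅U, zpowers g⁆ ≤ V := by
  have := hc.2.1
  have := hc.2.2.1
  set f := QuotientGroup.mk' V
  have hf : Function.Surjective f := QuotientGroup.mk'_surjective V
  have hk : f.ker = V := QuotientGroup.ker_mk' V
  have hn : (U.map f).Normal := Normal.map inferInstance f hf
  have : (K.map f).Normal := Normal.map inferInstance f hf
  have h3 := (h.map f).min h5 (hU.map f) (fun e => hc.1.not_ge (by rwa [Subgroup.map_eq_bot_iff, hk] at e))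
    (fun N hN h6 => by
      rcases hc.2.2.2 (N.comap f) inferInstance (hk.ge.trans (ker_le_comap f N))
        ((comap_mono h6).trans (by rw [comap_map_eq, hk, sup_eq_left.2 hc.1.le])) with e | e
      · left
        rw [← map_comap_eq_self_of_surjective hf N, e, Subgroup.map_eq_bot_iff, hk]
      · right
        rw [← e, map_comap_eq_self_of_surjective hf]) (mem_map_of_mem f hg) (by
    rwa [← MonoidHom.map_zpowers, ← map_commutator, ← map_commutator, Subgroup.map_eq_bot_iff, hk])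
  rw [← hk, ← Subgroup.map_eq_bot_iff, map_commutator, MonoidHom.map_zpowers, commutator_eq_bot_iff']
  exact zpowers_le.2 h3

theorem kL_normal (h5 : 5 ≤ p) [K.Normal] (h : Hy p K A P) (hTP : pCoreOf p K ≤ P) (hC : CharPOf p K) :
    (kL P).Normal := by
  by_contra hK
  have hT := isPGroup_pCoreOf p K
  have : (pCoreOf p K).Normal := normal_of_top_le_normalizer (le_normalizer_pCoreOf_of_le le_normalizer_of_normal)
  obtain ⟨C, hCT, c2, -, h1, h2⟩ := H4.exists_critical_of hT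
  have : C.Normal := normal_of_le_normalizer (le_normalizer_of_normal.trans c2)
  obtain ⟨B, hB, hBT, h3, h4, h6⟩ := exists_kinf_offender h.pP hTP hCT h1 (Or.inl hK)
  have hBK : normalClosure (B : Set Γ) ≤ K := normalClosure_le_normal (hB.trans h.le)
  have hD : ¬ pResidualOf p (normalClosure (B : Set Γ)) ≤ 𝐂 C := fun e => hBT (le_normalClosure.trans (le_pCoreOf
    (isPGroup_of_pResidualOf_le hT ((le_inf ((pResidualOf_le _ _).trans hBK) (le_centralizer_of_selfCentralizing hT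
      (pResidualOf_pResidualOf _ _) le_normalizer_of_normal hCT h2 e)).trans hC)) hBK le_normalizer_of_normal))
  obtain ⟨X, Y, hXY, hXA, h6, h7⟩ : ∃ X Y, IsChiefFactor X Y ∧ X ≤ C ∧ ⁅⁅X, B⁆, B⁆ ≤ Y ∧
      ¬ ⁅X, pResidualOf p (normalClosure (B : Set Γ))⁆ ≤ Y := by
    by_cases hZ : pResidualOf p (normalClosure (B : Set Γ)) ≤ 𝐂 (C ⊓ 𝐂 C)
    · obtain ⟨X, Y, a1, a2, a3, a4, a5⟩ := exists_chief_nontrivial inf_le_left (hT.to_le hCT) hZ hD
      exact ⟨X, Y, a1, a3, h6 X Y a1 a2 a3 a4, a5⟩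
    · obtain ⟨X, Y, a1, -, a3, -, a5⟩ := exists_chief_nontrivial (W := ⊥) bot_le
        (hT.to_le (inf_le_left.trans hCT)) (by rw [centralizer_bot']; exact le_top) hZ
      exact ⟨X, Y, a1, a3.trans inf_le_left,
        (commutator_mono (commutator_mono a3 le_rfl) le_rfl).trans (h4.le.trans bot_le), a5⟩
  have := hXY.2.1
  have := hXY.2.2.1
  obtain ⟨g, h8, h9⟩ := exists_commutator_zpowers_not_le (B := B) fun h => h7
    ((commutator_mono le_rfl (pResidualOf_le _ _)).trans (commutator_normalClosure_le h))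
  exact h9 (h.chief h5 hXY (hT.to_le (hXA.trans hCT)) (hB h8)
    ((commutator_mono (commutator_mono le_rfl (zpowers_le.2 h8)) (zpowers_le.2 h8)).trans h6))

theorem le_normalizer_kL (h5 : 5 ≤ p) (h : Hy p K A P) (hTP : pCoreOf p K ≤ P) (hC : CharPOf p K) :
    K ≤ 𝐍 (kL P) := by
  have h1 : K ≤ 𝐍 K := le_normalizer
  have := kL_normal h5 (h.sub h.nK) (by rw [pCoreOf_subgroupOf h1]; exact comap_mono hTP)
    ((charPOf_map_iff (𝐍 K).subtype_injective).1 (by rwa [map_subgroupOf_eq_of_le h1]))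
  have h2 := map_le_normalizer_map (𝐍 K).subtype (H := ⊤) (K := kL (P.subgroupOf (𝐍 K))) le_normalizer_of_normal
  rw [map_kL (𝐍 K).subtype_injective, map_subgroupOf_eq_of_le (h.le.trans h1), ← MonoidHom.range_eq_map,
    range_subtype] at h2
  exact h1.trans h2

end H27.Eq
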