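import Cfsg.Agent.H27.Eq5
import Cfsg.Agent.H26.Gen
import Cfsg.Agent.H17.Comp

/-! Flavell's application of the equivariant ZJ-theorem: if a noncyclic abelian group `R` acts coprimely on `G` and
`[C_H(O_p(H)), R] ≤ O_p(H)` for all `H = C_G(a)`, `a ∈ R#`, `p ≥ 5`, then the same holds for `G` (`Eq.gd_main`). -/

set_option autoImplicit false
set_option linter.unusedSectionVars false
set_option linter.unusedVariables false

namespace H27.Eq
open Subgroup H26 H4 Cfsg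
open scoped commutatorElement Pointwise

universe u
variable {p : ℕ} [hp : Fact p.Prime] {Γ : Type u} [Group Γ] [Finite Γ] {K A P U G H R D W B : Subgroup Γ}

/-- `O^p(C_H(O_p(H)))` -/
abbrev Yr (p : ℕ) (H : Subgroup Γ) : Subgroup Γ := pResidualOf p (H ⊓ 𝐂 (pCoreOf p H))

theorem norm_Yr (h : K ≤ 𝐍 H) : K ≤ 𝐍 (Yr p H) :=
  le_normalizer_pResidualOf_of_le (le_normalizer_inf h (le_normalizer_centralizer (le_normalizer_pCoreOf_of_le h)))
theorem Yr_le : Yr p H ≤ H := (pResidualOf_le _ _).trans inf_le_left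
theorem Yr_le' : Yr p H ≤ 𝐂 (pCoreOf p H) := (pResidualOf_le _ _).trans inf_le_right

theorem le_core (h : pResidualOf p D ≤ 𝐂 D) (hB : IsPGroup p B) (hBD : B ≤ D) : B ≤ pCoreOf p D := by
  obtain ⟨S, hS, h1⟩ := exists_isSyl_ge hB hBD
  rwa [hS.pCoreOf_eq (hS.le_of_pResidualOf_le (le_normalizer_of_le_centralizer (h.trans (centralizer_anti hS.le)))
    le_normalizer)]

theorem comm_le_core (hR : R ≤ 𝐍 D) (h : pResidualOf p D ≤ 𝐂 D) (h' : pResidualOf p D ≤ 𝐂 R) :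
    ⁅D, R⁆ ≤ pCoreOf p D := by
  obtain ⟨S, hS⟩ := exists_isSyl p D
  have h1 := le_core h hS.isP hS.le
  exact (le_commStab_iff.1 (hS.le_of_pResidualOf_le (le_commStab_iff.2
    ⟨(pResidualOf_le _ _).trans (le_normalizer_pCoreOf p D), (commutator_eq_bot_iff_le_centralizer.2 h').le.trans bot_le⟩)
    (le_commStab_iff.2 ⟨hS.le.trans (le_normalizer_pCoreOf p D), (commutator_mono h1 le_rfl).trans
      (commutator_le_of_le_normalizer (le_normalizer_pCoreOf_of_le hR))⟩))).2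

theorem comm_cent (hH : H ≤ 𝐍 W) (h : W ≤ 𝐂 R) : ⁅H, R⁆ ≤ 𝐂 W :=
  three_subgroups_centralizer ((commutator_eq_bot_iff'.2 h).le.trans bot_le)
    ((commutator_le_of_le_normalizer hH).trans h)

theorem kL_normal' (h5 : 5 ≤ p) [K.Normal] (h : Hy p K A P) (hTP : pCoreOf p K ≤ P) (hC : Yr p K ≤ 𝐂 P) :
    (kL P).Normal := by
  by_contra hK
  have hT := isPGroup_pCoreOf p K
  have : (pCoreOf p K).Normal := normal_of_top_le_normalizer (le_normalizer_pCoreOf_of_le le_normalizer_of_normal)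
  obtain ⟨C, hCT, c2, -, h1, h2⟩ := H4.exists_critical_of hT
  have : C.Normal := normal_of_le_normalizer (le_normalizer_of_normal.trans c2)
  obtain ⟨B, hB, hBT, h3, h4, h6⟩ := exists_kinf_offender h.pP hTP hCT h1 (Or.inl hK)
  have hBK : normalClosure (B : Set Γ) ≤ K := normalClosure_le_normal (hB.trans h.le)
  have : (𝐂 (Yr p K)).Normal :=
    normal_of_top_le_normalizer (le_normalizer_centralizer (norm_Yr le_normalizer_of_normal))
  have hD : ¬ pResidualOf p (normalClosure (B : Set Γ)) ≤ 𝐂 C := fun e => hBT (le_trans (le_core (by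
    rw [← pResidualOf_pResidualOf]
    exact (pResidualOf_mono (le_inf ((pResidualOf_le _ _).trans hBK) (le_centralizer_of_selfCentralizing hT
      (pResidualOf_pResidualOf _ _) le_normalizer_of_normal hCT h2 e))).trans (le_centralizer_iff.1
      (normalClosure_le_normal (hB.trans (le_centralizer_iff.1 hC))))) (h.pP.to_le hB) le_normalClosure)
    (pCoreOf_le_pCoreOf_of_normal hBK le_normalizer_of_normal))
  obtain ⟨X, Y, hXY, hXA, h6, h7⟩ : ∃ X Y, IsChiefFactor X Y ∧ X ≤ C ∧ ⁅⁅X, B⁆, B⁆ ≤ Y ∧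
      ¬ ⁅X, pResidualOf p (normalClosure (B : Set Γ))⁆ ≤ Y := by
    by_cases hZ : pResidualOf p (normalClosure (B : Set Γ)) ≤ 𝐂 (C ⊓ 𝐂 C)
    · obtain ⟨X, Y, a1, a2, a3, a4, a5⟩ := exists_chief_nontrivial inf_le_left (hT.to_le hCT) hZ hD
      exact ⟨X, Y, a1, a3, h6 X Y a1 a2 a3 a4, a5⟩
    · obtain ⟨X, Y, a1, -, a3, -, a5⟩ := exists_chief_nontrivial (W := ⊥) bot_le
        (hT.to_le (inf_le_left.trans hCT)) (by rw [centralizer_bot']; exact le_top) hZ
      exact ⟨X, Y, a1, a3.trans inf_le_left,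
        (commutator_mono (commutator_mono a3 le_rfl) le_rfl).trans (h4.le.trans bot_le), a5⟩
  have := hXY.2.1
  have := hXY.2.2.1
  obtain ⟨g, h8, h9⟩ := exists_commutator_zpowers_not_le (B := B) fun h => h7
    ((commutator_mono le_rfl (pResidualOf_le _ _)).trans (commutator_normalClosure_le h))
  exact h9 (h.chief h5 hXY (hT.to_le (hXA.trans hCT)) (hB h8)
    ((commutator_mono (commutator_mono le_rfl (zpowers_le.2 h8)) (zpowers_le.2 h8)).trans h6))

theorem map_Yr {Γ' : Type*} [Group Γ'] {f : Γ →* Γ'} (hf : Function.Injective f) :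
    (Yr p H).map f = pResidualOf p (H.map f ⊓ 𝐂 (pCoreOf p (H.map f))) := by
  rw [map_pResidualOf_of_injective hf, map_inf_centralizer hf, map_pCoreOf hf]

theorem zj (h5 : 5 ≤ p) (h : Hy p K A P) (hTP : pCoreOf p K ≤ P) (hC : Yr p K ≤ 𝐂 A) : K ≤ 𝐍 (kL P) := by
  have h1 : K ≤ 𝐍 K := le_normalizer
  have h3 : Yr p K ≤ 𝐂 P := le_centralizer_of_stab (pResidualOf_pResidualOf _ _) (isPGroup_pCoreOf p K) (by
    have n1 : Yr p K ≤ 𝐍 P := (le_inf Yr_le hC).trans h.cP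
    refine le_trans (le_pCoreOf (h.pP.to_le (commutator_le_of_le_normalizer n1))
      (commutator_le_of_le_normalizer' (h.le.trans (norm_Yr h1))) (le_normalizer_commutator_right _ _))
      (pCoreOf_le_pCoreOf_of_normal Yr_le (norm_Yr h1))) Yr_le'
  have := kL_normal' h5 (h.sub h.nK) (by rw [pCoreOf_subgroupOf h1]; exact comap_mono hTP) fun x hx y hy => by
    have := mem_map_of_mem (𝐍 K).subtype hx
    rw [map_Yr (𝐍 K).subtype_injective, map_subgroupOf_eq_of_le h1] at this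
    exact Subtype.ext (h3 this y hy)
  have h2 := map_le_normalizer_map (𝐍 K).subtype (H := ⊤) (K := kL (P.subgroupOf (𝐍 K))) le_normalizer_of_normal
  rw [map_kL (𝐍 K).subtype_injective, map_subgroupOf_eq_of_le (h.le.trans h1), ← MonoidHom.range_eq_map,
    range_subtype] at h2
  exact h1.trans h2

/-- `R` centralizes `C_H(O_p(H))` modulo `O_p(H)` -/
def Gd (p : ℕ) (R H : Subgroup Γ) : Prop := ⁅H ⊓ 𝐂 (pCoreOf p H), R⁆ ≤ pCoreOf p H

theorem Gd.yy (h : Gd p R H) : Yr p H ≤ 𝐂 R :=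
  le_centralizer_of_stab (pResidualOf_pResidualOf _ _) (isPGroup_pCoreOf p H)
    (by rw [commutator_comm]; exact (commutator_mono (pResidualOf_le _ _) le_rfl).trans h) Yr_le'

theorem gd_of (hR : R ≤ 𝐍 H) (hc : (Nat.card R).Coprime (Nat.card H)) (hH : H ≤ 𝐍 W) (hRW : R ≤ 𝐍 W) (h : W ≤ 𝐂 R)
    (h' : pResidualOf p (H ⊓ 𝐂 (pCoreOf p H) ⊓ 𝐂 W) ≤ W) : Gd p R H := by
  have n : ∀ {K}, K ≤ 𝐍 H → K ≤ 𝐍 (H ⊓ 𝐂 (pCoreOf p H)) := fun h =>
    le_normalizer_inf h (le_normalizer_centralizer (le_normalizer_pCoreOf_of_le h))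
  rw [Gd, ← H1.commutator_commutator_eq (n hR) (H1.coprime_of_le_right hc inf_le_left)]
  refine (commutator_mono (le_inf (commutator_le_of_le_normalizer (n hR)) (comm_cent (inf_le_left.trans hH) h))
    le_rfl).trans ((comm_le_core (le_normalizer_inf (n hR) (le_normalizer_centralizer hRW))
      (h'.trans (le_centralizer_iff.1 inf_le_right)) (h'.trans h)).trans (pCoreOf_le_pCoreOf_of_normal
      (inf_le_left.trans inf_le_left) (le_normalizer_inf (n le_normalizer) (le_normalizer_centralizer hH))))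

theorem gd_of_yy (hR : R ≤ 𝐍 H) (hc : (Nat.card R).Coprime (Nat.card H)) (h : Yr p H ≤ 𝐂 R) : Gd p R H :=
  gd_of hR hc (norm_Yr le_normalizer) (norm_Yr hR) h (pResidualOf_mono inf_le_left)

/-- the hypothesis -/
structure Hp (p : ℕ) (G R : Subgroup Γ) : Prop where
  nR : R ≤ 𝐍 G
  cop : (Nat.card R).Coprime (Nat.card G)
  ab : R ≤ 𝐂 R
  nc : ¬ IsCyclic R
  gd : ∀ a ∈ R, a ≠ 1 → Gd p R (G ⊓ 𝐂 (zpowers a))

theorem Hp.solv (h : Hp p G R) : Group.IsSolvable R :=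
  have := le_centralizer_iff_isMulCommutative.1 h.ab
  H1.isSolvable_of_isMulCommutative R

theorem Hp.gen (h : Hp p G R) (hK : K ≤ G) (hn : R ≤ 𝐍 K) (h1 : ∀ a ∈ R, a ≠ 1 → K ⊓ 𝐂 (zpowers a) ≤ H) : K ≤ H := by
  refine le_of_cocyclic h.ab hn (H1.coprime_of_le_right h.cop hK) ?_
  rintro B hB ⟨a, ha, he⟩
  obtain ⟨⟨u, hu⟩, hu1⟩ := ne_bot_iff_exists_ne_one.1 (show B ≠ ⊥ by
    rintro rfl
    rw [bot_sup_eq] at he
    exact h.nc (he ▸ inferInstance))
  exact (inf_le_inf_left K (centralizer_anti (zpowers_le.2 hu))).trans (h1 u (hB hu) fun e => hu1 (Subtype.ext e))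

theorem Hp.nC (h : Hp p G R) (hn : R ≤ 𝐍 K) {a : Γ} (ha : a ∈ R) : R ≤ 𝐍 (K ⊓ 𝐂 (zpowers a)) :=
  le_normalizer_inf hn ((h.ab.trans (centralizer_anti (zpowers_le.2 ha))).trans le_normalizer)

theorem Hp.sub (h : Hp p G R) (hH : H ≤ G) (hn : R ≤ 𝐍 H)
    (hT : ∀ a ∈ R, pCoreOf p (G ⊓ 𝐂 (zpowers a)) ≤ H) : Hp p H R := by
  refine ⟨hn, H1.coprime_of_le_right h.cop hH, h.ab, h.nc, fun a ha a1 => ?_⟩
  have h1 := pCoreOf_le_pCoreOf_of_le (p := p) (inf_le_inf_right (𝐂 (zpowers a)) hH)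
    (le_inf (hT a ha) ((pCoreOf_le _ _).trans inf_le_right))
  exact (commutator_mono (inf_le_inf (inf_le_inf_right _ hH) (centralizer_anti h1)) le_rfl).trans
    ((h.gd a ha a1).trans h1)

theorem exists_P (hn : R ≤ 𝐍 G) (hc : (Nat.card R).Coprime (Nat.card G)) (hs : Group.IsSolvable R) :
    ∃ P, Hy p G R P ∧ ∀ U, Hy p G R U → U ≤ P := by
  let P := sInf {S | H1.IsSylowIn p S G ∧ R ≤ 𝐍 S}
  have mem : ∀ x, x ∈ P ↔ ∀ S : Subgroup Γ, H1.IsSylowIn p S G → R ≤ 𝐍 S → x ∈ S := fun x => by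
    simp [P, mem_sInf]
  obtain ⟨S₀, hS₀, hS₁⟩ := H1.exists_invariant_isSylowIn hn hc (Or.inl hs) p
  have hPS : P ≤ S₀ := fun x hx => (mem x).1 hx S₀ hS₀ hS₁
  refine ⟨P, ⟨hn, hc, hs, hPS.trans hS₀.le, hS₀.isPGroup.to_le hPS,
    le_normalizer_iff.2 fun a ha x hx => (mem _).2 fun S h1 h2 => le_normalizer_iff.1 h2 a ha x ((mem x).1 hx S h1 h2),
    le_normalizer_iff.2 fun c hc x hx => (mem _).2 fun S h1 h2 => ?_⟩, fun U hU x hx => (mem x).2 fun S h1 h2 => ?_⟩
  · have := (mem x).1 hx _ (h1.conj_of_mem_normalizer (le_normalizer (inv_mem hc.1)))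
      (le_normalizer_iff.2 fun a ha y hy => by
        rw [mem_pointwise_smul_iff_inv_smul_mem] at hy ⊢
        have e : a * c = c * a := hc.2 a ha
        have := le_normalizer_iff.1 h2 a ha _ hy
        simp only [map_inv, inv_inv, MulAut.smul_def, MulAut.conj_apply] at this ⊢
        rwa [show c * (a * y * a⁻¹) * c⁻¹ = (c * a) * y * (c * a)⁻¹ by group, ← e,
          show a * c * y * (a * c)⁻¹ = a * (c * y * c⁻¹) * a⁻¹ by group])
    rw [mem_pointwise_smul_iff_inv_smul_mem] at this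
    simpa using this
  · obtain ⟨S', hS, hUS, hAS⟩ := H1.exists_invariant_isSylowIn_ge hn hc (Or.inl hs) hU.le hU.pP hU.nP
    obtain ⟨c, hc', e⟩ := H1.invariant_isSylowIn_conj hn hc (Or.inl hs) hS h1 hAS h2
    rw [← e, mem_pointwise_smul_iff_inv_smul_mem]
    exact hUS (by simpa using (mem_normalizer_iff''.1 (hU.cP hc') x).1 hx)

theorem Hy.of (h : Hy p G R P) (h1 : U ≤ G) (h2 : IsPGroup p U) (h3 : R ≤ 𝐍 U) (h4 : G ⊓ 𝐂 R ≤ 𝐍 U) : Hy p G R U :=
  ⟨h.nK, h.cop, h.solv, h1, h2, h3, h4⟩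

theorem Hy.core (h : Hy p G R P) (h1 : H ≤ G) (h3 : R ≤ 𝐍 H) (h4 : G ⊓ 𝐂 R ≤ H) : Hy p G R (pCoreOf p H) :=
  h.of ((pCoreOf_le _ _).trans h1) (isPGroup_pCoreOf _ _) (le_normalizer_pCoreOf_of_le h3)
    (h4.trans (le_normalizer_pCoreOf _ _))

theorem Hp.coreC (h : Hp p G R) (hP : Hy p G R P) {a : Γ} (ha : a ∈ R) : Hy p G R (pCoreOf p (G ⊓ 𝐂 (zpowers a))) :=
  hP.core inf_le_left (h.nC h.nR ha) (inf_le_inf_left _ (centralizer_anti (zpowers_le.2 ha)))

theorem step (h5 : 5 ≤ p) (h : Hp p G R) (hO : pCoreOf p G = ⊥) (ih : ∀ H < G, Hp p H R → Gd p R H) :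
    G ≤ 𝐂 R := by
  obtain ⟨P, hP, mx⟩ := exists_P (p := p) h.nR h.cop h.solv
  have dec : ∀ {X M}, X ≤ G → R ≤ 𝐍 X → ⁅X, R⁆ ≤ M → G ⊓ 𝐂 R ≤ M → X ≤ M := fun {X M} h1 h2 h3 h4 => by
    rw [← H1.commutator_sup_centralizer h2 (H1.coprime_of_le_right h.cop h1) (Or.inl h.solv)]
    exact sup_le h3 ((inf_le_inf_right _ h1).trans h4)
  by_cases h0 : P = ⊥
  · refine h.gen le_rfl h.nR fun a ha a1 => commutator_eq_bot_iff_le_centralizer.1 (eq_bot_iff.2 ?_)
    have e : pCoreOf p (G ⊓ 𝐂 (zpowers a)) = ⊥ := eq_bot_iff.2 ((mx _ (h.coreC hP ha)).trans h0.le)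
    have := h.gd a ha a1
    rwa [Gd, e, centralizer_bot', inf_top_eq] at this
  exfalso
  have hZ := center_ne_bot hP.pP h0
  have prop : ∀ {K}, K ≠ ⊥ → K ≤ P → G ⊓ 𝐍 K < G := fun {K} k0 hK => lt_of_le_of_ne inf_le_left fun e =>
    k0 (eq_bot_iff.2 ((le_pCoreOf (hP.pP.to_le hK) (hK.trans hP.le) (e.ge.trans inf_le_right)).trans hO.le))
  have nN : ∀ {K}, R ≤ 𝐍 K → R ≤ 𝐍 (G ⊓ 𝐍 K) := fun hK => le_normalizer_inf h.nR (hK.trans le_normalizer)
  have good : ∀ {K}, K ≠ ⊥ → K ≤ P → P ≤ 𝐍 K → R ≤ 𝐍 K → Gd p R (G ⊓ 𝐍 K) := fun {K} k0 h1 h2 h3 =>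
    ih _ (prop k0 h1) (h.sub inf_le_left (nN h3) fun a ha => (mx _ (h.coreC hP ha)).trans (le_inf hP.le h2))
  have zj' : ∀ {K}, Hy p G R K → Yr p (G ⊓ 𝐍 K) ≤ 𝐂 R → G ⊓ 𝐍 K ≤ 𝐍 (kL (P ⊓ (G ⊓ 𝐍 K))) := fun {K} hK hY =>
    zj h5 (hP.inf inf_le_left (nN hK.nP)) (le_inf (mx _ (hP.core inf_le_left (nN hK.nP) (le_inf inf_le_left hK.cP)))
      (pCoreOf_le _ _)) hY
  have kl : ∀ {U}, Hy p G R U → Hy p G R (kL U) := fun {U} hU => hP.of ((kL_le U).trans hU.le)
    (hU.pP.to_le (kL_le U)) (hU.nP.trans (normalizer_le_normalizer_kL U)) (hU.cP.trans (normalizer_le_normalizer_kL U))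
  have nu : ∀ {K}, Hy p G R K → Hy p G R (P ⊓ (G ⊓ 𝐍 K)) := fun {K} hK => hP.of (inf_le_left.trans hP.le)
    hP.pP.to_inf_left (le_normalizer_inf hP.nP (nN hK.nP))
    (le_normalizer_inf hP.cP ((le_inf inf_le_left hK.cP).trans le_normalizer))
  set M := G ⊓ 𝐍 (kL P) with hM
  have k0 : kL P ≠ ⊥ := fun e => hZ (eq_bot_iff.2 ((center_le_kL P).trans e.le))
  have PM : P ≤ M := le_inf hP.le (le_normalizer.trans (normalizer_le_normalizer_kL P))
  have CM : G ⊓ 𝐂 R ≤ M := le_inf inf_le_left (kl hP).cP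
  have gM : Gd p R M := good k0 (kL_le P) (PM.trans inf_le_right) (kl hP).nP
  have hZ' : Hy p G R (P ⊓ 𝐂 P) := hP.of (inf_le_left.trans hP.le) hP.pP.to_inf_left
    (le_normalizer_inf hP.nP (le_normalizer_centralizer hP.nP)) (le_normalizer_inf hP.cP (le_normalizer_centralizer hP.cP))
  have ZM : G ⊓ 𝐍 (P ⊓ 𝐂 P) ≤ M := by
    have n := le_normalizer_inf (L := P) le_normalizer (le_normalizer_centralizer le_normalizer)
    have := zj' hZ' (good hZ inf_le_left n hZ'.nP).yy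
    rw [inf_eq_left.2 (le_inf hP.le n)] at this
    exact le_inf inf_le_left this
  have lemD : ∀ {K}, Hy p G R K → G ⊓ 𝐂 K ≤ M → G ⊓ 𝐍 K ≤ 𝐍 (kL (P ⊓ (G ⊓ 𝐍 K))) := fun {K} hK hC => by
    refine zj' hK ?_
    have k1 : K ≤ pCoreOf p (G ⊓ 𝐍 K) := le_pCoreOf hK.pP (le_inf hK.le le_normalizer) inf_le_right
    have y1 : Yr p (G ⊓ 𝐍 K) ≤ 𝐂 K := Yr_le'.trans (centralizer_anti k1)
    have y2 : Yr p (G ⊓ 𝐍 K) ≤ M := (le_inf (Yr_le.trans inf_le_left) y1).trans hC
    have y3 := y2.trans (le_normalizer_pCoreOf p M)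
    have y4 : Yr p (G ⊓ 𝐍 K) ≤ 𝐂 (pCoreOf p M) := thompson_AxB (isPGroup_pCoreOf p M) hK.pP
      (pResidualOf_pResidualOf _ _) y3 (((mx _ hK).trans PM).trans (le_normalizer_pCoreOf p M)) y1
      (le_centralizer_of_stab (pResidualOf_pResidualOf _ _) (isPGroup_pCoreOf p _) (by
        refine le_trans (le_inf (commutator_le_of_le_normalizer' (le_trans (le_inf (inf_le_left.trans
          ((pCoreOf_le _ _).trans inf_le_left)) (le_normalizer_of_le_centralizer inf_le_right)) (norm_Yr le_normalizer)))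
          ((commutator_mono inf_le_left le_rfl).trans (commutator_le_of_le_normalizer y3))) ?_
        exact (inf_pCoreOf_le' y2).trans (pCoreOf_le_pCoreOf_of_normal Yr_le (norm_Yr le_normalizer))) Yr_le')
    exact le_centralizer_of_stab (pResidualOf_pResidualOf _ _) (isPGroup_pCoreOf p M)
      (by rw [commutator_comm]; exact (commutator_mono (le_inf y2 y4) le_rfl).trans gM) y4
  have zle : ∀ {K}, K ≤ P → P ⊓ 𝐂 P ≤ P ⊓ (G ⊓ 𝐍 K) := fun hK => le_inf inf_le_left (le_inf (inf_le_left.trans hP.le)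
    (le_normalizer_of_le_centralizer (inf_le_right.trans (centralizer_anti hK))))
  have clA : ∀ U, Hy p G R U → P ⊓ 𝐂 P ≤ U → G ⊓ 𝐍 (kL U) ≤ M := fun U => by
    induction U using WellFoundedGT.induction with | ind U ihU
    intro hU hZU
    rcases (mx U hU).lt_or_eq with h1 | rfl
    swap
    · exact le_rfl
    have h2 : P ⊓ 𝐂 P ≤ kL U := (le_inf hZU (inf_le_right.trans (centralizer_anti h1.le))).trans (center_le_kL U)
    refine le_trans (le_inf inf_le_left (lemD (kl hU) ((inf_le_inf_left _ ((centralizer_anti h2).trans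
      (centralizer_le_normalizer _))).trans ZM))) (ihU _ ?_ (nu (kl hU)) (zle ((kL_le U).trans h1.le)))
    exact (lt_inf_normalizer hP.pP h1).trans_le (le_inf inf_le_left (le_inf (inf_le_left.trans hP.le)
      (inf_le_right.trans (normalizer_le_normalizer_kL U))))
  have clB : ∀ K, Hy p G R K → G ⊓ 𝐍 K ≤ M := fun K => by
    induction K using WellFoundedGT.induction with | ind K ihK
    intro hK
    refine le_trans (le_inf inf_le_left (lemD hK ?_)) (clA _ (nu hK) (zle (mx _ hK)))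
    have n1 := le_normalizer_inf h.nR (le_normalizer_centralizer hK.nP)
    refine h.gen inf_le_left n1 fun c hc c1 => ?_
    have hT := h.coreC hP hc
    have x1 : G ⊓ 𝐂 K ⊓ 𝐂 (zpowers c) ≤ G ⊓ 𝐂 (zpowers c) := inf_le_inf_right _ inf_le_left
    rcases (le_sup_right : K ≤ pCoreOf p (G ⊓ 𝐂 (zpowers c)) ⊔ K).lt_or_eq with h1 | h1
    · refine le_trans (le_inf (x1.trans inf_le_left) (le_normalizer_sup (x1.trans (le_normalizer_pCoreOf _ _))
        (le_normalizer_of_le_centralizer (inf_le_left.trans inf_le_right)))) (ihK _ h1 (hP.of (sup_le hT.le hK.le)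
        (hP.pP.to_le (sup_le (mx _ hT) (mx _ hK))) (le_normalizer_sup hT.nP hK.nP) (le_normalizer_sup hT.cP hK.cP)))
    · exact dec (x1.trans inf_le_left) (h.nC n1 hc) ((commutator_mono (le_inf x1 ((inf_le_left.trans inf_le_right).trans
        (centralizer_anti (le_sup_left.trans h1.ge)))) le_rfl).trans ((h.gd c hc c1).trans ((mx _ hT).trans PM))) CM
  exact (prop k0 (kL_le P)).not_ge (le_trans (le_inf le_rfl le_normalizer_of_normal)
    (clB ⊥ (hP.of bot_le IsPGroup.of_bot le_normalizer_of_normal le_normalizer_of_normal)))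

theorem gd_map_iff {Γ' : Type u} [Group Γ'] {f : Γ →* Γ'} (hf : Function.Injective f) :
    Gd p (R.map f) (H.map f) ↔ Gd p R H := by
  rw [Gd, Gd, ← map_pCoreOf hf, ← map_inf_centralizer hf, ← map_commutator, map_le_map_iff_of_injective hf]

theorem Hp.of_map {Γ' : Type u} [Group Γ'] {f : Γ →* Γ'} (hf : Function.Injective f) (h : Hp p (G.map f) (R.map f)) :
    Hp p G R := by
  refine ⟨(map_le_normalizer_map_iff hf).1 h.nR, by simpa only [card_map_of_injective hf] using h.cop,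
    fun x hx y hy => hf (by simpa using h.ab (mem_map_of_mem f hx) _ (mem_map_of_mem f hy)),
    fun e => h.nc (isCyclic_of_surjective _ (f.subgroupMap_surjective R)), fun a ha a1 => (gd_map_iff hf).1 ?_⟩
  rw [map_inf_centralizer hf, MonoidHom.map_zpowers]
  exact h.gd _ (mem_map_of_mem f ha) fun e => a1 (hf (e.trans (map_one f).symm))

theorem Hp.map {Γ' : Type u} [Group Γ'] [Finite Γ'] (h : Hp p G R) (f : Γ →* Γ') (hk : f.ker ≤ G)
    (hk' : IsPGroup p f.ker) (hq : pResidualOf p ⁅G, R⁆ ≤ 𝐂 f.ker) : Hp p (G.map f) (R.map f) := by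
  have inj : R ⊓ f.ker = ⊥ := (disjoint_of_coprime_natCard (H1.coprime_of_le_right h.cop hk)).eq_bot
  refine ⟨map_le_normalizer_map f h.nR, (h.cop.coprime_dvd_left (card_map_dvd _ _)).coprime_dvd_right
    (card_map_dvd _ _), map_le_centralizer_map f h.ab, fun e => h.nc ?_, ?_⟩
  · refine isCyclic_of_surjective _ (MulEquiv.ofBijective (f.subgroupMap R) ⟨(injective_iff_map_eq_one _).2
      fun x hx => Subtype.ext (inj.le ⟨x.2, congrArg Subtype.val hx⟩), f.subgroupMap_surjective R⟩).symm.surjective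
  rintro _ ⟨a, ha, rfl⟩ a1
  have hz := zpowers_le.2 ha
  have : Group.IsSolvable (zpowers a) := by have := h.solv; exact H1.isSolvable_of_le hz
  rw [← MonoidHom.map_zpowers, ← H1.map_inf_centralizer_eq f (hz.trans h.nR) (H1.coprime_of_le_left
    (H1.coprime_of_le_right h.cop inf_le_left) hz) (Or.inl this)]
  have gd := h.gd a ha fun e => a1 (by rw [e, map_one])
  have nH := h.nC h.nR ha
  have HG : G ⊓ 𝐂 (zpowers a) ≤ G := inf_le_left
  generalize G ⊓ 𝐂 (zpowers a) = H at gd nH HG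
  let L := H ⊓ (𝐂 ((pCoreOf p H).map f)).comap f
  have nL : ∀ {K}, K ≤ 𝐍 H → K ≤ 𝐍 L := fun hK => le_normalizer_inf hK (H26.le_normalizer_comap f
    (le_normalizer_centralizer (map_le_normalizer_map f (le_normalizer_pCoreOf_of_le hK))))
  have l1 : ⁅L, R⁆ ≤ L := commutator_le_of_le_normalizer (nL nH)
  have x1 : pResidualOf p ⁅L, R⁆ ≤ L := (pResidualOf_le _ _).trans l1
  have x2 : pResidualOf p ⁅L, R⁆ ≤ 𝐂 (pCoreOf p H) := le_centralizer_of_stab (pResidualOf_pResidualOf _ _) hk' (by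
      rw [← Subgroup.map_eq_bot_iff, map_commutator, commutator_eq_bot_iff']
      exact map_le_iff_le_comap.2 (x1.trans inf_le_right))
    ((pResidualOf_mono (commutator_mono (inf_le_left.trans HG) le_rfl)).trans hq)
  have x3 : pResidualOf p ⁅L, R⁆ ≤ 𝐂 R := by
    rw [← pResidualOf_pResidualOf]
    exact (pResidualOf_mono (le_inf (x1.trans inf_le_left) x2)).trans gd.yy
  have e := H1.commutator_commutator_eq (nL nH) (H1.coprime_of_le_right h.cop (inf_le_left.trans HG))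
  have x4 : ⁅L, R⁆ ≤ pCoreOf p H := by
    have := comm_cent (le_normalizer_pResidualOf p ⁅L, R⁆) x3
    rw [e] at this
    exact e.ge.trans ((comm_le_core (le_normalizer_commutator_right _ _) (le_centralizer_iff.1 this) x3).trans
      ((pCoreOf_le_pCoreOf_of_normal l1 (le_normalizer_commutator_left _ _)).trans
        (pCoreOf_le_pCoreOf_of_normal inf_le_left (nL le_normalizer))))
  refine le_trans (commutator_mono (K₁ := L.map f) ?_ le_rfl) ?_
  · rintro _ ⟨⟨x, hx, rfl⟩, hx'⟩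
    exact ⟨x, ⟨hx, centralizer_anti (map_pCoreOf_le f H) hx'⟩, rfl⟩
  · rw [← map_commutator]
    exact (map_mono x4).trans (map_pCoreOf_le f H)

theorem quot (h : Hp p G R) [(pCoreOf p G).Normal] (hO : pCoreOf p G ≠ ⊥)
    (ih : ∀ (Γ' : Type u) [Group Γ'] [Finite Γ'] (G' R' : Subgroup Γ'), Nat.card G' < Nat.card G → Hp p G' R' →
      Gd p R' G') : Gd p R G := by
  obtain ⟨P, hP, mx⟩ := exists_P (p := p) h.nR h.cop h.solv
  have nD : ∀ {K}, K ≤ 𝐍 G → K ≤ 𝐍 (G ⊓ 𝐂 (pCoreOf p G)) := fun hK =>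
    le_normalizer_inf hK (le_normalizer_centralizer le_normalizer_of_normal)
  have nR : R ≤ 𝐍 (G ⊓ 𝐂 (pCoreOf p G) ⊔ P) := le_normalizer_sup (nD h.nR) hP.nP
  rcases (sup_le (sup_le inf_le_left hP.le) inf_le_left : G ⊓ 𝐂 (pCoreOf p G) ⊔ P ⊔ G ⊓ 𝐂 R ≤ G).lt_or_eq with h1 | h1
  · have := (ih Γ _ R (card_lt_of_lt h1) (h.sub h1.le (le_normalizer_sup nR (le_normalizer_inf h.nR
      (le_normalizer_centralizer le_normalizer))) fun a ha => (mx _ (h.coreC hP ha)).trans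
      (le_sup_right.trans le_sup_left))).yy
    refine gd_of_yy h.nR h.cop (le_trans ?_ this)
    have d1 : G ⊓ 𝐂 (pCoreOf p G) ≤ G ⊓ 𝐂 (pCoreOf p G) ⊔ P ⊔ G ⊓ 𝐂 R := le_sup_left.trans le_sup_left
    rw [Yr, ← pResidualOf_pResidualOf]
    refine pResidualOf_mono (le_inf ((pResidualOf_le _ _).trans d1) (le_centralizer_of_stab
      (pResidualOf_pResidualOf _ _) (isPGroup_pCoreOf p G) ?_ Yr_le'))
    refine le_trans (le_inf ((commutator_mono le_rfl (pResidualOf_le _ _)).trans (commutator_le_of_le_normalizer'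
      (nD (((pCoreOf_le _ _).trans h1.le).trans le_normalizer)))) (commutator_le_of_le_normalizer
      (((pResidualOf_le _ _).trans d1).trans (le_normalizer_pCoreOf _ _)))) ?_
    exact (inf_pCoreOf_le' d1).trans (pCoreOf_le_pCoreOf_of_normal inf_le_left (nD le_normalizer))
  let f := QuotientGroup.mk' (pCoreOf p G)
  have hk : f.ker = pCoreOf p G := QuotientGroup.ker_mk' _
  have gd := ih _ (G.map f) (R.map f) (by
    have e := H1.card_map_mul_card_inf_ker f G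
    rw [hk, inf_eq_left.2 (pCoreOf_le _ _)] at e
    rw [← e]
    exact lt_mul_of_one_lt_right Nat.card_pos (((pCoreOf p G).one_lt_card_iff_ne_bot).2 hO))
    (h.map f (hk.le.trans (pCoreOf_le _ _)) ((isPGroup_pCoreOf p G).to_le hk.le) (by
      have n : G ⊓ 𝐂 R ≤ 𝐍 (G ⊓ 𝐂 (pCoreOf p G) ⊔ P) := le_normalizer_sup (nD (inf_le_left.trans le_normalizer)) hP.cP
      have : ⁅G, R⁆ ≤ G ⊓ 𝐂 (pCoreOf p G) ⊔ P := by
        conv_lhs => rw [← h1]
        exact commutator_sup_le (commutator_le_of_le_normalizer nR)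
          ((commutator_eq_bot_iff_le_centralizer.2 inf_le_right).le.trans bot_le) le_normalizer n
      rw [hk]
      exact ((pResidualOf_mono this).trans (by
        rw [sup_comm]; exact pResidualOf_sup_le hP.pP (nD (hP.le.trans le_normalizer)))).trans inf_le_right))
  have e : pCoreOf p (G.map f) = ⊥ := by
    have : (pCoreOf p (G.map f)).comap f ≤ f.ker := hk.symm ▸ le_pCoreOf
      ((isPGroup_pCoreOf p _).comap_of_ker_isPGroup f ((isPGroup_pCoreOf p G).to_le hk.le))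
      ((comap_mono (pCoreOf_le _ _)).trans (by rw [comap_map_eq, hk, sup_eq_left.2 (pCoreOf_le _ _)]))
      (H26.le_normalizer_comap f (le_normalizer_pCoreOf _ _))
    rw [← map_comap_eq_self_of_surjective (QuotientGroup.mk'_surjective _) (pCoreOf p (G.map f)),
      Subgroup.map_eq_bot_iff]
    exact this
  rw [Gd, e, centralizer_bot', inf_top_eq, ← map_commutator, le_bot_iff, Subgroup.map_eq_bot_iff, hk] at gd
  exact (commutator_mono inf_le_left le_rfl).trans gd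

theorem gd_main (h5 : 5 ≤ p) (n : ℕ) : ∀ (Γ : Type u) [Group Γ] [Finite Γ] (G R : Subgroup Γ), Nat.card G = n →
    Hp p G R → Gd p R G := by
  induction n using Nat.strong_induction_on with | _ n ih
  intro Γ _ _ G R hn h
  by_cases hO : pCoreOf p G = ⊥
  · exact (commutator_eq_bot_iff_le_centralizer.2 (inf_le_left.trans
      (step h5 h hO fun H hH => ih _ (hn ▸ card_lt_of_lt hH) Γ H R rfl))).le.trans bot_le
  have h1 : G ≤ 𝐍 (pCoreOf p G) := le_normalizer_pCoreOf p G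
  have h2 : R ≤ 𝐍 (pCoreOf p G) := le_normalizer_pCoreOf_of_le h.nR
  have hf := (𝐍 (pCoreOf p G)).subtype_injective
  have : (pCoreOf p (G.subgroupOf (𝐍 (pCoreOf p G)))).Normal := by
    rw [pCoreOf_subgroupOf h1]; infer_instance
  have := (gd_map_iff hf).2 (quot (R := R.subgroupOf _) (Hp.of_map hf (by rwa [map_subgroupOf_eq_of_le h1, map_subgroupOf_eq_of_le h2]))
    (fun e => hO (by rw [← map_subgroupOf_eq_of_le h1, ← map_pCoreOf hf, e, Subgroup.map_bot]))
    fun Γ' _ _ G' R' hc => ih _ (by rwa [H1.card_subgroupOf_of_le h1, hn] at hc) Γ' G' R' rfl)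
  rwa [map_subgroupOf_eq_of_le h1, map_subgroupOf_eq_of_le h2] at this

theorem gd_of_gfit (hR : R ≤ 𝐍 H) (hc : (Nat.card R).Coprime (Nat.card H)) (h : R ≤ 𝐂 (pResidualOf p (H17.gfit H))) :
    Gd p R H := by
  refine gd_of hR hc (le_normalizer_pResidualOf_of_le (H17.le_normalizer_gfit H))
    (le_normalizer_pResidualOf_of_le (hR.trans (H17.normalizer_le_gfit H))) (le_centralizer_iff.1 h)
    (pResidualOf_mono (le_trans (le_inf (inf_le_left.trans inf_le_left) (le_centralizer_iff.1 ?_))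
      (H17.centralizer_gfit_le H)))
  have w : pResidualOf p (H17.gfit H) ≤ 𝐂 (H ⊓ 𝐂 (pCoreOf p H) ⊓ 𝐂 (pResidualOf p (H17.gfit H))) :=
    le_centralizer_iff.1 inf_le_right
  nth_rewrite 1 [H17.gfit_eq]
  refine sup_le (le_trans ?_ w) ((H17.le_oP_sup_oQ_of_nilpotent p (H17.fit_nilpotent H)).trans (sup_le
    (((H17.subn_fit H).oP_le_oP).trans (le_centralizer_iff.1 (inf_le_left.trans inf_le_right))) (le_trans ?_ w)))
  · exact (pResidualOf_eq_of_perfect (H17.lay_perfect H)).ge.trans (pResidualOf_mono (H17.lay_le_gfit H))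
  · exact fun x hx => mem_pResidualOf (H17.fit_le_gfit H (H17.oQ_le p _ hx)) (((Nat.Prime.coprime_iff_not_dvd
      hp.out).2 (H17.oQ_not_dvd p _)).symm.coprime_dvd_left (orderOf_dvd_card_of_mem hx))

theorem Gd.gfit (h : Gd p R H) : R ≤ 𝐂 (pResidualOf p (H17.gfit H)) := by
  refine le_centralizer_iff.1 (le_trans ?_ h.yy)
  rw [← pResidualOf_pResidualOf]
  refine pResidualOf_mono (le_inf ((pResidualOf_le _ _).trans (H17.gfit_le H)) ?_)
  have h1 : H17.gfit H ≤ pCoreOf p H ⊔ 𝐂 (pCoreOf p H) := by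
    rw [H17.gfit_eq]
    refine sup_le (le_sup_of_le_right (commutator_eq_bot_iff_le_centralizer.1 (H17.commutator_lay_oP p H)))
      ((H17.le_oP_sup_oQ_of_nilpotent p (H17.fit_nilpotent H)).trans (sup_le_sup (H17.subn_fit H).oP_le_oP
        ((H17.subn_fit H).oQ_le_oQ.trans (commutator_eq_bot_iff'.1 (H17.commutator_oP_oQ H)))))
  exact (pResidualOf_mono h1).trans (pResidualOf_sup_le (isPGroup_pCoreOf p H)
    (le_normalizer_centralizer le_normalizer))

end H27.Eq
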