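import Cfsg.Agent.H27.FM2
/-! Towards `H26.FM`, part 3: structure of `C(l)` under `Mb`: commutators `g2`, lines `g3`, the involutions `Tt l t`,
`C(W(l)) ≤ l`, and the abelian subgroup `Aa l t = C(l) ⊓ C(t)`. -/
set_option autoImplicit false
set_option linter.unusedSectionVars false
namespace H27.FM
open Cfsg Subgroup H26 H4 H118
open scoped Pointwise commutatorElement

variable {G : Type*} [Group G] [Finite G] {S V l m : Subgroup G} {z p q r c d g t u v w : G}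

structure Tt (V l : Subgroup G) (t : G) : Prop where
  c : t ∈ 𝐂 l
  o : ∀ c ∈ 𝐂 l, ⁅c, t⁆ ∈ l
  cm : ∀ p ∈ l, p ≠ 1 → ∀ u ∈ Up V p, u ∉ l → ⁅t, u⁆ = p
  sq : t * t = 1

theorem Tt.cj (h : Tt V l t) (g : G) : Tt V (cj g l) (g * t * g⁻¹) := by
  refine ⟨cj_centralizer g l ▸ conj_mem_cj g h.c, fun c hc => ?_, fun p hp p1 u hu hu' => ?_, by
    rw [conj_mul, h.sq, mul_one, mul_inv_cancel]⟩
  · rw [← cj_centralizer, mem_cj'] at hc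
    obtain ⟨c, hc, rfl⟩ := hc
    rw [← conjugate_commutatorElement]; exact conj_mem_cj g (h.o c hc)
  · obtain ⟨p, hp', rfl⟩ := mem_cj'.1 hp
    rw [← cj_Up, mem_cj'] at hu
    obtain ⟨u, hu, rfl⟩ := hu
    rw [← conjugate_commutatorElement, h.cm p hp' (fun e => p1 (by simp [e])) u hu (mt (conj_mem_cj g) hu')]

theorem cm_one {a b : G} (h : ⁅a, b⁆ = 1) : ⁅b, a⁆ = 1 := by rw [← commutatorElement_inv, h, inv_one]
theorem mem_cz {a b : G} : a ∈ 𝐂 (zpowers b) ↔ ⁅a, b⁆ = 1 := by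
  rw [mem_centralizer_zpowers, commutatorElement_eq_one_iff_mul_comm, eq_comm]
theorem cz_symm {a b : G} (h : a ∈ 𝐂 (zpowers b)) : b ∈ 𝐂 (zpowers a) := mem_cz.2 (cm_one (mem_cz.1 h))

theorem zs (h : Ge S V z) {P : Subgroup G} (h1 : P ≤ S) (h2 : S ≤ 𝐍 P) (h3 : P ≠ ⊥) : z ∈ P := by
  obtain ⟨x, ⟨a, b⟩, c⟩ := (bot_or_exists_ne_one _).resolve_left (inf_omegaOne_center_ne_bot h.syl.isP h1 h2 h3)
  exact (mem_two h.zz (h.zeq ▸ b)).resolve_left c ▸ a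

theorem Fl.genc (k : Ge S V z) (f : Fl V l p q) (hu : u ∈ l) (h1 : u ∉ zpowers p) (h2 : c ∈ 𝐂 (zpowers p))
    (h3 : ⁅c, u⁆ = 1) : c ∈ 𝐂 l :=
  le_centralizer_iff.1 (f.gen k hu h1 (cz_symm h2) (cz_symm (mem_cz.2 h3))) (mem_zpowers c)

theorem Fl.rot' (k : Ge S V z) (f : Fl V l p q) : Fl V l q (p * q) := f.comm k ▸ f.symm.rot k

theorem Fl.fixp (k : Ge S V z) (f : Fl V l p q) (h1 : t ∈ 𝐂 (zpowers p)) (h2 : t ∈ 𝐍 l) (h3 : t ∉ 𝐂 l) (hc : c ∈ 𝐂 l)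
    (h4 : ⁅c, t⁆ ∈ zpowers p) : ∃ a ∈ zpowers q, ⁅c * a, t⁆ = 1 := by
  rcases (f.memZ k).1 h4 with e | e
  · exact ⟨1, one_mem _, by simpa using e⟩
  · have e2 : ⁅q, t⁆ = p⁻¹ := by rw [← commutatorElement_inv, f.swap k h1 h2 h3]
    exact ⟨q, mem_zpowers q, by rw [cmul hc (e2 ▸ inv_mem f.pl), e, e2, inv_mul_cancel]⟩

namespace Mb
variable (h : Mb S V z) (f : Fl V l p q)
include h f

theorem exU : ∃ u ∈ Up V p, u ∉ l :=
  SetLike.not_le_iff_exists.1 fun e => (h.int l p q f).2 (e.trans (f.symm.lT h.toGe))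

theorem oe (h1 : g ∈ 𝐂 (zpowers p)) (h2 : g ∈ 𝐍 l) (hu : u ∈ Up V p) : ⁅g, u⁆ ∈ l := by
  by_cases e : u ∈ l
  · exact cm_n h2 e
  · exact h.g1 f (conj_mem_of_mem_normalizer (c_le_n_Up V p h1) hu) (inv_mem hu)
      (mt (mem_normalizer_iff.1 h2 u).2 e) (mt inv_mem_iff.1 e)

theorem oc (hc : c ∈ 𝐂 l) (hu : u ∈ Up V p) : ⁅c, u⁆ ∈ l := h.oe f (f.cc h.toGe hc) (centralizer_le_normalizer _ hc) hu

theorem bf (h1 : g ∈ 𝐂 (zpowers p)) (h2 : g ∈ 𝐍 l) : g ∈ Bf V p l := ⟨h1, h2, fun _ => h.oe f h1 h2⟩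

theorem memT (h1 : g ∈ 𝐂 (zpowers p)) (h2 : g ∈ 𝐍 l) (hu : u ∈ Up V p) (hu' : u ∉ l) (h3 : ⁅g, u⁆ ∈ zpowers p) :
    g ∈ Tp V p := mem_Tp.2 ⟨h1, fun v hv => by
  by_cases e : v ∈ l
  · exact f.fx h.toGe h1 h2 e
  · have e1 := h.g1 f hv hu e hu'
    rw [show v = v * u * u by rw [mul_assoc, h.Up_sq f.col hu, mul_one]]
    exact cm_right (f.fx h.toGe h1 h2 e1) h3 (c_n (f.cc h.toGe ((f.four h.toGe).le_c e1)))⟩

theorem g2 (hu : u ∈ Up V p) (hu' : u ∉ l) (hv : v ∈ Up V q) (hv' : v ∉ l) : ⁅u, v⁆ = p * q := by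
  have a := f.Uc h.toGe hu
  have b := f.symm.Uc h.toGe hv
  exact f.third h.toGe (h.oc f.symm a hv)
    (fun e => hv' (h.inT f hv (h.memT f (f.cc h.toGe b) (centralizer_le_normalizer _ b) hu hu' (cm_inv e))))
    fun e => hu' (h.inT f.symm hu (h.memT f.symm (f.symm.cc h.toGe a) (centralizer_le_normalizer _ a) hv hv' e))

theorem sig (hc : c ∈ 𝐂 l) (hu : u ∈ Up V p) (hu' : u ∉ l) (hv : v ∈ Up V p) (hv' : v ∉ l) : ⁅c, u⁆ = ⁅c, v⁆ := by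
  have e1 := h.g1 f hu hv hu' hv'
  rw [show u = u * v * v by rw [mul_assoc, h.Up_sq f.col hv, mul_one],
    cmul' ((f.four h.toGe).le_c e1) (h.oc f hc hv), cm_c hc e1, one_mul]

theorem g3 (hu : u ∈ Up V p) (hu' : u ∉ zpowers p) : ∃ m, Fl V m p u := by
  have k := h.toGe
  suffices ∃ m, Ln V m ∧ p ∈ m ∧ u ∈ m from let ⟨m, a, b, c⟩ := this
    ⟨m, a, b, c, f.p1, fun e => hu' (e ▸ one_mem _), fun e => hu' (e ▸ mem_zpowers _)⟩
  by_cases e : u ∈ l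
  · exact ⟨l, f.ln, f.pl, e⟩
  obtain ⟨m, hm, hp, e1⟩ : ∃ m, Ln V m ∧ p ∈ m ∧ ¬ m ≤ l := by
    by_contra j
    push Not at j
    exact e (Up_le j hu)
  obtain ⟨y, f'⟩ := exFl k hm hp f.p1
  have y1 : y ∉ l := fun j => e1 (f'.gen k f'.ql (f'.qZ k) f.pl j)
  have y2 := f'.lU k f'.ql
  have v1 := h.g1 f hu y2 e y1
  by_cases e2 : u * y ∈ zpowers p
  · exact ⟨m, hm, hp, (mul_mem_cancel_right f'.ql).1 (zpowers_le.2 hp e2)⟩
  obtain ⟨a, ha, ha'⟩ := h.exU f.symm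
  have f2 := f'.cjc (f.cc k (f.symm.Uc k ha))
  refine ⟨_, f2.ln, f2.pl, (mul_mem_cancel_right f2.ql).1 (zpowers_le.2 f2.pl ?_)⟩
  rw [conj_eq, h.g2 f.symm ha ha' y2 y1, f.comm k, mem_centralizer_iff.1 (f.Uc k y2) _ (f.rot k).ql, ← mul_assoc]
  exact f.two k v1 (f.rot k).ql e2 ((f.rot k).qZ k)

variable {e1 e2 e3 : G} (a1 : e1 ∈ Up V p) (b1 : e1 ∉ l) (a2 : e2 ∈ Up V q) (b2 : e2 ∉ l) (a3 : e3 ∈ Up V (p * q))
  (b3 : e3 ∉ l)

include a1 b1 a2 b2 a3 b3 in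
theorem tt : Tt V l (e1 * e2 * e3) := by
  have k := h.toGe
  have f1 := f.rot k
  have f2 := f.rot' k
  have c1 := f.Uc k a1
  have c2 := f.symm.Uc k a2
  have c3 := f1.symm.Uc k a3
  have pp := f.pp k
  have qq := f.symm.pp k
  have qp := f.comm k
  have p3 : ∀ x, p * (p * x) = x := fun x => by rw [← mul_assoc, pp, one_mul]
  have q3 : ∀ x, q * (q * x) = x := fun x => by rw [← mul_assoc, qq, one_mul]
  have q4 : ∀ x, q * (p * x) = p * (q * x) := fun x => by rw [← mul_assoc, qp, mul_assoc]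
  have cm : ∀ r ∈ l, r ≠ 1 → ∀ u ∈ Up V r, u ∉ l → ⁅e1 * e2 * e3, u⁆ = r := fun r hr r1 u hu hu' => by
    obtain ⟨r', fr⟩ := exFl k f.ln hr r1
    rw [cmul (mul_mem c1 c2) (h.oc fr c3 hu), cmul c1 (h.oc fr c2 hu)]
    rcases f.cases k hr with rfl | rfl | rfl | rfl
    · exact absurd rfl r1
    · rw [h.g2 f1.symm a3 b3 hu hu', h.g2 f.symm a2 b2 hu hu', cm_c (k.Up_ab f.col a1) hu]
      simp [mul_assoc, *]
    · rw [h.g2 f2.symm a3 b3 hu hu', h.g2 f a1 b1 hu hu', cm_c (k.Up_ab f.symm.col a2) hu]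
      simp [mul_assoc, *]
    · rw [h.g2 f2 a2 b2 hu hu', h.g2 f1 a1 b1 hu hu', cm_c (k.Up_ab f1.symm.col a3) hu]
      simp [*]
  refine ⟨mul_mem (mul_mem c1 c2) c3, fun c hc => ?_, cm, ?_⟩
  · exact cm_right (cm_right (h.oc f hc a1) (h.oc f.symm hc a2) (centralizer_le_normalizer _ c1))
      (h.oc f1.symm hc a3) (centralizer_le_normalizer _ (mul_mem c1 c2))
  · have s2 := inv_eq_of_mul_eq_one_right (k.Up_sq f.symm.col a2)
    have s3 := inv_eq_of_mul_eq_one_right (k.Up_sq f1.symm.col a3)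
    have e : e1 * e2 * e3 * (e1 * e2 * e3) = ⁅e1 * e2 * e3, e1⁆ * (e1 * e1) * ⁅e2, e3⁆ := by
      rw [commutatorElement_def e2, s2, s3, commutatorElement_def]; group
    rw [e, cm p f.pl f.p1 e1 a1 b1, h.g2 f2 a2 b2 a3 b3, k.Up_sq f.col a1]
    simp [*]

theorem exT : ∃ t, Tt V l t :=
  let ⟨_, a1, b1⟩ := h.exU f
  let ⟨_, a2, b2⟩ := h.exU f.symm
  let ⟨_, a3, b3⟩ := h.exU (f.rot h.toGe).symm
  ⟨_, h.tt f a1 b1 a2 b2 a3 b3⟩

theorem tT (ht : Tt V l t) : t ∈ Tp V p :=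
  let ⟨u, a, b⟩ := h.exU f
  h.memT f (f.cc h.toGe ht.c) (centralizer_le_normalizer _ ht.c) a b ((ht.cm p f.pl f.p1 u a b).symm ▸ mem_zpowers p)

theorem tl (ht : Tt V l t) : t ∉ l := fun e =>
  let ⟨u, a, b⟩ := h.exU f
  f.p1 ((ht.cm p f.pl f.p1 u a b).symm.trans (cm_one (cm_c (f.Uc h.toGe a) e)))

theorem Wc : Wl V l ≤ 𝐂 l := Wl_le fun _ a b => let ⟨_, f'⟩ := exFl h.toGe f.ln a b; f'.Uc h.toGe

theorem adj (hu : u ∈ Up V p) (hu' : u ∉ l) (hc : c ∈ 𝐂 l) : ∃ w ∈ Wl V l, ⁅c * w, u⁆ = 1 := by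
  have k := h.toGe
  obtain ⟨a, a1, a2⟩ := h.exU f.symm
  obtain ⟨b, b1, b2⟩ := h.exU (f.rot k).symm
  have a3 := h.g2 f.symm a1 a2 hu hu'
  have b3 := h.g2 (f.rot k).symm b1 b2 hu hu'
  have a4 := Up_le_Wl f.ql f.q1 a1
  have b4 := Up_le_Wl (f.rot k).ql (f.rot k).q1 b1
  rw [f.comm k] at a3
  rw [mul_assoc, f.comm k, f.ppq k] at b3
  suffices ∃ w ∈ Wl V l, ⁅w, u⁆ = ⁅c, u⁆ from let ⟨w, c1, c2⟩ := this
    ⟨w, c1, by rw [cmul hc (h.oc f (h.Wc f c1) hu), c2, (f.four k).sq _ (h.oc f hc hu)]⟩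
  rcases f.cases k (h.oc f hc hu) with e | e | e | e <;> rw [e]
  · exact ⟨1, one_mem _, by simp⟩
  · exact ⟨b * a, mul_mem b4 a4, by rw [cmul (h.Wc f b4) (a3 ▸ (f.rot k).ql), a3, b3, mul_assoc, f.symm.pp k, mul_one]⟩
  exacts [⟨b, b4, b3⟩, ⟨a, a4, a3⟩]

/-- a second line through `p` with its involution -/
theorem exm : ∃ m u s, Fl V m p u ∧ u ∈ Up V p ∧ u ∉ l ∧ l ≠ m ∧ Tt V m s ∧ s ∈ Tp V p ∧ s ∈ 𝐍 l ∧ s ∉ 𝐂 l ∧
    ∀ c ∈ 𝐂 l, ⁅c, u⁆ = 1 → ⁅c, s⁆ ∈ m := by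
  have k := h.toGe
  obtain ⟨u, a, b⟩ := h.exU f
  obtain ⟨m, f'⟩ := h.g3 f a fun e => b (zpowers_le.2 f.pl e)
  obtain ⟨s, hs⟩ := h.exT f'
  have ne : l ≠ m := fun e => b (e ▸ f'.ql)
  refine ⟨m, u, s, f', a, b, ne, hs, h.tT f' hs, Ge.Tp_le_n f.ln f.pl (h.tT f' hs), fun e => f.p1 ?_,
    fun c c1 c2 => hs.o c (f'.genc k f'.ql (f'.qZ k) (f.cc k c1) c2)⟩
  rw [← hs.cm p f'.pl f.p1 q (f.lU k f.ql) fun j => f.qZ k (f.inf_le k f' ne f.ql j), cm_c e f.ql]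

theorem exs : ∃ s ∈ 𝐂 (zpowers p), s ∈ 𝐍 l ∧ s ∉ 𝐂 l ∧ (∀ c ∈ 𝐂 (Wl V l), ⁅c, s⁆ ∈ zpowers p) ∧
    ∀ c ∈ 𝐂 l, ⁅c, s⁆ ∈ Wl V l := by
  have k := h.toGe
  obtain ⟨m, u, s, f', a, b, ne, hs, s1, s2, s3, s4⟩ := h.exm f
  have uW := Up_le_Wl (V := V) f.pl f.p1
  have sW := n_le_n_Wl V l s2
  refine ⟨s, s1.1, s2, s3, fun c hc => ?_, fun c hc => ?_⟩
  · by_contra e
    obtain ⟨v, v1, v2⟩ := h.exU f.symm
    have := f'.gen k (s4 c (centralizer_anti (k.le_Wl f.ln) hc) (cm_c hc (uW a))) e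
      (le_centralizer_iff.1 (h.Wc f) f.pl) (cm_inv (cm_n (normalizer_le_normalizer_centralizer _ sW) hc)) f'.ql
    exact (f.rot k).q1 ((h.g2 f a b v1 v2).symm.trans (cm_c this (Up_le_Wl f.ql f.q1 v1)))
  · obtain ⟨w, w1, w2⟩ := h.adj f a b hc
    have := uW (f'.lU k (s4 _ (mul_mem hc (h.Wc f w1)) w2))
    rw [commutatorElement_mul_left_eq_conj_mul] at this
    exact (mul_mem_cancel_left (conj_mem_of_mem_normalizer (n_le_n_Wl V l (centralizer_le_normalizer _ hc))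
      (cm_inv (cm_n sW w1)))).1 this

omit f in
theorem cW0 : 𝐂 (Wl V V) ≤ V := fun c hc => by
  have k := h.toGe
  obtain ⟨y, f⟩ := exFl k (Ln.self V) h.zV h.z1
  obtain ⟨s, s1, s2, s3, s4, s5⟩ := h.exs f
  obtain ⟨r, r1, r2, r3, r4, r5⟩ := h.exs f.symm
  let N := Wl V V ⊔ zpowers s ⊔ zpowers r
  have n1 : Wl V V ≤ N := le_sup_left.trans le_sup_left
  have n2 : s ∈ N := mem_sup_left (mem_sup_right (mem_zpowers s))
  have n3 : r ∈ N := mem_sup_right (mem_zpowers r)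
  have n4 : 𝐂 V ≤ 𝐍 N := le_normalizer_of_commutator_le (commutator_sup_le (commutator_sup_le
    ((commutator_le_of_le_normalizer ((centralizer_le_normalizer _).trans (n_le_n_Wl V V))).trans n1)
    (commutator_zpowers_le (fun c hc => n1 (cm_inv (s5 c hc))) (le_normalizer n2)) (n1.trans le_normalizer)
    (zpowers_le.2 (le_normalizer n2))) (commutator_zpowers_le (fun c hc => n1 (cm_inv (r5 c hc))) (le_normalizer n3))
    (le_sup_left.trans le_normalizer) (zpowers_le.2 (le_normalizer n3)))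
  have n5 : S ≤ 𝐍 (𝐂 N) := fun x hx => normalizer_le_normalizer_centralizer _ (by
    by_cases e : x ∈ 𝐂 V
    · exact n4 e
    · exact (mul_mem_cancel_right (le_normalizer n2)).1 (n4 (f.mulc k (k.S_le hx) (h.le hx) e s1 s2 s3)))
  have n6 : 𝐂 N ≤ 𝐍 V := (centralizer_anti ((k.le_Wl f.ln).trans n1)).trans (centralizer_le_normalizer _)
  have o1 : pCoreOf 2 (𝐍 V) ≤ S := (h.syl.mono h.le le_top).pCoreOf_le
  have n7 : 𝐂 N ⊓ pCoreOf 2 (𝐍 V) = ⊥ := by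
    by_contra e
    have := (zs k (inf_le_right.trans o1) (le_normalizer_inf n5 (h.le.trans (le_normalizer_pCoreOf 2 _))) e).1
    exact f.q1 ((f.symm.swap k r1 r2 r3).symm.trans (cm_one (cm_c this n3)))
  have n8 : 𝐂 N ≤ ⊥ := n7 ▸ le_inf le_rfl ((le_inf n6 (commutator_eq_bot_iff'.1 (le_bot_iff.1
    ((commutator_le_inf_of_le_normalizer (o1.trans n5) (n6.trans (le_normalizer_pCoreOf 2 _))).trans
      ((inf_comm _ _).trans n7).le)))).trans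
      (fr_charP h.toFr k.four.isP k.four.ne_bot))
  have lY := le_centralizer_iff.1 (h.Wc f)
  have cV := centralizer_anti (k.le_Wl f.ln)
  obtain ⟨a, a1, a2⟩ := f.fixp k s1 s2 s3 (cV hc) (s4 c hc)
  have a3 := zpowers_le.2 f.ql a1
  have c2 := mul_mem hc (lY a3)
  obtain ⟨b, b1, b2⟩ := f.symm.fixp k r1 r2 r3 (cV c2) (r4 _ c2)
  have b3 := zpowers_le.2 f.pl b1
  have := n8 (x := c * a * b) (by
    rw [centralizer_sup', centralizer_sup']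
    exact ⟨⟨mul_mem c2 (lY b3), mul_mem (mem_cz.2 a2) (mem_cz.2 (cm_one (cm_c s1 b1)))⟩, mem_cz.2 b2⟩)
  exact (mul_mem_cancel_right a3).1 ((mul_mem_cancel_right b3).1 (mem_bot.1 this ▸ one_mem _))

theorem memY (hc : c ∈ 𝐂 l) (h1 : ∀ p ∈ l, p ≠ 1 → ∀ u ∈ Up V p, u ∉ l → ⁅c, u⁆ = 1) : c ∈ l := by
  have : 𝐂 (Wl V l) ≤ l := by
    obtain ⟨g, rfl⟩ := f.ln
    rw [← cj_Wl, ← cj_centralizer]; exact cj_mono g h.cW0
  refine this (le_centralizer_iff.1 (Wl_le fun p a b u hu => cz_symm (mem_cz.2 ?_)) (mem_zpowers c))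
  by_cases e : u ∈ l
  exacts [cm_c hc e, h1 p a b u hu e]

theorem tu {t' : G} (ht : Tt V l t) (ht' : Tt V l t') : t * t' ∈ l :=
  h.memY f (mul_mem ht.c ht'.c) fun r a b u c d => by
    rw [cmul ht.c ((ht'.cm r a b u c d).symm ▸ a), ht.cm r a b u c d, ht'.cm r a b u c d, (f.four h.toGe).sq r a]

theorem tn (ht : Tt V l t) (hg : g ∈ 𝐍 l) : ⁅g, t⁆ ∈ l := by
  have := ht.cj g
  rw [cj_eq_of_mem_normalizer hg] at this
  rw [commutatorElement_def, inv_eq_of_mul_eq_one_right ht.sq]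
  exact h.tu f this ht

theorem tmul (ht : Tt V l t) (h1 : v * t ∈ l) : Tt V l v := by
  have e : v = v * t * t := by rw [mul_assoc, ht.sq, mul_one]
  have c1 := (f.four h.toGe).le_c h1
  generalize v * t = w at *
  subst e
  refine ⟨mul_mem c1 ht.c, fun c hc => cm_right (cm_c hc h1 ▸ one_mem _) (ht.o c hc) (centralizer_le_normalizer _ c1),
    fun r a b u c d => ?_, ?_⟩
  · obtain ⟨_, f'⟩ := exFl h.toGe f.ln a b
    rw [cmul c1 ((ht.cm r a b u c d).symm ▸ a), ht.cm r a b u c d, cm_one (cm_c (f'.Uc h.toGe c) h1), mul_one]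
  · rw [mul_assoc, ← mul_assoc t, ← mem_centralizer_iff.1 ht.c w h1, mul_assoc, ht.sq, mul_one, (f.four h.toGe).sq w h1]

theorem adjg (ht : Tt V l t) (hg : g ∈ 𝐍 l) :
    ∃ w ∈ 𝐂 l, (w = 1 ∨ ∃ r r', Fl V l r r' ∧ w ∈ Up V r ∧ w ∉ l) ∧ ⁅g * w, t⁆ = 1 := by
  by_cases e : ⁅g, t⁆ = 1
  · exact ⟨1, one_mem _, Or.inl rfl, by simpa using e⟩
  obtain ⟨r', f'⟩ := exFl h.toGe f.ln (conj_mem_of_mem_normalizer' hg (h.tn f ht hg)) (mt conj_ne_one_aux e)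
  obtain ⟨w, a, b⟩ := h.exU f'
  refine ⟨w, f'.Uc h.toGe a, Or.inr ⟨_, _, f', a, b⟩, ?_⟩
  rw [commutatorElement_mul_left_eq_conj_mul, ← commutatorElement_inv t w, ht.cm _ f'.pl f'.p1 w a b]
  group

include a1 b1 a2 b2 a3 b3 in
theorem sigt (ht : Tt V l t) (hc : c ∈ 𝐂 l) : ⁅c, t⁆ = ⁅c, e1⁆ * ⁅c, e2⁆ * ⁅c, e3⁆ := by
  have k := h.toGe
  have t' := h.tt f a1 b1 a2 b2 a3 b3
  have e := h.tu f ht t'
  rw [show t = t * (e1 * e2 * e3) * (e1 * e2 * e3) by rw [mul_assoc, t'.sq, mul_one],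
    cmul' ((f.four k).le_c e) (t'.o c hc), cm_c hc e, one_mul,
    cmul' (mul_mem (f.Uc k a1) (f.symm.Uc k a2)) (h.oc (f.rot k).symm hc a3), cmul' (f.Uc k a1) (h.oc f.symm hc a2)]

include a2 b2 a3 b3 in
theorem cons (hc : c ∈ 𝐂 l) (hc' : c ∈ Tp V p) : ⁅c, e2⁆ ∈ zpowers (p * q) ↔ ⁅c, e3⁆ ∈ zpowers q := by
  have k := h.toGe
  obtain ⟨m, u, s, f', a, b, ne, hs, s1, s2, s3, s4⟩ := h.exm f
  obtain ⟨t, ht⟩ := h.exT f
  have d1 : ⁅s, c⁆ ∈ Up V p := cm_inv (by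
    rcases (f.memZ k).1 ((mem_Tp.1 hc').2 u a) with e | e
    · exact f'.lU k (s4 c hc e)
    · have e1 := ht.cm p f.pl f.p1 u a b
      have := f'.lU k (s4 _ (mul_mem hc ht.c) (by rw [cmul hc (e1.symm ▸ f.pl), e, e1, f.pp k]))
      rw [cmul hc (cm_inv (h.tn f ht s2))] at this
      exact (mul_mem_cancel_left (f.lU k (cm_inv (h.tn f ht s2)))).1 this)
  have d2 : ⁅⁅s, c⁆, e2⁆ ∈ zpowers (p * q) := by
    by_cases e : ⁅s, c⁆ ∈ l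
    · exact cm_one (cm_c (f.symm.Uc k a2) e) ▸ one_mem _
    · exact (h.g2 f d1 e a2 b2).symm ▸ mem_zpowers _
  have e4 := f.swap' k s1.1 s2 s3
  have d3 : s * ⁅c, e3⁆ * s⁻¹ = ⁅c, e2⁆ * ⁅⁅s, c⁆, e2⁆ := by
    have j : s * e3 * s⁻¹ ∈ Up V q := by
      rw [← f.ppq k, ← (f.rot k).swap' k s1.1 s2 s3, ← cj_Up]; exact conj_mem_cj s a3
    rw [conjugate_commutatorElement, h.sig f.symm (conj_mem_of_mem_normalizer
      (normalizer_le_normalizer_centralizer l s2) hc) j (mt (mem_normalizer_iff.1 s2 _).2 b3) a2 b2, conj_eq,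
      cmul (f.Uc k d1) (h.oc f.symm hc a2)]
  rw [← mul_mem_cancel_right d2, ← d3, ← e4, ← cj_zpowers, conj_mem_cj_iff]

theorem ka (ht : Tt V l t) (hc : c ∈ 𝐂 l) (h1 : ⁅c, t⁆ = 1) (hu : u ∈ Up V p) (hu' : u ∉ l) (h2 : ⁅c, u⁆ = 1) : c ∈ l := by
  have k := h.toGe
  have f1 := f.rot k
  have f2 := f.rot' k
  obtain ⟨e2, a2, b2⟩ := h.exU f.symm
  obtain ⟨e3, a3, b3⟩ := h.exU f1.symm
  have l2 := h.oc f.symm hc a2
  have e := h.sigt f hu hu' a2 b2 a3 b3 ht hc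
  rw [h1, h2, one_mul, eq_comm, mul_eq_one_iff_inv_eq, inv_eq_of_mul_eq_one_right ((f.four k).sq _ l2)] at e
  have c1 := h.cons f a2 b2 a3 b3 hc (h.memT f (f.cc k hc) (centralizer_le_normalizer _ hc) hu hu' (h2 ▸ one_mem _))
  rw [← e] at c1
  rcases f.cases k l2 with j | j | j | j
  · refine h.memY f hc fun r a b v c d => ?_
    rcases f.cases k a with rfl | rfl | rfl | rfl
    exacts [absurd rfl b, h.sig f hc c d hu hu' ▸ h2, h.sig f.symm hc c d a2 b2 ▸ j,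
      h.sig f1.symm hc c d a3 b3 ▸ e ▸ j]
  · have uc := f.Uc k hu
    have c2 := mul_mem hc uc
    have c3 := h.cons f.symm hu hu' (f.comm k ▸ a3) b3 c2 (h.memT f.symm (f.symm.cc k c2)
      (centralizer_le_normalizer _ c2) a2 b2 (by
        rw [cmul hc (h.oc f.symm uc a2), j, h.g2 f hu hu' a2 b2, mul_assoc, f.comm k, f.ppq k]; exact mem_zpowers q))
    rw [cmul hc (h.oc f uc hu), cmul hc (h.oc f1.symm uc a3), h2, ← e, j, h.g2 f1 hu hu' a3 b3, f.ppq k, f.comm k,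
      commutatorElement_self, mul_one] at c3
    exact absurd (c3.1 (one_mem _)) (f1.qZ k)
  · rw [j] at c1; exact absurd (c1.2 (mem_zpowers _)) (f2.symm.qZ k)
  · rw [j] at c1; exact absurd (c1.1 (mem_zpowers _)) (f2.qZ k)

end Mb

end H27.FM
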