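import Cfsg.Agent.H27.PLDef
import Cfsg.Agent.H27.FM3
/-! Towards `H26.FD2'`, part 1: components of vectors of `V`, good vectors, and `C(v) ≤ N(V)` for non-points `v`. -/
set_option autoImplicit false
set_option linter.unusedSectionVars false
namespace H27.FD
open Cfsg Subgroup H26 H4 H118 H27.FM
open scoped Pointwise commutatorElement

local notation "𝐉" => thompsonSubgroupOf 2

variable {G : Type*} [Group G] [Finite G] {S V W W' T X : Subgroup G} {P : Set (Subgroup G)} {z a b g t v r : G}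

theorem four_fix (h : Four W) (h1 : r ∈ 𝐍 W) (h2 : r ^ 3 ∈ 𝐂 W) (ha : a ∈ W) (a1 : a ≠ 1) (e : r * a * r⁻¹ = a) :
    r ∈ 𝐂 W := by
  have c := mem_c_of_conj_eq e
  refine mem_of_pow_mem_coprime (a := 2) (b := 3) (by norm_num) (mem_centralizer_iff.2 fun u hu => ?_) h2
  have := sq_stab (W := ⊥) (fun u hu => cm_inv (h.commutator_le_of_card (zpowers_le.2 ha) (card_two (h.sq a ha) a1)
    (zpowers_le.2 h1) (zpowers_le.2 (c_n c)) (commutator_mem_commutator hu (mem_zpowers r))))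
    (fun u hu => (cm_c c hu).symm ▸ one_mem _) (fun u hu => h.sq u (zpowers_le.2 ha hu)) u hu
  rw [pow_two, ← commutatorElement_eq_one_iff_mul_comm.1 (mem_bot.1 this)]

theorem four_trans (h : Four W) (h1 : r ∈ 𝐍 W) (h2 : r ^ 3 ∈ 𝐂 W) (h3 : r ∉ 𝐂 W) (ha : a ∈ W) (a1 : a ≠ 1)
    (hb : b ∈ W) (b1 : b ≠ 1) : ∃ g ∈ zpowers r, g * a * g⁻¹ = b := by
  have a2 := conj_mem_of_mem_normalizer h1 ha
  have a3 : a ≠ r * a * r⁻¹ := fun e => h3 (four_fix h h1 h2 ha a1 e.symm)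
  have e2 : r * r * a * (r * r)⁻¹ = r * (r * a * r⁻¹) * r⁻¹ := by group
  rcases four_cases h ha a2 a1 (conj_ne_one r a1) a3 hb with e | e | e | e
  · exact absurd e b1
  · exact ⟨1, one_mem _, by simp [e]⟩
  · exact ⟨r, mem_zpowers r, e.symm⟩
  refine ⟨r * r, mul_mem (mem_zpowers r) (mem_zpowers r), ?_⟩
  rcases four_cases h ha a2 a1 (conj_ne_one r a1) a3 (conj_mem_of_mem_normalizer (mul_mem h1 h1) ha) with j | j | j | j
  · exact absurd j (conj_ne_one _ a1)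
  · refine absurd (mem_of_pow_mem_coprime (a := 2) (b := 3) (by norm_num) ?_ h2) h3
    rw [pow_two]
    exact four_fix h (mul_mem h1 h1) (by rw [← pow_two, ← pow_mul, mul_comm, pow_mul]; exact pow_mem h2 2) ha a1 j
  · exact absurd (four_fix h h1 h2 a2 (conj_ne_one r a1) (e2 ▸ j)) h3
  · exact j.trans e.symm

theorem four_inv (h : Four W) (h3 : t ∉ 𝐂 W) (ha : a ∈ W) (a1 : a ≠ 1) (hb : b ∈ W) (b1 : b ≠ 1)
    (e1 : t * a * t⁻¹ = a) (e2 : t * b * t⁻¹ = b) : a = b := by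
  by_contra e
  refine h3 (mem_centralizer_iff'.2 fun u hu => ?_)
  rcases four_cases h ha hb a1 b1 e hu with rfl | rfl | rfl | rfl
  exacts [by simp, e1, e2, by rw [← conj_mul, e1, e2]]

/-- the centralizer of the group of "transvections" of the plane `W` -/
abbrev pp (V W : Subgroup G) : Subgroup G := 𝐂 (plE V (𝐍 V) W)

structure D2 (S V : Subgroup G) (P : Set (Subgroup G)) (z : G) : Prop where
  fr : Fr S V
  pl : PL S V P
  hV : IsPGroup 2 V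
  nB : 𝐍 (bm S) ≤ 𝐍 V
  ab : fU S V ≤ 𝐂 (fU S V)
  two : ∀ W ∈ P, ∃ W' ∈ P, W ≠ W'
  zoz : z ∈ oz S
  z1 : z ≠ 1

def good (V : Subgroup G) (P : Set (Subgroup G)) (z v : G) : Prop := ∀ W ∈ P, v ∈ pp V W ∨ z * v ∈ pp V W

theorem cj_bm (g : G) (S : Subgroup G) : cj g (bm S) = bm (cj g S) := by
  rw [bm, bm, ← cj_thompsonOf, ← cj_oz, ← cj_centralizer, ← cj_inf]

theorem bm_eq {S' : Subgroup G} (h : IsSyl 2 S ⊤) (h' : IsSyl 2 S' ⊤) (e : bm S ≤ S') : bm S' = bm S := by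
  obtain ⟨g, -, rfl⟩ := h.exists_cj_eq h'
  have j := h.thompson_eq h'.isP ((j_le_bm S).trans e) le_top
  refine (eq_of_le_of_card_ge (le_inf e (j ▸ inf_le_right)) ?_).symm
  exact ((congrArg (fun X : Subgroup G => Nat.card X) (cj_bm g S)).symm.trans (card_cj g _)).le

namespace D2
variable (h : D2 S V P z)
include h

theorem Vc : V ≤ 𝐂 V := h.fr.le_c h.hV
theorem sq (hv : v ∈ V) : v * v = 1 := h.fr.sq h.hV hv
theorem zV : z ∈ V := h.fr.oz_le h.zoz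
theorem Sz : S ≤ 𝐂 (zpowers z) := le_centralizer_iff.1 (zpowers_le.2 (oz_le_c S h.zoz))
theorem le_pp (hW : W ∈ P) (hW' : W' ∈ P) (ne : W ≠ W') : W' ≤ pp V W := le_centralizer_iff.1 (h.pl.cent W hW W' hW' ne)

theorem dec (hW : W ∈ P) (hv : v ∈ V) : ∃ a ∈ W, ∃ c ∈ V ⊓ pp V W, a * c = v :=
  (mem_sup_of_le_normalizer (le_normalizer_of_le_centralizer
    ((h.pl.le W hW).trans (h.Vc.trans (centralizer_anti inf_le_left))))).1 (h.pl.span.trans (sSup_le fun W' hW' => by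
      by_cases e : W = W'
      exacts [e ▸ le_sup_left, le_sup_of_le_right (le_inf (h.pl.le W' hW') (h.le_pp hW hW' e))]) hv)

theorem notc (hW : W ∈ P) (h1 : t ∈ plE V (𝐍 V) W) (h2 : t ∉ 𝐂 V) : t ∉ 𝐂 W := fun e =>
  h2 (mem_centralizer_iff.2 fun v hv => by
    obtain ⟨a, ha, c, hc, rfl⟩ := h.dec hW hv
    rw [mul_assoc, ← mem_centralizer_iff.1 hc.2 t h1, ← mul_assoc, mem_centralizer_iff.1 e a ha, mul_assoc])

theorem disj (hW : W ∈ P) (ha : a ∈ W) (h1 : a ∈ pp V W) : a = 1 := by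
  by_contra e
  obtain ⟨r, r1, r2, r3⟩ := h.pl.rho W hW
  exact h.notc hW r1 r3 (four_fix (h.pl.four W hW) r1.2.1 (centralizer_anti (h.pl.le W hW) r2) ha e
    (by rw [mem_centralizer_iff.1 h1 r r1, mul_inv_cancel_right]))

theorem pp_conj (hW : W ∈ P) (hg : g ∈ 𝐍 V) : g * v * g⁻¹ ∈ pp V (cj g W) ↔ v ∈ pp V W := by
  rw [pp, ← cj_plE (h.pl.le W hW) hg (normalizer_le_normalizer_normalizer V hg), ← cj_centralizer, conj_mem_cj_iff]

theorem pp_n (hW : W ∈ P) (hg : g ∈ 𝐍 V) (hg' : g ∈ 𝐍 W) : g ∈ 𝐍 (pp V W) :=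
  mem_normalizer_iff.2 fun v => by rw [← h.pp_conj hW hg, cj_eq_of_mem_normalizer hg']

theorem nW (hW : W ∈ P) (hg : g ∈ 𝐍 V) (ha : a ∈ W) (a1 : a ≠ 1) (e : g * a * g⁻¹ ∈ W) : g ∈ 𝐍 W := by
  by_contra k
  exact conj_ne_one g a1 (h.disj hW e (h.le_pp hW (h.pl.conj W hW g hg) (fun j => k (cj_eq_iff.1 j.symm))
    (conj_mem_cj g ha)))

theorem sep (hv : v ∈ V) (h1 : ∀ W ∈ P, v ∈ pp V W) : v = 1 := by
  have : ∀ A : Set (Subgroup G), A ⊆ P → ∀ v ∈ sSup A, (∀ W ∈ A, v ∈ pp V W) → v = 1 := fun A => by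
    induction A, A.toFinite using Set.Finite.induction_on with
    | empty => simp
    | @insert W A hW _ ih =>
      intro hA v hv h1
      have hW' := hA (Set.mem_insert _ _)
      have hA' := (Set.subset_insert _ _).trans hA
      rw [sSup_insert] at hv
      obtain ⟨a, ha, c, hc, rfl⟩ := (mem_sup_of_le_normalizer (le_normalizer_of_le_centralizer ((h.pl.le W hW').trans
        (h.Vc.trans (centralizer_anti (sSup_le fun U hU => h.pl.le U (hA' hU))))))).1 hv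
      obtain rfl := h.disj hW' ha ((mul_mem_cancel_right (sSup_le (fun U hU => h.le_pp hW' (hA' hU)
        fun e => hW (e ▸ hU)) hc)).1 (h1 W (Set.mem_insert _ _)))
      rw [one_mul] at h1 ⊢
      exact ih hA' c hc fun U hU => h1 U (Set.mem_insert_of_mem _ hU)
  exact this P le_rfl v (h.pl.span hv) h1

theorem full' (hv : v ∈ oz S) (v1 : v ≠ 1) (hW : W ∈ P) : v ∉ pp V W := fun e =>
  v1 (h.sep (h.fr.oz_le hv) fun W' hW' => by
    obtain ⟨s, hs, rfl⟩ := h.pl.trans W hW W' hW'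
    rw [← mem_centralizer_iff'.1 (le_c_oz S hs) v hv]
    exact (h.pp_conj hW (h.fr.le hs)).2 e)

theorem full (hW : W ∈ P) (hg : g ∈ 𝐍 V) : g * z * g⁻¹ ∉ pp V W := by
  rw [← cj_cj_inv g W, h.pp_conj (h.pl.conj W hW _ (inv_mem hg)) hg]
  exact h.full' h.zoz h.z1 (h.pl.conj W hW _ (inv_mem hg))

theorem comp_fix (hW : W ∈ P) (h1 : t ∈ plE V (𝐍 V) W) {c : G} (hc : c ∈ pp V W) (e : t * (a * c) * t⁻¹ = a * c) :
    t * a * t⁻¹ = a := by
  rwa [← conj_mul, mem_centralizer_iff.1 hc t h1, mul_inv_cancel_right, mul_left_inj] at e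

theorem good_of (hv : v ∈ V) (h1 : ∀ W ∈ P, ∀ t ∈ 𝐉 S, t ∈ plE V (𝐍 V) W → t * v * t⁻¹ = v) : good V P z v :=
  fun W hW => by
  obtain ⟨t, t1, t2, t3⟩ := h.pl.tv W hW
  obtain ⟨a, ha, c, hc, rfl⟩ := h.dec hW hv
  obtain ⟨b, hb, d, hd, e⟩ := h.dec hW h.zV
  by_cases a1 : a = 1
  · exact Or.inl (by simpa [a1] using hc.2)
  have b1 : b ≠ 1 := fun k => h.full' h.zoz h.z1 hW (by simpa [← e, k] using hd.2)
  obtain rfl := four_inv (h.pl.four W hW) (h.notc hW t2 t3) ha a1 hb b1 (h.comp_fix hW t2 hc.2 (h1 W hW t t1 t2))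
    (h.comp_fix hW t2 hd.2 (e.symm ▸ conj_eq_of_mem_c (h.Sz (thompsonOf_le 2 S t1))))
  right
  rw [← e, mul_assoc, ← mul_assoc d, mem_centralizer_iff.1 (h.Vc (h.pl.le W hW ha)) d hd.1, mul_assoc, ← mul_assoc,
    h.sq (h.pl.le W hW ha), one_mul]
  exact mul_mem hd.2 hc.2

theorem eq_z (hv : v ∈ V) (h1 : good V P z v) (h2 : ∀ W ∈ P, v ∉ pp V W) : v = z := by
  have := h.sep (mul_mem h.zV hv) fun W hW => (h1 W hW).resolve_left (h2 W hW)
  rw [← mul_right_inj z, this, h.sq h.zV]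

theorem zeq : oz S = zpowers z := le_antisymm (fun v hv => by
  by_cases e : v = 1
  · exact e ▸ one_mem _
  · exact h.eq_z (h.fr.oz_le hv) (h.good_of (h.fr.oz_le hv) fun _ _ t ht _ =>
      mem_centralizer_iff'.1 (le_c_oz S (thompsonOf_le 2 S ht)) v hv) (fun W => h.full' hv e) ▸ mem_zpowers _)
  (zpowers_le.2 h.zoz)

theorem fH_eq : fH S = 𝐂 (zpowers z) := by rw [fH, h.zeq]

theorem fix_good (hg : g ∈ 𝐍 V) (g1 : g ∈ 𝐂 (zpowers z)) (g2 : ∀ W ∈ P, g ∈ 𝐍 W) (hv : v ∈ V) (h1 : good V P z v) :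
    ⁅g, v⁆ = 1 := h.sep (cm_n hg hv) fun W hW => by
  rcases h1 W hW with e | e
  · exact cm_n (h.pp_n hW hg (g2 W hW)) e
  · have := cm_n (h.pp_n hW hg (g2 W hW)) e
    rwa [cmul' (h.Vc h.zV) (cm_n hg hv), mem_cz.1 g1, one_mul] at this

theorem to_good (hv : v ∈ V) : ∃ m ∈ 𝐍 V, good V P z (m * v * m⁻¹) := by
  have : ∀ A : Set (Subgroup G), A ⊆ P → ∃ m ∈ 𝐍 V, good V A z (m * v * m⁻¹) := fun A => by
    induction A, A.toFinite using Set.Finite.induction_on with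
    | empty => exact fun _ => ⟨1, one_mem _, by simp [good]⟩
    | @insert W A hW _ ih =>
      intro hA
      have hW' := hA (Set.mem_insert _ _)
      have hA' := (Set.subset_insert _ _).trans hA
      obtain ⟨m, hm, k⟩ := ih hA'
      obtain ⟨a, ha, c, hc, e1⟩ := h.dec hW' (conj_mem_of_mem_normalizer hm hv)
      obtain ⟨b, hb, d, hd, e⟩ := h.dec hW' h.zV
      by_cases a1 : a = 1
      · exact ⟨m, hm, Set.forall_mem_insert.2 ⟨Or.inl (by simpa [← e1, a1] using hc.2), k⟩⟩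
      obtain ⟨r, r1, r2, r3⟩ := h.pl.rho W hW'
      obtain ⟨g, hg, e2⟩ := four_trans (h.pl.four W hW') r1.2.1 (centralizer_anti (h.pl.le W hW') r2)
        (h.notc hW' r1 r3) ha a1 hb fun k => h.full' h.zoz h.z1 hW' (by simpa [← e, k] using hd.2)
      replace hg := zpowers_le.2 r1 hg
      have e3 : g * m * v * (g * m)⁻¹ = g * (m * v * m⁻¹) * g⁻¹ := by group
      refine ⟨g * m, mul_mem hg.1 hm, e3 ▸ Set.forall_mem_insert.2 ⟨Or.inr ?_, fun U hU => ?_⟩⟩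
      · rw [← e1, ← conj_mul, e2, mem_centralizer_iff.1 hc.2 g hg, mul_inv_cancel_right, ← e, mul_assoc, ← mul_assoc d,
          mem_centralizer_iff.1 (h.Vc (h.pl.le W hW' hb)) d hd.1, mul_assoc, ← mul_assoc, h.sq (h.pl.le W hW' hb), one_mul]
        exact mul_mem hd.2 hc.2
      · have j := hg.2.2 _ (conj_mem_of_mem_normalizer hm hv)
        have j2 := h.le_pp (hA' hU) hW' (fun i => hW (i ▸ hU)) j
        rw [conj_eq g, ← mul_assoc z, mem_centralizer_iff.1 (h.Vc (h.pl.le W hW' j)) z h.zV, mul_assoc _ z]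
        exact (k U hU).imp (mul_mem j2) (mul_mem j2)
  exact this P le_rfl

theorem B_le (hv : v ∈ V) (h1 : good V P z v) : bm S ≤ 𝐂 (zpowers v) := by
  have c : v ∈ 𝐂 (𝐉 S) := mem_centralizer_iff.2 fun t ht => commutatorElement_eq_one_iff_mul_comm.1 (h.fix_good
    (h.fr.le (thompsonOf_le 2 S ht)) (h.Sz (thompsonOf_le 2 S ht)) (fun W hW => h.pl.jn W hW ht) hv h1)
  have s : v ^ 2 = 1 := by rw [pow_two, h.sq hv]
  exact inf_le_right.trans (centralizer_anti (zpowers_le.2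
    (mem_omegaOne ⟨mem_thompsonOf_of_centralizes (h.fr.V_le_S h.hV hv) c s, c⟩ s)))

theorem z_oz (hT : IsPGroup 2 T) (h1 : bm S ≤ T) : z ∈ oz T := by
  obtain ⟨S', s1, s2⟩ := exists_isSyl_ge hT le_top
  have n : S' ≤ 𝐍 V := (le_normalizer.trans (n_bm S')).trans (bm_eq h.fr.syl s1 (h1.trans s2) ▸ h.nB)
  obtain ⟨m, hm, rfl⟩ := h.fr.sylM.exists_cj_eq (s1.mono n le_top)
  have c : cj m S ≤ 𝐂 (zpowers (m * z * m⁻¹)) := by rw [← cj_zpowers, ← cj_centralizer]; exact cj_mono m h.Sz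
  have zv := conj_mem_of_mem_normalizer hm h.zV
  rw [h.eq_z zv (h.good_of zv fun _ _ t ht _ => conj_eq_of_mem_c (c (s2 (h1 (j_le_bm S ht)))))
    fun W hW => h.full hW hm] at c
  exact mem_omegaOne ⟨h1 (j_le_bm S ((oz_le _) (oz_le_oz_thompson S h.zoz))), le_centralizer_iff.1 (s2.trans c) (mem_zpowers z)⟩
    (by rw [pow_two, h.sq h.zV])

theorem charv (hv : v ∈ V) (v1 : v ≠ 1) : CharPOf 2 (𝐂 (zpowers v)) :=
  h.fr.charP_c (h.hV.to_le (zpowers_le.2 hv)) (by simpa using v1)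

theorem a0 (hv : v ∈ V) (h1 : good V P z v) (v1 : v ≠ 1) : ncl (zpowers z) (𝐂 (zpowers v)) ≤ V ∧
    𝐂 (zpowers v) ≤ 𝐍 V ⊔ (𝐂 (zpowers v) ⊓ 𝐂 (ncl (zpowers z) (𝐂 (zpowers v)))) := by
  obtain ⟨T, t1, t2⟩ := exists_isSyl_ge h.fr.isP.to_inf_left (h.B_le hv h1)
  have f := (h.fr.f1 _ T (h.charv hv v1) t1 t2).trans (sup_le_sup_left (inf_le_inf_left _ (centralizer_anti
    (show ncl (zpowers z) (𝐂 (zpowers v)) ≤ _ by
      rw [zc, t1.sylowCenterClosure_eq]; exact ncl_mono (zpowers_le.2 (h.z_oz t1.isP t2)) le_rfl))) _)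
  refine ⟨ncl_le_iff.2 fun g hg => ?_, f.trans (sup_le_sup_right inf_le_right _)⟩
  obtain ⟨m, hm, c, hc, rfl⟩ := (mem_sup_of_le_normalizer (le_normalizer_inf (inf_le_left.trans le_normalizer)
    (inf_le_left.trans (le_normalizer_centralizer (le_normalizer_ncl _ _))))).1 (f hg)
  rw [cj_mul, cj_eq_of_mem_centralizer (centralizer_anti (le_ncl _ _) hc.2)]
  exact cj_le_of_mem_normalizer (zpowers_le.2 h.zV) hm.2

theorem W_le (hW : W ∈ P) (h1 : v ∈ pp V W) : W ≤ ncl (zpowers z) (𝐂 (zpowers v)) := fun b hb => by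
  obtain ⟨r, r1, r2, r3⟩ := h.pl.rho W hW
  have r4 : zpowers r ≤ 𝐍 (ncl (zpowers z) (𝐂 (zpowers v))) :=
    (zpowers_le.2 (le_centralizer_iff.1 (zpowers_le.2 h1) r1)).trans (le_normalizer_ncl _ _)
  have r5 := centralizer_anti (h.pl.le W hW) r2
  by_cases b1 : b = 1
  · exact b1 ▸ one_mem _
  obtain ⟨g, hg, rfl⟩ := four_trans (h.pl.four W hW) r1.2.1 r5 (h.notc hW r1 r3) (r1.2.2 z h.zV) (fun e => by
    obtain ⟨a, ha, d, hd, k⟩ := h.dec hW h.zV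
    exact h.notc hW r1 r3 (four_fix (h.pl.four W hW) r1.2.1 r5 ha (fun j => h.full' h.zoz h.z1 hW
      (by simpa [← k, j] using hd.2)) (h.comp_fix hW r1 hd.2 (by rw [k, conj_eq, e, one_mul])))) hb b1
  exact conj_mem_of_mem_normalizer (r4 hg) (cm_n (r4 (mem_zpowers r)) (le_ncl _ _ (mem_zpowers z)))

theorem cM0 (hv : v ∈ V) (h1 : good V P z v) (v1 : v ≠ 1) (v2 : v ≠ z) : 𝐂 (zpowers v) ≤ 𝐍 V := by
  have zz : z * (z * v) = v := by rw [← mul_assoc, h.sq h.zV, one_mul]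
  have a := h.a0 hv h1 v1
  have b := h.a0 (mul_mem h.zV hv) (fun W hW => (h1 W hW).symm.imp_right fun e => zz.symm ▸ e)
    fun e => v2 (by rw [← zz, e, mul_one])
  have e : ncl (zpowers z) (𝐂 (zpowers v)) ⊔ ncl (zpowers z) (𝐂 (zpowers (z * v))) = V :=
    le_antisymm (sup_le a.1 b.1) (h.pl.span.trans (sSup_le fun W hW => (h1 W hW).elim
      (fun j => le_sup_of_le_left (h.W_le hW j)) fun j => le_sup_of_le_right (h.W_le hW j)))
  refine a.2.trans (sup_le le_rfl (e ▸ le_normalizer_sup (inf_le_left.trans (le_normalizer_ncl _ _))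
    (le_trans (fun c hc => ?_) (le_normalizer_ncl _ _))))
  exact cz_symm (mul_mem (cz_symm (centralizer_anti (le_ncl _ _) hc.2)) (cz_symm hc.1))

theorem cM (hv : v ∈ V) (v1 : v ≠ 1) (v2 : ∀ m ∈ 𝐍 V, m * z * m⁻¹ ≠ v) : 𝐂 (zpowers v) ≤ 𝐍 V := by
  obtain ⟨m, hm, k⟩ := h.to_good hv
  have := h.cM0 (conj_mem_of_mem_normalizer hm hv) k (conj_ne_one m v1) fun e => v2 _ (inv_mem hm) (by rw [← e]; group)
  rwa [← cj_zpowers, ← cj_centralizer, cj_le_iff, cj_eq_of_mem_normalizer (le_normalizer (inv_mem hm))] at this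

theorem cM' (hW : W ∈ P) (hv : v ∈ V) (v1 : v ≠ 1) (v2 : v ∈ pp V W) : 𝐂 (zpowers v) ≤ 𝐍 V :=
  h.cM hv v1 fun _ hm e => h.full hW hm (e ▸ v2)

theorem pt (hv : g * z * g⁻¹ ∈ V) : ∃ m ∈ 𝐍 V, m * z * m⁻¹ = g * z * g⁻¹ := by
  by_contra e
  push Not at e
  have c := h.cM hv (conj_ne_one g h.z1) e
  rw [← cj_zpowers, ← cj_centralizer] at c
  obtain ⟨m, hm, k⟩ := h.fr.sylM.exists_cj_eq ((cj_top g ▸ h.fr.syl.cj g).mono ((cj_mono g h.Sz).trans c) le_top)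
  have n : g⁻¹ * m ∈ 𝐍 (zpowers z) := h.zeq ▸ n_oz S (cj_eq_iff.1 (by rw [cj_mul, k, cj_inv_cj]))
  have := (mem_two (h.sq h.zV) (conj_mem_of_mem_normalizer n (mem_zpowers z))).resolve_left (conj_ne_one _ h.z1)
  exact e m hm (by rw [show m * z * m⁻¹ = g * (g⁻¹ * m * z * (g⁻¹ * m)⁻¹) * g⁻¹ by group, this])

theorem Up_z : Up V z = fU S V := by
  refine le_antisymm (Up_le fun l ⟨g, hl⟩ hz => ?_) (ncl_le_iff.2 fun g hg => ((Ln.self V).cj g).le_Up ?_)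
  · subst hl
    obtain ⟨m, hm, e⟩ := h.pt (g := g⁻¹) (by simpa using mem_cj.1 hz)
    have e2 : cj g V = cj (g * m) V := by rw [cj_mul, cj_eq_of_mem_normalizer hm]
    have e3 : g * m ∈ fH S := h.fH_eq ▸ mem_c_of_conj_eq (by
      rw [show g * m * z * (g * m)⁻¹ = g * (m * z * m⁻¹) * g⁻¹ by group, e]; group)
    exact e2 ▸ cj_le_ncl e3
  · rw [← conj_eq_of_mem_c (h.fH_eq ▸ hg : g ∈ 𝐂 (zpowers z))]
    exact conj_mem_cj g h.zV

theorem Up_ab (g : G) : Up V (g * z * g⁻¹) ≤ 𝐂 (Up V (g * z * g⁻¹)) := by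
  rw [← cj_Up, ← cj_centralizer, h.Up_z]
  exact cj_mono g h.ab

theorem meet (hv : v ∈ V) (hv' : v ∈ cj g V) (v1 : v ≠ 1) : cj g V ≤ 𝐂 V := by
  by_cases e : ∀ m ∈ 𝐍 V, m * z * m⁻¹ ≠ v
  swap
  · push Not at e
    obtain ⟨m, -, rfl⟩ := e
    exact (((Ln.self V).cj g).le_Up hv').trans ((h.Up_ab m).trans (centralizer_anti ((Ln.self V).le_Up hv)))
  have key : ∀ g, v ∈ cj g V → ∃ m ∈ 𝐍 V, cj (g * m) (bm S) ≤ 𝐂 (zpowers v) := fun g hg => by
    obtain ⟨m, hm, k⟩ := h.to_good (mem_cj.1 hg)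
    refine ⟨m⁻¹, inv_mem hm, cj_le_iff.2 ?_⟩
    rw [cj_centralizer, cj_zpowers, show (g * m⁻¹)⁻¹ * v * (g * m⁻¹)⁻¹⁻¹ = m * (g⁻¹ * v * g) * m⁻¹ by group]
    exact h.B_le (conj_mem_of_mem_normalizer hm (mem_cj.1 hg)) k
  obtain ⟨a, ha, a1⟩ := key 1 (by rwa [cj_one])
  obtain ⟨b, hb, b1⟩ := key g hv'
  obtain ⟨T, t1, t2⟩ := exists_isSyl_ge (isPGroup_cj _ h.fr.isP.to_inf_left) a1
  obtain ⟨x, hx, t3⟩ := t1.exists_cj_le (isPGroup_cj _ h.fr.isP.to_inf_left) b1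
  obtain ⟨S', s1, s2⟩ := exists_isSyl_ge t1.isP le_top
  have k : ∀ c, cj c (bm S) ≤ T → bm S' = cj c (bm S) := fun c hc => by
    rw [cj_bm] at hc ⊢
    exact bm_eq (cj_top c ▸ h.fr.syl.cj c) s1 (hc.trans s2)
  rw [← cj_mul] at t3
  have n : (1 * a)⁻¹ * (x * (g * b)) ∈ 𝐍 V := h.nB (cj_eq_iff.1 (by rw [cj_mul, ← k _ t3, k _ t2, cj_inv_cj]))
  rw [mul_mem_cancel_left (inv_mem (mul_mem (one_mem _) ha)), mul_mem_cancel_left (h.cM hv v1 e hx),
    mul_mem_cancel_right hb] at n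
  exact (cj_eq_of_mem_normalizer n).le.trans h.Vc

end D2

end H27.FD
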