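import Cfsg.Agent.H27.FD2a
import Cfsg.Agent.H6.FD0
/-! Towards `H26.FD2'`, part 2: `Ω₁Z(R) = V`, and subgroups of index at most 4 of `V` have centralizer in `N(V)`. -/
set_option autoImplicit false
set_option linter.unusedSectionVars false
namespace H27.FD
open Cfsg Subgroup H26 H4 H118 H27.FM
open scoped Pointwise commutatorElement
universe u

local notation "𝐉" => thompsonSubgroupOf 2

variable {G : Type u} [Group G] [Finite G] {S V W W' T X Y : Subgroup G} {P : Set (Subgroup G)} {z a b c g s t v r : G}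

theorem four_swap (h : Four W) (h1 : t ∈ 𝐍 W) (h3 : t ∉ 𝐂 W) (ha : a ∈ W) (a1 : a ≠ 1) (hb : b ∈ W) (b1 : b ≠ 1)
    (ab : a ≠ b) (e : t * a * t⁻¹ = a) : t * b * t⁻¹ = a * b := by
  rcases four_cases h ha hb a1 b1 ab (conj_mem_of_mem_normalizer h1 hb) with j | j | j | j
  · exact absurd j (conj_ne_one t b1)
  · exact absurd (by simpa using e.trans j.symm) ab
  · exact absurd (four_inv h h3 ha a1 hb b1 e j) ab
  · exact j

theorem card_disj (h1 : X ≤ 𝐂 Y) (h2 : X ⊓ Y = ⊥) : Nat.card ↥(X ⊔ Y) = Nat.card X * Nat.card Y := by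
  simpa [h2] using card_sup_mul_card_inf (le_normalizer_of_le_centralizer h1)

namespace D2
variable (h : D2 S V P z)
include h

theorem exP : ∃ W, W ∈ P := by
  by_contra e
  rw [not_exists] at e
  exact h.z1 (h.sep h.zV fun W hW => absurd hW (e W))

theorem ozR : oz (S ⊓ 𝐂 V) = V := by
  have c := h.fr.c_ozR h.hV
  have n := h.fr.M_le_n_ozR h.hV
  have l := h.fr.V_le_ozR h.hV
  have ea := elemAb_oz (S ⊓ 𝐂 V)
  have l2 : oz (S ⊓ 𝐂 V) ≤ S := (oz_le _).trans inf_le_left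
  change 𝐂 (oz (S ⊓ 𝐂 V)) = _ at c
  change _ ≤ 𝐍 (oz (S ⊓ 𝐂 V)) at n
  change _ ≤ oz (S ⊓ 𝐂 V) at l
  generalize oz (S ⊓ 𝐂 V) = U at *
  have k1 : 𝐉 S ≤ 𝐍 V ⊓ commStab (U : Set G) V := thompsonOf_le_iff.2 fun A hA => by
    have a1 := MaxEA.best hA l2 ea (A ⊓ 𝐂 V) inf_le_left
    rw [inf_eq_left.2 (le_centralizer_iff.1 (inf_le_right.trans c.ge))] at a1
    have a2 := no_over (h.fr.ea h.hV) le_rfl (pSol_of_solvable (h.fr.solM h.hV)) (h.fr.red h.hV) (hA.1.trans h.fr.le) hA.2.1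
    have a3 := card_mul_relIndex (𝐂 V) A
    have a4 := card_mul_relIndex (𝐂 A) V
    have a5 := card_sup_mul_card_inf (H := V) (K := U ⊓ 𝐂 A) (le_normalizer_of_le_centralizer
      (l.trans ((elemAb_le_centralizer ea).trans (centralizer_anti inf_le_left))))
    rw [← inf_assoc, inf_eq_left.2 l, inf_comm V, ← a4, mul_comm, mul_assoc, Nat.mul_right_inj (card_pos' _).ne'] at a5
    rw [← a3, inf_comm, mul_assoc, Nat.mul_le_mul_left_iff (card_pos' _)] at a1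
    have a6 : V ⊔ U ⊓ 𝐂 A = U := eq_of_le_of_card_ge (sup_le l inf_le_left)
      (a5 ▸ a1.trans (Nat.mul_le_mul_right _ a2))
    refine le_inf (hA.1.trans h.fr.le) ((le_commStab_iff' l).2 ?_)
    exact commutator_le_of_le_sup_centralizer' a6.ge inf_le_right (inf_le_left.trans
      ((elemAb_le_centralizer ea).trans ((centralizer_anti l).trans (centralizer_le_normalizer _)))) (hA.1.trans h.fr.le)
  obtain ⟨W, hW⟩ := h.exP
  obtain ⟨t, t1, -, t3⟩ := h.pl.tv W hW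
  obtain ⟨E, e1, e2, -, e4, -, e6⟩ := odd_top (h.fr.solM h.hV) (h.fr.red h.hV) inf_le_left
    (le_normalizer_inf le_normalizer (le_normalizer_commStab n le_rfl)) fun e => t3 (e (k1 t1))
  obtain ⟨T, hT⟩ := exists_isSyl 2 E
  have g := gaschutz (elemAb_le_centralizer ea) (elemAb_isPGroup ea) (e1.trans (inf_le_left.trans n)) hT
  rw [inf_eq_left.2 (le_centralizer_iff.1 ((e6 T hT.le hT.isP).trans c.ge))] at g
  have d : U ⊓ 𝐂 E = ⊥ := by
    by_contra e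
    obtain ⟨x, ⟨a, b⟩, x1⟩ := (bot_or_exists_ne_one _).resolve_left (inf_omegaOne_center_ne_bot h.fr.isP
      (inf_le_left.trans l2) (h.fr.le.trans (le_normalizer_inf n (le_normalizer_centralizer e2))) e)
    obtain rfl := (mem_two (h.sq h.zV) (h.zeq ▸ b)).resolve_left x1
    exact e4 (le_centralizer_iff.1 (h.fr.ncl_eq ▸ ncl_le_centralizer (h.zeq ▸ zpowers_le.2 a.2) e2))
  rw [d, sup_bot_eq] at g
  exact le_antisymm (g.trans ((commutator_mono le_rfl ((pResidualOf_le _ _).trans (e1.trans inf_le_right))).trans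
    ((le_commStab_iff' l).1 le_rfl))) l

theorem comp (hW : W ∈ P) (g1 : g ∈ 𝐍 V) (g2 : g ∈ 𝐍 W) (ha : a ∈ W) (hc : c ∈ pp V W)
    (e : g * (a * c) * g⁻¹ = a * c) : g * a * g⁻¹ = a := by
  have : a⁻¹ * (g * a * g⁻¹) = c * (g * c * g⁻¹)⁻¹ := by
    rw [← conj_mul] at e
    rw [eq_mul_inv_iff_mul_eq, mul_assoc, e, inv_mul_cancel_left]
  exact (inv_mul_eq_one.1 (h.disj hW (mul_mem (inv_mem ha) (conj_mem_of_mem_normalizer g2 ha))
    (this ▸ mul_mem hc (inv_mem (conj_mem_of_mem_normalizer (h.pp_n hW g1 g2) hc))))).symm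

theorem card_pp (hW : W ∈ P) : 4 * Nat.card ↥(V ⊓ pp V W) = Nat.card V := by
  rw [← (h.pl.four W hW).card, ← card_disj ((h.pl.le W hW).trans (h.Vc.trans (centralizer_anti inf_le_left)))
    (eq_bot_iff.2 fun a ha => h.disj hW ha.1 ha.2.2), le_antisymm (sup_le (h.pl.le W hW) inf_le_left) fun v hv =>
      let ⟨_, ha, _, hc, e⟩ := h.dec hW hv; e ▸ mul_mem_sup ha hc]

theorem two_trans (hW : W ∈ P) (ha : a ∈ W) (a1 : a ≠ 1) (hb : b ∈ W) (b1 : b ≠ 1) (ab : a ≠ b) {a' b' : G}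
    (ha' : a' ∈ W) (a1' : a' ≠ 1) (hb' : b' ∈ W) (b1' : b' ≠ 1) (ab' : a' ≠ b') :
    ∃ g ∈ plE V (𝐍 V) W, g * a * g⁻¹ = a' ∧ g * b * g⁻¹ = b' := by
  have h4 := h.pl.four W hW
  obtain ⟨r, r1, r2, r3⟩ := h.pl.rho W hW
  have tr := fun {a b : G} => four_trans (a := a) (b := b) h4 r1.2.1 (centralizer_anti (h.pl.le W hW) r2) (h.notc hW r1 r3)
  obtain ⟨g, hg, rfl⟩ := tr ha a1 ha' a1'
  replace hg := zpowers_le.2 r1 hg
  have b2 := conj_mem_of_mem_normalizer hg.2.1 hb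
  rcases four_cases h4 ha' b2 a1' (conj_ne_one g b1) (by simpa using ab) hb' with j | j | j | j
  · exact absurd j b1'
  · exact absurd j.symm ab'
  · exact ⟨g, hg, rfl, j.symm⟩
  obtain ⟨t, t1, t2, t3⟩ := h.pl.tv W hW
  obtain ⟨w, hw, d, hd, e⟩ := h.dec hW h.zV
  obtain ⟨k, hk, e2⟩ := tr hw (fun k => h.full' h.zoz h.z1 hW (by simpa [← e, k] using hd.2)) ha' a1'
  replace hk := zpowers_le.2 r1 hk
  have t4 := mul_mem (mul_mem hk t2) (inv_mem hk)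
  have t5 : k * t * k⁻¹ * (g * a * g⁻¹) * (k * t * k⁻¹)⁻¹ = g * a * g⁻¹ := by
    rw [← e2, show k * t * k⁻¹ * (k * w * k⁻¹) * (k * t * k⁻¹)⁻¹ = k * (t * w * t⁻¹) * k⁻¹ by group,
      h.comp_fix hW t2 hd.2 (e.symm ▸ conj_eq_of_mem_c (h.Sz (thompsonOf_le 2 S t1)))]
  have t6 := four_swap h4 t4.2.1 (mt (mem_normalizer_iff.1 (normalizer_le_normalizer_centralizer W hk.2.1) t).2
    (h.notc hW t2 t3)) ha' a1' b2 (conj_ne_one g b1) (by simpa using ab) t5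
  exact ⟨k * t * k⁻¹ * g, mul_mem t4 hg, Eq.trans (by group) t5, by rw [j, ← t6]; group⟩

variable (hW : W ∈ P) (hW' : W' ∈ P) (ne : W ≠ W') (c16 : Nat.card V = 16)
include hW hW' ne c16

theorem pp_eq : V ⊓ pp V W = W' := (eq_of_le_of_card_ge (le_inf (h.pl.le W' hW') (h.le_pp hW hW' ne)) (by
  have := h.card_pp hW
  rw [(h.pl.four W' hW').card]; omega)).symm

theorem P_two (hY : Y ∈ P) (h1 : Y ≠ W) : Y = W' :=
  (h.pl.four W' hW').eq_of_le (h.pl.four Y hY) (h.pp_eq hW hW' ne c16 ▸ le_inf (h.pl.le Y hY) (h.le_pp hW hY h1.symm))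

theorem swap (g1 : g ∈ 𝐍 V) (g2 : cj g W = W') : cj g W' = W := by
  by_contra e
  exact ne (cj_inj.1 (g2.trans (h.P_two hW hW' ne c16 (h.pl.conj W' hW' g g1) e).symm))

theorem cV (h1 : g ∈ 𝐂 W) (h2 : g ∈ 𝐂 W') : g ∈ 𝐂 V := mem_centralizer_iff.2 fun v hv => by
  obtain ⟨a, ha, c, hc, rfl⟩ := h.dec hW hv
  rw [mul_assoc, mem_centralizer_iff.1 h2 c (h.pp_eq hW hW' ne c16 ▸ hc), ← mul_assoc, mem_centralizer_iff.1 h1 a ha,
    mul_assoc]

theorem exs : ∃ s ∈ S, cj s W = W' ∧ s * s ∈ 𝐂 V := by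
  suffices ∃ s ∈ S, cj s W = W' ∧ s * s ∈ 𝐂 W from let ⟨s, a, b, c⟩ := this
    ⟨s, a, b, h.cV hW hW' ne c16 c (by rwa [← b, ← cj_centralizer, mem_cj, show s⁻¹ * (s * s) * s = s * s by group])⟩
  obtain ⟨s, hs, e⟩ := h.pl.trans W hW W' hW'
  by_cases k : s * s ∈ 𝐂 W
  · exact ⟨s, hs, e, k⟩
  have e' := h.swap hW hW' ne c16 (h.fr.le hs) e
  obtain ⟨t, t1, t2, t3⟩ := h.pl.tv W hW
  have t4 := thompsonOf_le 2 S t1
  have t5 : s⁻¹ * t * s ∈ 𝐂 W := by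
    rw [← mem_cj, cj_centralizer, e]; exact h.pl.cent W hW W' hW' ne t2
  refine ⟨s * t, mul_mem hs t4, by rw [cj_mul, cj_eq_of_mem_normalizer t2.2.1, e], ?_⟩
  rw [show s * t * (s * t) = s * s * (s⁻¹ * t * s) * t by group]
  exact (h.pl.four W hW).two_of_isP (P := S ⊓ 𝐍 W) h.fr.isP.to_inf_left inf_le_right _
    (mem_inf.2 ⟨mul_mem (mul_mem hs hs) (mul_mem (mul_mem (inv_mem hs) t4) hs), mul_mem (cj_eq_iff.1
      (by rw [cj_mul, e, e'])) (centralizer_le_normalizer _ t5)⟩) t ⟨t4, t2.2.1⟩ (mt (mul_mem_cancel_right t5).1 k) (h.notc hW t2 t3)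

variable (hs : s ∈ S) (s1 : cj s W = W') (s2 : s * s ∈ 𝐂 V)
include hs s1 s2

theorem memI (ha : a ∈ W) : a * (s * a * s⁻¹) ∈ V ⊓ 𝐂 (zpowers s) := by
  have a1 := h.pl.le W hW ha
  have a2 := conj_mem_of_mem_normalizer (h.fr.le hs) a1
  refine ⟨mul_mem a1 a2, cz_symm (mem_c_of_conj_eq ?_)⟩
  rw [← conj_mul, show s * (s * a * s⁻¹) * s⁻¹ = s * s * a * (s * s)⁻¹ by group, mem_centralizer_iff'.1 s2 a a1,
    mem_centralizer_iff.1 (h.Vc a1) _ a2]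

theorem cardI : Nat.card ↥(V ⊓ 𝐂 (zpowers s)) = 4 := by
  have := card_disj (X := V ⊓ 𝐂 (zpowers s)) (Y := W') (inf_le_left.trans (h.Vc.trans (centralizer_anti (h.pl.le W' hW'))))
    (eq_bot_iff.2 fun a ha => h.disj hW (h.swap hW hW' ne c16 (h.fr.le hs) s1 ▸ conj_eq_of_mem_c (cz_symm ha.1.2) ▸
      conj_mem_cj s ha.2) (h.le_pp hW hW' ne ha.2))
  rw [le_antisymm (sup_le inf_le_left (h.pl.le W' hW')) fun v hv => ?_, c16, (h.pl.four W' hW').card] at this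
  · omega
  obtain ⟨a, ha, c, hc, rfl⟩ := h.dec hW hv
  refine mul_mem ((mul_mem_cancel_right (mem_sup_right (s1 ▸ conj_mem_cj s ha))).1
    (mem_sup_left (h.memI hW hW' ne c16 hs s1 s2 ha))) (mem_sup_right (h.pp_eq hW hW' ne c16 ▸ hc))

theorem commI : ⁅V, zpowers s⁆ = V ⊓ 𝐂 (zpowers s) := by
  refine le_antisymm (H6.FD.comm_le_c (h.fr.ea h.hV) (h.fr.le hs) s2) fun v hv => ?_
  obtain ⟨a, ha, c, hc, rfl⟩ := h.dec hW hv.1
  have a1 := h.pl.le W hW ha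
  have c1 : c ∈ W' := h.pp_eq hW hW' ne c16 ▸ hc
  have e := conj_eq_of_mem_c (cz_symm hv.2)
  have e2 : a⁻¹ * (s * c * s⁻¹) = c * (s * a * s⁻¹)⁻¹ := by
    rw [← conj_mul, mem_centralizer_iff.1 (h.Vc (conj_mem_of_mem_normalizer (h.fr.le hs) hc.1)) _
      (conj_mem_of_mem_normalizer (h.fr.le hs) a1)] at e
    rw [eq_mul_inv_iff_mul_eq, mul_assoc, e, inv_mul_cancel_left]
  have e3 := h.disj hW (mul_mem (inv_mem ha) (h.swap hW hW' ne c16 (h.fr.le hs) s1 ▸ conj_mem_cj s c1))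
    (e2 ▸ h.le_pp hW hW' ne (mul_mem c1 (inv_mem (s1 ▸ conj_mem_cj s ha))))
  rw [e2, mul_inv_eq_one] at e3
  have := commutator_mem_commutator a1 (mem_zpowers s)
  rwa [commutatorElement_def, inv_eq_of_mul_eq_one_right (h.sq a1), mul_assoc, mul_assoc, ← mul_assoc s, ← e3] at this

theorem cI (fl : FL.{u}) : 𝐂 (V ⊓ 𝐂 (zpowers s)) ≤ 𝐍 V := by
  have c4 := h.cardI hW hW' ne c16 hs s1 s2
  have l1 : S ⊓ 𝐂 V ⊔ zpowers s ≤ S := sup_le inf_le_left (zpowers_le.2 hs)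
  have n := normalizer_le_normalizer_centralizer V (h.fr.le hs)
  have or : ∀ t ∈ S ⊓ 𝐂 V ⊔ zpowers s, t ∈ 𝐂 V ∨ s⁻¹ * t ∈ 𝐂 V := fun t ht =>
    mem_or_of_sq n s2 ((sup_le (le_sup_of_le_right inf_le_right) le_sup_left : _ ≤ zpowers s ⊔ 𝐂 V) ht)
  have j : 𝐉 (S ⊓ 𝐂 V ⊔ zpowers s) = 𝐉 (S ⊓ 𝐂 V) := (thompsonOf_eq_of_le (thompsonOf_le_iff.2 fun A hA =>
    le_inf (hA.1.trans l1) (by
      by_contra e
      obtain ⟨a, a1, a2⟩ := SetLike.not_le_iff_exists.1 e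
      have b1 := MaxEA.best hA (le_sup_of_le_left (h.fr.V_le_R h.hV)) (h.fr.ea h.hV) (A ⊓ 𝐂 V) inf_le_left
      rw [inf_eq_left.2 (le_centralizer_iff.1 inf_le_right), c16] at b1
      have b2 := card_mul_relIndex (𝐂 V) A
      have b3 := H6.FD.Ix2.relIndex_le (B := 𝐂 V) (A := A) fun x hx y hy x1 y1 => by
        have := mul_mem (mul_mem s2 (conj_mem_of_mem_normalizer' n ((or x (hA.1 hx)).resolve_left x1)))
          ((or y (hA.1 hy)).resolve_left y1)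
        rwa [show s * s * (s⁻¹ * (s⁻¹ * x) * s) * (s⁻¹ * y) = x * y by group] at this
      have b4 := card_le_of_le (show V ⊓ 𝐂 A ≤ V ⊓ 𝐂 (zpowers s) from fun v hv => ⟨hv.1, cz_symm
        ((mul_mem_cancel_right (centralizer_anti (zpowers_le.2 hv.1) ((or a (hA.1 a1)).resolve_left a2))).1
          (by simpa using cz_symm (centralizer_anti (zpowers_le.2 a1) hv.2)))⟩)
      rw [inf_comm] at b2
      have := card_pos' (A ⊓ 𝐂 V)
      nlinarith)) le_sup_left).symm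
  refine fl G S V _ s h.fr h.ab c16 h.ozR hs rfl (h.commI hW hW' ne c16 hs s1 s2) c4 (isSyl_of_normalizer
    ⟨le_inf (sup_le (inf_le_right.trans (centralizer_anti inf_le_left)) (le_centralizer_iff.1 inf_le_right))
      le_normalizer, h.fr.isP.to_le l1, fun Q q1 q2 q3 q hq => ?_⟩) j fun g e => ?_
  · have m : Q ≤ 𝐍 V := q3.trans (inf_le_right.trans ((normalizer_le_normalizer_thompsonOf 2 _).trans
      (j ▸ h.fr.nJ_le h.hV)))
    have key : ∀ q ∈ Q, q ∈ 𝐍 W → q ∈ S ⊓ 𝐂 V ⊔ zpowers s := fun q hq k => by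
      have i := fun a ha => mem_centralizer_iff'.1 (q3 hq).1 _ (h.memI (a := a) hW hW' ne c16 hs s1 s2 ha)
      have i2 := fun a ha => h.comp hW (m hq) k ha (h.le_pp hW hW' ne (s1 ▸ conj_mem_cj s ha)) (i a ha)
      refine mem_sup_left (h.fr.sylR.max (Q ⊓ 𝐂 V) q1.to_inf_left (le_inf (le_sup_left.trans q2) inf_le_right)
        inf_le_right ⟨hq, h.cV hW hW' ne c16 (mem_centralizer_iff'.2 i2) (mem_centralizer_iff'.2 fun c hc => ?_)⟩)
      obtain ⟨a, ha, rfl⟩ := mem_cj'.1 (s1 ▸ hc)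
      have := i a ha
      rwa [← conj_mul, i2 a ha, mul_right_inj] at this
    by_cases k : q ∈ 𝐍 W
    · exact key q hq k
    have s3 : s ∈ S ⊓ 𝐂 V ⊔ zpowers s := mem_sup_right (mem_zpowers s)
    exact (mul_mem_cancel_left s3).1 (key _ (mul_mem (q2 s3) hq) (cj_eq_iff.1 (by
      rw [cj_mul, h.P_two hW hW' ne c16 (h.pl.conj W hW q (m hq)) (mt cj_eq_iff.1 k),
        h.swap hW hW' ne c16 (h.fr.le hs) s1])))
  · obtain ⟨v, ⟨a, b⟩, c⟩ := (bot_or_exists_ne_one _).resolve_left e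
    exact h.meet a.1 (cj_mono g inf_le_left b) c

end D2

end H27.FD
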