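import Cfsg.Agent.H18.FE2
/-! Towards `H26.FM`, part 1: flags `Fl`, the hypothesis `Mb` (`U(p) ⊓ U(q) = l`, `U(p) ≰ T(q)`), transvection groups
`Bf`, and the odd normal subgroup `Fd` of `C(p)/T(p)`. -/
set_option autoImplicit false
set_option linter.unusedSectionVars false
namespace H27.FM
open Cfsg Subgroup H26 H4 H118
open scoped Pointwise commutatorElement

variable {G : Type*} [Group G]

theorem exists_F [Finite G] {H T : Subgroup G} (hs : Group.IsSolvable H) (hn : H ≤ 𝐍 T)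
    (h : ∀ K : Subgroup G, K ≤ H → H ≤ 𝐍 K → pResidualOf 2 K ≤ T → K ≤ T) :
    ∃ F : Subgroup G, F ≤ H ∧ H ≤ 𝐍 F ∧ (∀ x ∈ F, ∀ k, x ^ 2 ^ k ∈ T → x ∈ T) ∧
      ∀ a ∈ H, (∀ x ∈ F, ⁅a, x⁆ ∈ T) → a ∈ F := by
  have := normal_subgroupOf_of_le_normalizer hn
  have h0 := (pCore_quotient_subgroupOf_eq_bot_iff (p := 2)).2 h
  let π := QuotientGroup.mk' (T.subgroupOf H)
  have e : ∀ x : H, π x = 1 ↔ (x : G) ∈ T := fun x => QuotientGroup.eq_one_iff x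
  refine ⟨((fittingSubgroup _).comap π).map H.subtype, map_subtype_le _,
    normal_iff_le_normalizer_map_subtype.1 inferInstance, ?_, fun a ha h1 => ⟨⟨a, ha⟩, ?_, rfl⟩⟩
  · rintro _ ⟨x, hx, rfl⟩ k hk
    have h2 : IsPGroup 2 (zpowers (π x)) := isPGroup_iff_mem.2 fun y ⟨n, hy⟩ => ⟨k, by
      rw [← hy, ← zpow_natCast, ← zpow_mul, mul_comm, zpow_mul, zpow_natCast, ← map_pow, (e _).2 hk, one_zpow]⟩
    have h3 := H1.le_pCore_of_le_nilpotent_normal (fittingSubgroup _) h2 (zpowers_le.2 hx) (mem_zpowers _)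
    rw [h0, mem_bot] at h3
    exact (e x).1 h3
  · refine H1.centralizer_fitting_le _ fun y hy => ?_
    obtain ⟨x, rfl⟩ := QuotientGroup.mk'_surjective _ y
    have h2 := (e ⁅(⟨a, ha⟩ : H), x⁆).2 (h1 x ⟨x, hy, rfl⟩)
    rw [map_commutatorElement, commutatorElement_eq_one_iff_mul_comm] at h2
    exact h2.symm

theorem sq_stab {d : G} {X Y W : Subgroup G} (h1 : ∀ u ∈ X, ⁅d, u⁆ ∈ Y) (h2 : ∀ u ∈ Y, ⁅d, u⁆ ∈ W)
    (h3 : ∀ u ∈ Y, u * u = 1) : ∀ u ∈ X, ⁅d * d, u⁆ ∈ W := fun u hu => by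
  have e : ⁅d * d, u⁆ = ⁅d, ⁅d, u⁆⁆ * (⁅d, u⁆ * ⁅d, u⁆) := by simp only [commutatorElement_def]; group
  rw [e, h3 _ (h1 u hu), mul_one]
  exact h2 _ (h1 u hu)

theorem cm_inv {N : Subgroup G} {a b : G} (h : ⁅a, b⁆ ∈ N) : ⁅b, a⁆ ∈ N := by
  rw [← commutatorElement_inv]; exact inv_mem h

theorem cm_right {N : Subgroup G} {c u v : G} (h1 : ⁅c, u⁆ ∈ N) (h2 : ⁅c, v⁆ ∈ N) (hu : u ∈ 𝐍 N) : ⁅c, u * v⁆ ∈ N := by
  rw [commutatorElement_mul_right_eq_mul_conj, mul_assoc, mul_assoc, ← mul_assoc u]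
  exact mul_mem h1 (conj_mem_of_mem_normalizer hu h2)

theorem cm_left {N : Subgroup G} {c d u : G} (h1 : ⁅c, u⁆ ∈ N) (h2 : ⁅d, u⁆ ∈ N) (hc : c ∈ 𝐍 N) : ⁅c * d, u⁆ ∈ N := by
  rw [commutatorElement_mul_left_eq_conj_mul]
  exact mul_mem (conj_mem_of_mem_normalizer hc h2) h1

theorem cm_n {N : Subgroup G} {c u : G} (hc : c ∈ 𝐍 N) (hu : u ∈ N) : ⁅c, u⁆ ∈ N :=
  mul_mem (conj_mem_of_mem_normalizer hc hu) (inv_mem hu)

theorem cm_c {N : Subgroup G} {c u : G} (hc : c ∈ 𝐂 N) (hu : u ∈ N) : ⁅c, u⁆ = 1 := by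
  rw [commutatorElement_def, mem_centralizer_iff'.1 hc u hu, mul_inv_cancel]

theorem conj_eq (c u : G) : c * u * c⁻¹ = ⁅c, u⁆ * u := by rw [commutatorElement_def, inv_mul_cancel_right]

theorem c_n {p g : G} (h : g ∈ 𝐂 (zpowers p)) : g ∈ 𝐍 (zpowers p) := centralizer_le_normalizer _ h

/-- a line with two of its points -/
structure Fl (V l : Subgroup G) (p q : G) : Prop where
  ln : Ln V l
  pl : p ∈ l
  ql : q ∈ l
  p1 : p ≠ 1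
  q1 : q ≠ 1
  ne : p ≠ q

/-- the elements of `C(p)` acting on `U(p)` as transvections with centre `l` -/
def Bf (V : Subgroup G) (p : G) (l : Subgroup G) : Subgroup G := 𝐂 (zpowers p) ⊓ commStab (Up V p : Set G) l

structure Fd (V : Subgroup G) (p : G) (F : Subgroup G) : Prop where
  le : F ≤ 𝐂 (zpowers p)
  nm : 𝐂 (zpowers p) ≤ 𝐍 F
  odd : ∀ x ∈ F, ∀ k, x ^ 2 ^ k ∈ Tp V p → x ∈ Tp V p
  cen : ∀ a ∈ 𝐂 (zpowers p), (∀ x ∈ F, ⁅a, x⁆ ∈ Tp V p) → a ∈ F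

variable {S V l m F : Subgroup G} {z p q c d g u v x : G}

theorem Fl.symm (h : Fl V l p q) : Fl V l q p := ⟨h.ln, h.ql, h.pl, h.q1, h.p1, h.ne.symm⟩
theorem Fl.col (h : Fl V l p q) : Col V p q := ⟨h.p1, h.q1, l, h.ln, h.pl, h.ql⟩
theorem Fl.cj (h : Fl V l p q) (g : G) : Fl V (cj g l) (g * p * g⁻¹) (g * q * g⁻¹) :=
  ⟨h.ln.cj g, conj_mem_cj g h.pl, conj_mem_cj g h.ql, conj_ne_one g h.p1, conj_ne_one g h.q1, by simpa using h.ne⟩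
theorem Fl.cjc (h : Fl V l p q) (hg : g ∈ 𝐂 (zpowers p)) : Fl V (cj g l) p (g * q * g⁻¹) := by
  simpa only [conj_eq_of_mem_c hg] using h.cj g

theorem mem_Bf : c ∈ Bf V p l ↔ c ∈ 𝐂 (zpowers p) ∧ c ∈ 𝐍 l ∧ ∀ u ∈ Up V p, ⁅c, u⁆ ∈ l := Iff.rfl

theorem Bf_cj (hc : c ∈ Bf V p l) (hg : g ∈ 𝐂 (zpowers p)) : g * c * g⁻¹ ∈ Bf V p (cj g l) := by
  refine mem_Bf.2 ⟨mul_mem (mul_mem hg hc.1) (inv_mem hg), cj_normalizer g l ▸ conj_mem_cj g hc.2.1, fun u hu => ?_⟩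
  have := conj_mem_cj g (hc.2.2 _ (conj_mem_of_mem_normalizer' (c_le_n_Up V p hg) hu))
  rwa [conjugate_commutatorElement, show g * (g⁻¹ * u * g) * g⁻¹ = u by group] at this

theorem Tp_conj (hg : g ∈ 𝐂 (zpowers p)) : g * c * g⁻¹ ∈ Tp V p ↔ c ∈ Tp V p :=
  (mem_normalizer_iff.1 (c_le_n_Tp V p hg) c).symm

variable [Finite G]

structure Mb (S V : Subgroup G) (z : G) : Prop extends Ge S V z where
  int : ∀ l p q, Fl V l p q → Up V p ⊓ Up V q = l ∧ ¬ Up V p ≤ Tp V q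

namespace Fl
variable (h : Ge S V z) (f : Fl V l p q)
include h f

theorem four : Four l := h.ln_four f.ln
theorem pp : p * p = 1 := (f.four h).sq p f.pl
theorem cases (hu : u ∈ l) : u = 1 ∨ u = p ∨ u = q ∨ u = p * q := four_cases (f.four h) f.pl f.ql f.p1 f.q1 f.ne hu
theorem comm : q * p = p * q := mem_centralizer_iff.1 ((f.four h).le_c f.pl) q f.ql
theorem rot : Fl V l p (p * q) := ⟨f.ln, f.pl, mul_mem f.pl f.ql, f.p1,
  fun e => f.ne (by rw [← mul_right_inj p, f.pp h, e]), fun e => f.q1 (by simpa using e)⟩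
theorem ppq : p * (p * q) = q := by rw [← mul_assoc, f.pp h, one_mul]
theorem memZ : u ∈ zpowers p ↔ u = 1 ∨ u = p :=
  ⟨mem_two (f.pp h), by rintro (rfl | rfl); exacts [one_mem _, mem_zpowers _]⟩
theorem qZ : q ∉ zpowers p := fun e => ((f.memZ h).1 e).elim f.q1 f.ne.symm
theorem two {a b : G} (ha : a ∈ l) (hb : b ∈ l) (h1 : a ∉ zpowers p) (h2 : b ∉ zpowers p) : a * b ∈ zpowers p :=
  two_of_relIndex ((f.four h).relIndex_of_card (zpowers_le.2 f.pl) (card_two (f.pp h) f.p1)) a ha b hb h1 h2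
theorem lU : l ≤ Up V p := f.ln.le_Up f.pl
theorem Uc : Up V p ≤ 𝐂 l := (h.Up_ab f.col).trans (centralizer_anti (f.lU h))
theorem UT : Up V p ≤ Tp V p := (h.Up_ab f.col).trans (Ge.c_le_Tp f.col)
theorem cc : 𝐂 l ≤ 𝐂 (zpowers p) := centralizer_anti (zpowers_le.2 f.pl)
theorem lT : l ≤ Tp V p := (f.lU h).trans (f.UT h)
theorem third (hu : u ∈ l) (h1 : u ∉ zpowers p) (h2 : u ∉ zpowers q) : u = p * q := by
  rcases f.cases h hu with rfl | rfl | rfl | rfl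
  exacts [absurd (one_mem _) h1, absurd (mem_zpowers _) h1, absurd (mem_zpowers _) h2, rfl]

theorem fx (h1 : c ∈ 𝐂 (zpowers p)) (h2 : c ∈ 𝐍 l) (hu : u ∈ l) : ⁅c, u⁆ ∈ zpowers p :=
  cm_inv (h.comm_ln f.ln f.pl f.p1 (zpowers_le.2 h1) (zpowers_le.2 h2) (commutator_mem_commutator hu (mem_zpowers c)))

theorem gen {K : Subgroup G} (hu : u ∈ l) (h1 : u ∉ zpowers p) (h2 : p ∈ K) (h3 : u ∈ K) : l ≤ K := fun a ha => by
  by_cases e : a ∈ zpowers p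
  · exact zpowers_le.2 h2 e
  · exact (mul_mem_cancel_right h3).1 (zpowers_le.2 h2 (f.two h ha hu e h1))

theorem nfx (h1 : c ∈ 𝐂 (zpowers p)) (hu : u ∈ l) (h2 : u ∉ zpowers p) (h3 : ⁅c, u⁆ ∈ zpowers p) : c ∈ 𝐍 l :=
  mem_normalizer_of_cj_le (cj_le_iff.2 (f.gen h hu h2
    (mem_cj.2 (by rw [inv_inv, conj_eq_of_mem_c h1]; exact f.pl))
    (mem_cj.2 (by rw [inv_inv, conj_eq]; exact mul_mem (zpowers_le.2 f.pl h3) hu))))

theorem inf_le {q' : G} (f' : Fl V m p q') (ne : l ≠ m) (h1 : u ∈ l) (h2 : u ∈ m) : u ∈ zpowers p := by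
  by_contra e
  exact ne ((f'.four h).eq_of_le (f.four h) (f.gen h h1 e f'.pl h2))

theorem swap (h1 : g ∈ 𝐂 (zpowers p)) (h2 : g ∈ 𝐍 l) (h3 : g ∉ 𝐂 l) : ⁅g, q⁆ = p :=
  ((f.memZ h).1 (f.fx h h1 h2 f.ql)).resolve_left fun e => h3 (le_centralizer_iff.1 (f.gen h f.ql (f.qZ h)
    (mem_centralizer_zpowers.2 (mem_centralizer_zpowers.1 h1).symm)
    (mem_centralizer_zpowers.2 (commutatorElement_eq_one_iff_mul_comm.1 e))) (mem_zpowers g))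

theorem swap' (h1 : g ∈ 𝐂 (zpowers p)) (h2 : g ∈ 𝐍 l) (h3 : g ∉ 𝐂 l) : g * q * g⁻¹ = p * q := by
  rw [conj_eq, f.swap h h1 h2 h3]

theorem mulc {a b : G} (a1 : a ∈ 𝐂 (zpowers p)) (a2 : a ∈ 𝐍 l) (a3 : a ∉ 𝐂 l) (b1 : b ∈ 𝐂 (zpowers p)) (b2 : b ∈ 𝐍 l)
    (b3 : b ∉ 𝐂 l) : a * b ∈ 𝐂 l := by
  by_contra e
  have := f.swap' h (mul_mem a1 b1) (mul_mem a2 b2) e
  rw [show a * b * q * (a * b)⁻¹ = a * (b * q * b⁻¹) * a⁻¹ by group, f.swap' h b1 b2 b3, (f.rot h).swap' h a1 a2 a3,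
    f.ppq h] at this
  exact f.p1 (by simpa using this)

theorem syl : ∃ P : Subgroup G, IsSyl 2 P ⊤ ∧ P ≤ 𝐍 l ∧ P ≤ 𝐂 (zpowers p) := by
  obtain ⟨g, rfl, rfl⟩ := h.trans f.ln f.pl f.p1
  exact ⟨cj g S, cj_top g ▸ h.syl.cj g, cj_normalizer g V ▸ cj_mono g h.le, by
    rw [← cj_zpowers, ← cj_centralizer]; exact cj_mono g h.S_le⟩

theorem exF : ∃ F, Fd V p F := by
  have n1 : zpowers p ≠ ⊥ := by simpa using f.p1
  have := fr_sol h.toFr ((f.four h).isP.to_le (zpowers_le.2 f.pl)) n1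
  obtain ⟨F, a, b, c, d⟩ := exists_F (H := 𝐂 (zpowers p)) (T := Tp V p)
    (Group.isSolvable_of_isSolvable_injective (inclusion_injective (centralizer_le_normalizer _))) (c_le_n_Tp V p)
    fun K k1 k2 k3 => h.le_Tp_of f.p1 k1 fun m hm hp => by
      obtain ⟨g, rfl, rfl⟩ := h.trans hm hp f.p1
      have s : IsSyl 2 (cj g S) (𝐂 (zpowers (g * z * g⁻¹))) := (cj_top g ▸ h.syl.cj g).mono (by
        rw [← cj_zpowers, ← cj_centralizer]; exact cj_mono g h.S_le) le_top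
      exact (s.inf_of_normal k2 k1).le_of_pResidualOf_le (k3.trans (Ge.Tp_le_n hm hp))
        (inf_le_left.trans (cj_normalizer g V ▸ cj_mono g h.le))
  exact ⟨F, a, b, c, d⟩

theorem tr {q' p' : G} (f' : Fl V m p' q') : ∃ g, cj g l = m ∧ g * p * g⁻¹ = p' := by
  obtain ⟨a, a1, a2⟩ := h.trans f.ln f.pl f.p1
  obtain ⟨b, b1, b2⟩ := h.trans f'.ln f'.pl f'.p1
  exact ⟨b * a⁻¹, by rw [← a1, cj_mul, cj_inv_cj, b1], by rw [← a2, ← b2]; group⟩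

theorem tr2 {q' p' : G} (f' : Fl V m p' q') : ∃ g, cj g l = m ∧ g * p * g⁻¹ = p' ∧ g * q * g⁻¹ = q' := by
  obtain ⟨g, rfl, rfl⟩ := f.tr h f'
  by_cases e : g * q * g⁻¹ = q'
  · exact ⟨g, rfl, rfl, e⟩
  obtain ⟨a, rfl, a2⟩ := h.trans f.ln f.pl f.p1
  obtain ⟨s, hs, hs'⟩ := SetLike.not_le_iff_exists.1 h.not_S_le
  have s1 : a * s * a⁻¹ ∈ 𝐂 (zpowers p) := by
    rw [← a2, ← cj_zpowers, ← cj_centralizer]; exact conj_mem_cj a (h.S_le hs)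
  have s2 : a * s * a⁻¹ ∈ 𝐍 (cj a V) := cj_normalizer a V ▸ conj_mem_cj a (h.le hs)
  have s3 := f.swap' h s1 s2 (by rwa [← cj_centralizer, conj_mem_cj_iff])
  refine ⟨g * (a * s * a⁻¹), by rw [cj_mul, cj_eq_of_mem_normalizer s2], ?_, ?_⟩
  · rw [mul_inv_rev, show ∀ t : G, g * t * p * (t⁻¹ * g⁻¹) = g * (t * p * t⁻¹) * g⁻¹ by intro t; group,
      conj_eq_of_mem_c s1]
  · rw [mul_inv_rev, show ∀ t : G, g * t * q * (t⁻¹ * g⁻¹) = g * (t * q * t⁻¹) * g⁻¹ by intro t; group, s3,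
      (f.cj g).third h f'.ql (f'.qZ h) fun k => (((f.cj g).symm.memZ h).1 k).elim f'.q1 (Ne.symm e)]
    group

end Fl

theorem exFl (h : Ge S V z) (hl : Ln V l) (hp : p ∈ l) (p1 : p ≠ 1) : ∃ q, Fl V l p q := by
  have h4 := h.ln_four hl
  by_contra e
  have : l ≤ zpowers p := fun q hq => by
    by_contra k
    exact e ⟨q, hl, hp, hq, p1, fun j => k (j ▸ one_mem _), fun j => k (j ▸ mem_zpowers _)⟩
  have := card_le_of_le this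
  rw [h4.card, card_two (h4.sq p hp) p1] at this
  omega

theorem mb_of (h : F4 S V) (hg : g ∈ 𝐍 V) (h1 : ¬ cj g (fU S V) ≤ 𝐂 (fU S V)) (h2 : fU S V ⊓ cj g (fU S V) = V) :
    ∃ z, Mb S V z := by
  obtain ⟨z, h⟩ := exists_ge h
  rw [← h.Up_z, cj_Up] at h1 h2
  have f0 : Fl V V z (g * z * g⁻¹) := ⟨Ln.self V, h.zV, conj_mem_of_mem_normalizer hg h.zV, h.z1, conj_ne_one g h.z1,
    fun e => h1 (e ▸ h.Up_ab h.colz)⟩
  refine ⟨z, h, fun l p q f => ⟨?_, fun e => h1 ?_⟩⟩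
  · obtain ⟨a, rfl, rfl, rfl⟩ := f0.tr2 h f
    rw [← cj_Up a, ← cj_Up a, ← cj_inf, h2]
  · have k : ∀ p' q', Fl V V p' q' → Up V p' ≤ Tp V q' := fun p' q' f' => by
      obtain ⟨a, -, rfl, rfl⟩ := f.tr2 h f'
      rw [← cj_Up, ← cj_Tp]; exact cj_mono a e
    exact h.Up_comm (k _ _ f0.symm) (k _ _ f0)

end H27.FM
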