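import Cfsg.Agent.H27.FM1
/-! Towards `H26.FM`, part 2: under `Mb` every `U(p)` has order 8 (`Mb.g1`: a line through `p` has index 2 in `U(p)`). -/
set_option autoImplicit false
set_option linter.unusedSectionVars false
namespace H27.FM
open Cfsg Subgroup H26 H4 H118
open scoped Pointwise commutatorElement

variable {G : Type*} [Group G] [Finite G] {S V l m F : Subgroup G} {z p q q' c d g u v x : G}

theorem cmul (hc : c ∈ 𝐂 l) (h : ⁅d, u⁆ ∈ l) : ⁅c * d, u⁆ = ⁅d, u⁆ * ⁅c, u⁆ := by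
  rw [commutatorElement_mul_left_eq_conj_mul, mem_centralizer_iff'.1 hc _ h]

theorem cmul' (hu : u ∈ 𝐂 l) (h : ⁅c, v⁆ ∈ l) : ⁅c, u * v⁆ = ⁅c, u⁆ * ⁅c, v⁆ := by
  rw [commutatorElement_mul_right_eq_mul_conj, mul_assoc, mul_assoc, ← mul_assoc u, mem_centralizer_iff'.1 hu _ h]

namespace Fl
variable (h : Ge S V z) (f : Fl V l p q)
include h f

theorem k0 (hc : c ∈ Bf V p l) : c * c ∈ Tp V p :=
  mem_Tp.2 ⟨mul_mem hc.1 hc.1, sq_stab hc.2.2 (fun _ => f.fx h hc.1 hc.2.1) (f.four h).sq⟩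

theorem two_fx (hc : c ∈ Bf V p l) (hu : u ∈ Up V p) (hv : v ∈ Up V p) (h1 : ⁅c, u⁆ ∉ zpowers p)
    (h2 : ⁅c, v⁆ ∉ zpowers p) : ⁅c, u * v⁆ ∈ zpowers p := by
  rw [commutatorElement_mul_right_eq_mul_conj, mul_assoc, mul_assoc, ← mul_assoc u,
    mem_centralizer_iff'.1 (f.Uc h hu) _ (hc.2.2 v hv)]
  exact f.two h (hc.2.2 u hu) (hc.2.2 v hv) h1 h2

theorem two_fx' (hc : c ∈ Bf V p l) (hd : d ∈ Bf V p l) (hu : u ∈ Up V p) (h1 : ⁅c, u⁆ ∉ zpowers p)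
    (h2 : ⁅d, u⁆ ∉ zpowers p) : ⁅c * d, u⁆ ∈ zpowers p := by
  rw [commutatorElement_mul_left_eq_conj_mul, conj_eq, mul_assoc]
  exact mul_mem (f.fx h hc.1 hc.2.1 (hd.2.2 u hu)) (f.two h (hd.2.2 u hu) (hc.2.2 u hu) h2 h1)

theorem Un (f' : Fl V m p q') : l ≤ 𝐍 m := ((f.lU h).trans (f'.Uc h)).trans (centralizer_le_normalizer _)

variable (hF : Fd V p F)
include hF

theorem k1 (f' : Fl V m p q') (ne : l ≠ m) (hc : c ∈ Bf V p l) (hd : d ∈ Bf V p m) (hn : c ∈ 𝐍 m) (hx : c * d ∈ F) :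
    d ∈ Tp V p := by
  have hU : l ⊔ m ≤ Up V p := sup_le (f.lU h) (f'.lU h)
  have zm : zpowers p ≤ m := zpowers_le.2 f'.pl
  have a1 : ∀ u ∈ Up V p, ⁅c * d, u⁆ ∈ l ⊔ m := fun u hu => by
    rw [commutatorElement_mul_left_eq_conj_mul]
    exact mul_mem (mem_sup_right (conj_mem_of_mem_normalizer hn (hd.2.2 u hu))) (mem_sup_left (hc.2.2 u hu))
  have a2 : ∀ u ∈ l ⊔ m, ⁅c * d, u⁆ ∈ m := fun u hu => by
    refine cm_left (zm ?_) (hd.2.2 u (hU hu)) hn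
    obtain ⟨a, ha, b, hb, rfl⟩ := (mem_sup_of_le_normalizer (f.Un h f')).1 hu
    exact cm_right (f.fx h hc.1 hc.2.1 ha) (f'.fx h hc.1 hn hb) (c_n (h.Up_le_c f.col (f.lU h ha)))
  have cd := mul_mem hc.1 hd.1
  have cd' := mul_mem hn hd.2.1
  have a3 : c * d ∈ Tp V p := hF.odd _ hx 2 (mem_Tp.2 ⟨pow_mem cd _, by
    rw [show 2 ^ 2 = 2 * 2 from rfl, pow_mul, pow_two, pow_two]
    exact sq_stab (sq_stab a1 a2 fun u hu => h.Up_sq f.col (hU hu))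
      (fun _ => f'.fx h (mul_mem cd cd) (mul_mem cd' cd')) (f'.four h).sq⟩)
  refine mem_Tp.2 ⟨hd.1, fun u hu => f.inf_le h f' ne ?_ (hd.2.2 u hu)⟩
  rw [show d = c⁻¹ * (c * d) by group]
  exact cm_left ((inv_mem hc).2.2 u hu) (zpowers_le.2 f.pl ((mem_Tp.1 a3).2 u hu)) (inv_mem hc.2.1)

theorem k2 (hc : c ∈ Bf V p l) (hx : x ∈ F) (h1 : x ∉ 𝐍 l) (h2 : c ∈ 𝐍 (cj x l)) : c ∈ Tp V p :=
  inv_mem_iff.1 ((Tp_conj (hF.le hx)).1 (f.k1 h hF (f.cjc (hF.le hx)) (fun e => h1 (cj_eq_iff.1 e.symm)) hc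
    (Bf_cj (inv_mem hc) (hF.le hx)) h2 (by simpa only [commutatorElement_def, mul_assoc] using cm_n (hF.nm hc.1) hx)))

theorem k2' {x' : G} (hc : c ∈ Bf V p l) (hc' : c ∉ Tp V p) (hx : x ∈ F) (hx' : x' ∈ F) (h1 : cj x l ≠ cj x' l) :
    ⁅x * c * x⁻¹, x' * q * x'⁻¹⁆ ∉ zpowers p := fun e => by
  have f' := f.cjc (hF.le hx')
  have b := Bf_cj hc (hF.le hx)
  have e1 : cj (x' * x⁻¹) (cj x l) = cj x' l := by rw [← cj_mul, inv_mul_cancel_right]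
  exact hc' ((Tp_conj (hF.le hx)).1 ((f.cjc (hF.le hx)).k2 h hF b (mul_mem hx' (inv_mem hx))
    (fun k => h1 (by rw [← e1, cj_eq_of_mem_normalizer k])) (e1 ▸ f'.nfx h b.1 f'.ql (f'.qZ h) e)))

theorem mv (hc : c ∈ Bf V p l) (hc' : c ∉ Tp V p) (hx : x ∈ F) (h1 : x ∉ 𝐍 l) : ⁅c, x * q * x⁻¹⁆ ∉ zpowers p := by
  simpa using f.k2' h hF hc hc' (one_mem _) hx (by rw [cj_one]; exact fun e => h1 (cj_eq_iff.1 e.symm))

theorem exx (hc : c ∈ Bf V p l) (hc' : c ∉ Tp V p) : ∃ x ∈ F, x ∉ 𝐍 l := by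
  by_contra e
  push Not at e
  have k : ∀ d ∈ F, d ∈ Bf V p l → d ∈ Tp V p := fun d h1 h2 => hF.odd d h1 1 (by simpa [pow_two] using f.k0 h h2)
  refine hc' (k c (hF.cen c hc.1 fun x hx => k _ (cm_n (hF.nm hc.1) hx) ?_) hc)
  have := Bf_cj (inv_mem hc) (hF.le hx)
  rw [cj_eq_of_mem_normalizer (e x hx)] at this
  simpa only [commutatorElement_def, mul_assoc] using mul_mem hc this

omit hF in
theorem k3 (hc : c ∈ Bf V p l) (hd : d ∈ Bf V p l) (hc' : c ∉ Tp V p) (hd' : d ∉ Tp V p) : c * d ∈ Tp V p := by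
  obtain ⟨F, hF⟩ := f.exF h
  obtain ⟨x, hx, h1⟩ := f.exx h hF hc hc'
  by_contra e
  have f' := f.cjc (hF.le hx)
  exact f.mv h hF (mul_mem hc hd) e hx h1
    (f.two_fx' h hc hd (f'.lU h f'.ql) (f.mv h hF hc hc' hx h1) (f.mv h hF hd hd' hx h1))

theorem k4 {x' : G} (hc : c ∈ Bf V p l) (hc' : c ∉ Tp V p) (hx : x ∈ F) (h1 : x ∉ 𝐍 l) (hx' : x' ∈ F) :
    x' * q * x'⁻¹ ∈ l ⊔ cj x l := by
  by_contra e
  have f1 := f.cjc (hF.le hx)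
  have f2 := f.cjc (hF.le hx')
  have n1 : x' ∉ 𝐍 l := fun k => e (mem_sup_left (conj_mem_of_mem_normalizer k f.ql))
  have n2 : cj x l ≠ cj x' l := fun k => e (mem_sup_right (k ▸ f2.ql))
  have y1 := f2.lU h f2.ql
  have v1 := hc.2.2 _ y1
  have v2 := f.mv h hF hc hc' hx' n1
  have x2 : c * x' * c⁻¹ ∈ F := conj_mem_of_mem_normalizer (hF.nm hc.1) hx'
  have f3 := f.cjc (hF.le x2)
  have e2 : cj (c * x' * c⁻¹) l = cj c (cj x' l) := by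
    rw [cj_mul, cj_mul, cj_eq_of_mem_normalizer (inv_mem hc.2.1)]
  have y2 : ⁅c, x' * q * x'⁻¹⁆ * (x' * q * x'⁻¹) ∈ cj (c * x' * c⁻¹) l := by
    rw [e2, ← conj_eq]; exact conj_mem_cj c f2.ql
  have n3 : cj x l ≠ cj (c * x' * c⁻¹) l := fun k =>
    e ((mul_mem_cancel_left (mem_sup_left v1)).1 (mem_sup_right (k ▸ y2)))
  have b := Bf_cj hc (hF.le hx)
  have n4 : ⁅x * c * x⁻¹, ⁅c, x' * q * x'⁻¹⁆⁆ ∉ zpowers p := fun k => by
    have := f.k2' h hF hc hc' hx (one_mem _) (by rw [cj_one]; exact fun j => h1 (cj_eq_iff.1 j))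
    exact this (by simpa using f.fx h b.1 (f.nfx h b.1 v1 v2 k) f.ql)
  refine f.k2' h hF hc hc' hx x2 n3 (f3.fx h b.1 (f3.nfx h b.1 y2 (fun k => f2.qZ h ?_)
    (f1.two_fx h b (f.lU h v1) y1 n4 (f.k2' h hF hc hc' hx hx' n2))) f3.ql)
  rw [← conj_eq] at k
  exact (mem_normalizer_iff.1 (c_n hc.1) _).2 k

omit hF in
theorem sup_cases (f' : Fl V m p q') (hu : u ∈ l ⊔ m) : u ∈ l ∨ u * q' ∈ l := by
  obtain ⟨a, ha, b, hb, rfl⟩ := (mem_sup_of_le_normalizer (f.Un h f')).1 hu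
  by_cases e : b ∈ zpowers p
  · exact Or.inl (mul_mem ha (zpowers_le.2 f.pl e))
  · exact Or.inr (mul_assoc a b q' ▸ mul_mem ha (zpowers_le.2 f.pl (f'.two h hb f'.ql e (f'.qZ h))))

end Fl

namespace Mb
variable (h : Mb S V z) (f : Fl V l p q)
include h f

theorem UB : Up V q ≤ Bf V p l := fun u hu => by
  have a := f.symm.Uc h.toGe hu
  refine ⟨f.cc h.toGe a, centralizer_le_normalizer _ a, fun v hv => (h.int l p q f).1.le ⟨?_, cm_inv ?_⟩⟩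
  · exact cm_n (c_le_n_Up V p (f.cc h.toGe a)) hv
  · exact cm_n (c_le_n_Up V q (f.symm.cc h.toGe (f.Uc h.toGe hv))) hu

theorem exa : ∃ a ∈ Up V q, a ∉ Tp V p := SetLike.not_le_iff_exists.1 (h.int l q p f.symm).2

theorem exq : ∃ t ∈ Tp V p, t ∉ 𝐂 l := by
  refine SetLike.not_le_iff_exists.1 fun e => ?_
  have k : ∀ p' q', Fl V l p' q' → Tp V p' ≤ 𝐂 (Up V p') := fun p' q' f' =>
    le_centralizer_iff.1 (Up_le fun m hm hp => le_centralizer_iff.1 (by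
      obtain ⟨q'', f''⟩ := exFl h.toGe hm hp f'.p1
      obtain ⟨g, rfl, rfl⟩ := f.tr h.toGe f''
      rw [← cj_Tp, ← cj_centralizer]; exact cj_mono g e))
  obtain ⟨F, hF⟩ := f.exF h.toGe
  obtain ⟨a, ha, ha'⟩ := h.exa f
  obtain ⟨x, hx, h1⟩ := f.exx h.toGe hF (h.UB f ha) ha'
  have f1 := f.cjc (hF.le hx)
  have y1 := f1.lU h.toGe f1.ql
  have k2 : ∀ r, Fl V l p r → ∀ a ∈ Up V r, a ∉ Tp V p → ⁅a, x * q * x⁻¹⁆ = p * r := fun r fr a ha ha' => by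
    have m1 := f.mv h.toGe hF (h.UB fr ha) ha' hx h1
    refine fr.third h.toGe ((h.UB fr ha).2.2 _ y1) m1 fun j => m1 ?_
    have y2 : x * q * x⁻¹ ∈ Tp V r := mem_Tp.2 ⟨fr.symm.cc h.toGe (f.Uc h.toGe y1), fun b hb => cm_inv ?_⟩
    · exact cm_inv (cm_c (k _ _ fr.symm y2) ha ▸ one_mem _)
    by_cases b1 : b ∈ Tp V p
    · exact cm_c (k _ _ f b1) y1 ▸ one_mem _
    · have b2 := k _ _ f (f.k3 h.toGe (h.UB fr hb) (h.UB fr ha) b1 ha')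
      rw [show b = b * a * a by rw [mul_assoc, h.Up_sq fr.symm.col ha, mul_one]]
      exact cm_left (cm_c b2 y1 ▸ one_mem _) j (c_n (fr.symm.cc h.toGe (centralizer_anti (f.lU h.toGe) b2)))
  obtain ⟨b, hb, hb'⟩ := h.exa (f.rot h.toGe)
  have b2 := cm_c (k _ _ f (f.k3 h.toGe (h.UB f ha) (h.UB (f.rot h.toGe) hb) ha' hb')) y1
  rw [cmul (f.symm.Uc h.toGe ha) ((h.UB (f.rot h.toGe) hb).2.2 _ y1), k2 _ f a ha ha', k2 _ (f.rot h.toGe) b hb hb',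
    f.ppq h.toGe, ← f.comm h.toGe, f.symm.ppq h.toGe] at b2
  exact f.p1 b2

theorem k7 (hu : u ∈ Up V p) (h1 : u ∈ Tp V q) : u ∈ Tp V (p * q) := by
  obtain ⟨t, ht, ht'⟩ := h.exq f
  have := conj_mem_cj t h1
  rw [cj_Tp, f.swap' h.toGe ht.1 (Ge.Tp_le_n f.ln f.pl ht) ht', conj_eq] at this
  exact (mul_mem_cancel_left ((f.rot h.toGe).symm.lT h.toGe (zpowers_le.2 f.pl ((mem_Tp.1 ht).2 u hu)))).1 this

theorem k7' (hu : u ∈ Up V p) (h1 : u ∈ Tp V (p * q)) : u ∈ Tp V q := by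
  simpa only [f.ppq h.toGe] using h.k7 (f.rot h.toGe) hu h1

theorem U1n (h1 : g ∈ 𝐂 (zpowers p)) (h2 : g ∈ 𝐍 l) (hu : u ∈ Up V p) (h3 : u ∈ Tp V q) : g * u * g⁻¹ ∈ Tp V q := by
  by_cases e : g ∈ 𝐂 l
  · exact (Tp_conj (f.symm.cc h.toGe e)).2 h3
  · refine h.k7' f (conj_mem_of_mem_normalizer (c_le_n_Up V p h1) hu) ?_
    rw [← f.swap' h.toGe h1 h2 e, ← cj_Tp]
    exact conj_mem_cj g h3

variable (hF : Fd V p F) (hx : x ∈ F) (h1 : x ∉ 𝐍 l)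
include hF hx h1

theorem k4 {x' : G} (hx' : x' ∈ F) : cj x' l ≤ l ⊔ cj x l :=
  let ⟨_, ha, ha'⟩ := h.exa f
  (f.cjc (hF.le hx')).gen h.toGe (f.cjc (hF.le hx')).ql ((f.cjc (hF.le hx')).qZ h.toGe) (mem_sup_left f.pl)
    (f.k4 h.toGe hF (h.UB f ha) ha' hx h1 hx')

theorem notT : x * q * x⁻¹ ∉ Tp V q := fun e => by
  have k := h.toGe
  have f1 := f.cjc (hF.le hx)
  have y1 := f1.lU k f1.ql
  have pT : p ∈ Tp V q := f.symm.lT k f.pl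
  have hE : l ⊔ cj x l ≤ Tp V q := sup_le (f.symm.lT k) (f1.gen k f1.ql (f1.qZ k) pT e)
  refine (h.int l p q f).2 (Up_le fun m hm hp => ?_)
  obtain ⟨q', f'⟩ := exFl k hm hp f.p1
  obtain ⟨g, rfl, g1⟩ := f.tr k f'
  replace g1 := mem_c_of_conj_eq g1
  obtain ⟨a, ha, ha'⟩ := h.exa f
  have a1 := h.UB f ha
  have b1 := Bf_cj a1 g1
  have b2 := mt (Tp_conj g1).1 ha'
  generalize g * a * g⁻¹ = b at b1 b2
  by_cases e1 : cj g l ≤ l ⊔ cj x l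
  · exact e1.trans hE
  have b3 : b ∈ 𝐍 l := by
    by_contra b3
    have k1 : ∀ x' ∈ F, b ∉ 𝐍 (cj x' l) := fun x' hx' n => by
      have e2 : cj b l = cj (b * x'⁻¹ * b⁻¹ * x') l := by
        rw [cj_mul, cj_mul, cj_eq_of_mem_normalizer (inv_mem n), cj_mul, cj_inv_cj]
      have e3 := h.k4 f hF hx h1 (mul_mem (conj_mem_of_mem_normalizer (hF.nm b1.1) (inv_mem hx')) hx')
        (e2 ▸ conj_mem_cj b f.ql)
      rw [conj_eq] at e3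
      exact e1 (f'.gen k (b1.2.2 q (f.lU k f.ql)) (fun j => b3 (f.nfx k b1.1 f.ql (f.qZ k) j)) (mem_sup_left f.pl)
        ((mul_mem_cancel_right (mem_sup_left f.ql)).1 e3))
    have v1 := a1.2.2 _ y1
    have v2 := f.mv k hF a1 ha' hx h1
    have x2 : a * x * a⁻¹ ∈ F := conj_mem_of_mem_normalizer (hF.nm a1.1) hx
    have e2 : cj (a * x * a⁻¹) l = cj a (cj x l) := by rw [cj_mul, cj_mul, cj_eq_of_mem_normalizer (inv_mem a1.2.1)]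
    refine k1 _ x2 ((f.cjc (hF.le x2)).nfx k b1.1 (e2 ▸ conj_mem_cj a f1.ql)
      (fun j => f1.qZ k ((mem_normalizer_iff.1 (c_n a1.1) _).2 j)) ?_)
    rw [conj_eq]
    exact f'.two_fx k b1 (f.lU k v1) y1 (fun j => b3 (f.nfx k b1.1 v1 v2 j))
      fun j => k1 x hx (f1.nfx k b1.1 f1.ql (f1.qZ k) j)
  obtain ⟨u, hu, hu'⟩ : ∃ u ∈ Up V p, ⁅b, u⁆ ∉ zpowers p := by
    by_contra j
    push Not at j
    exact b2 (mem_Tp.2 ⟨b1.1, j⟩)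
  refine f'.gen k (b1.2.2 u hu) hu' pT ?_
  by_cases e2 : u ∈ Tp V q
  · exact mul_mem (h.U1n f b1.1 b3 hu e2) (inv_mem e2)
  · have u1 := conj_mem_of_mem_normalizer (c_le_n_Up V p b1.1) hu
    exact f.symm.k3 k (h.UB f.symm u1) (h.UB f.symm (inv_mem hu))
      (fun j => e2 (by simpa [mul_assoc] using h.U1n f (inv_mem b1.1) (inv_mem b3) u1 j)) (mt inv_mem_iff.1 e2)

theorem oo (hc : c ∈ 𝐂 l) : ⁅c, x * q * x⁻¹⁆ ∈ l := by
  have k := h.toGe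
  have f1 := f.cjc (hF.le hx)
  have c1 := f.cc k hc
  have e : cj c (cj x l) = cj (c * x * c⁻¹) l := by
    rw [cj_mul, cj_mul, cj_eq_of_mem_centralizer (inv_mem hc)]
  rcases f.sup_cases k f1 (h.k4 f hF hx h1 (conj_mem_of_mem_normalizer (hF.nm c1) hx)
    (e ▸ conj_mem_cj c f1.ql)) with j | j
  · exact absurd (f.symm.lT k ((mem_normalizer_iff.1 (centralizer_le_normalizer _ hc) _).2 j)) (h.notT f hF hx h1)
  · rwa [commutatorElement_def, inv_eq_of_mul_eq_one_right (f1.symm.pp k)]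

omit hF hx h1

theorem exE : ∃ e ∈ Up V p, e ∉ Tp V q ∧ (∀ c ∈ 𝐂 l, ⁅c, e⁆ ∈ l) ∧
    ∀ c ∈ Bf V p l, c ∉ Tp V p → ⁅c, e⁆ ∉ zpowers p := by
  obtain ⟨F, hF⟩ := f.exF h.toGe
  obtain ⟨a, ha, ha'⟩ := h.exa f
  obtain ⟨x, hx, h1⟩ := f.exx h.toGe hF (h.UB f ha) ha'
  have f1 := f.cjc (hF.le hx)
  exact ⟨_, f1.lU h.toGe f1.ql, h.notT f hF hx h1, fun c => h.oo f hF hx h1, fun c a b => f.mv h.toGe hF a b hx h1⟩

theorem inT (hu : u ∈ Up V q) (hu' : u ∈ Tp V p) : u ∈ l := by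
  have k := h.toGe
  obtain ⟨F, hF⟩ := f.exF k
  obtain ⟨e, e1, e2, e3, e4⟩ := h.exE f.symm
  obtain ⟨x, hx, h1⟩ := f.exx k hF (h.UB f e1) e2
  obtain ⟨s, s1, s2⟩ := h.exq f
  have f1 := f.cjc (hF.le hx)
  have x1 := hF.le hx
  have y1 := f1.lU k f1.ql
  have y2 := h.notT f hF hx h1
  have y3 := fun c => h.oo (c := c) f hF hx h1
  have y4 := h.k4 f hF hx h1 (mul_mem hx hx) (by rw [cj_mul]; exact conj_mem_cj x f1.ql)
  have ey : ⁅e, x * q * x⁻¹⁆ = p * q := f.third k ((h.UB f e1).2.2 _ y1) (f.mv k hF (h.UB f e1) e2 hx h1)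
    fun j => e4 _ (h.UB f.symm y1) y2 (cm_inv j)
  generalize x * q * x⁻¹ = y at *
  have ec := f.symm.Uc k e1
  have s3 := Ge.Tp_le_n f.ln f.pl s1
  have nc : ∀ g ∈ 𝐍 l, ∀ c ∈ 𝐂 l, g * c * g⁻¹ ∈ 𝐂 l := fun g hg c =>
    conj_mem_of_mem_normalizer (normalizer_le_normalizer_centralizer l hg)
  have e'c := nc s s3 e ec
  have e'y : ⁅s * e * s⁻¹, y⁆ = q := by
    have j := (mem_Tp.1 (inv_mem s1)).2 y y1
    rw [show y = s * (s⁻¹ * y * s⁻¹⁻¹) * s⁻¹ by group, ← conjugate_commutatorElement, conj_eq s⁻¹,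
      cmul' ((f.four k).le_c (zpowers_le.2 f.pl j)) (ey ▸ mul_mem f.pl f.ql), ey,
      cm_c ec (zpowers_le.2 f.pl j), one_mul, (f.rot k).swap' k s1.1 s3 s2, f.ppq k]
  have o1 : ∀ c ∈ 𝐂 l, ⁅c, s * e * s⁻¹⁆ ∈ l := fun c hc => by
    rw [show c = s * (s⁻¹ * c * s⁻¹⁻¹) * s⁻¹ by group, ← conjugate_commutatorElement]
    exact conj_mem_of_mem_normalizer s3 (e3 _ (nc _ (inv_mem s3) c hc))
  have t1 : s * e * s⁻¹ * e ∈ Tp V p := by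
    have := cm_inv (cm_n (c_le_n_Tp V p (f.cc k ec)) s1)
    rwa [commutatorElement_def, inv_eq_of_mul_eq_one_right (k.Up_sq f.symm.col e1)] at this
  have t2 : ⁅s * e * s⁻¹ * e, y⁆ = p := by
    rw [cmul e'c (ey ▸ mul_mem f.pl f.ql), ey, e'y, mul_assoc, f.symm.pp k, mul_one]
  have t3 : ∀ c ∈ 𝐂 l, ⁅c, s * e * s⁻¹ * e⁆ ∈ l := fun c hc =>
    cm_right (o1 c hc) (e3 c hc) (centralizer_le_normalizer _ e'c)
  have t4 := mul_mem e'c ec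
  have t5 : ∀ t ∈ Tp V p, t ∉ 𝐂 l → ⁅t, s * e * s⁻¹ * e⁆ ∈ l := fun t a b => by
    have a3 := Ge.Tp_le_n f.ln f.pl a
    have j1 := e3 _ (f.mulc k a.1 a3 b s1.1 s3 s2)
    have j2 := e3 _ (f.mulc k (inv_mem s1).1 (inv_mem s3) (mt inv_mem_iff.1 s2) a.1 a3 b)
    rw [show ⁅t, s * e * s⁻¹ * e⁆ = ⁅t * s, e⁆ * (e * (s * ⁅s⁻¹ * t, e⁆ * s⁻¹) * e⁻¹) * ⁅e, s * e * s⁻¹⁆ by
      simp only [commutatorElement_def]; group]
    exact mul_mem (mul_mem j1 (conj_mem_of_mem_normalizer (centralizer_le_normalizer _ ec)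
      (conj_mem_of_mem_normalizer s3 j2))) (o1 e ec)
  generalize s * e * s⁻¹ * e = r at *
  have cm : ∀ c ∈ 𝐂 l, ⁅c, y⁆ = 1 → c ∈ 𝐂 (cj x l) := fun c a b => le_centralizer_iff.1
    (f1.gen k f1.ql (f1.qZ k) (mem_centralizer_zpowers.2 (mem_centralizer_zpowers.1 (f.cc k a)).symm)
      (mem_centralizer_zpowers.2 (commutatorElement_eq_one_iff_mul_comm.1 b))) (mem_zpowers c)
  have w1 := (Tp_conj x1).2 t1
  have w2 : x * r * x⁻¹ ∉ 𝐂 l := fun j => by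
    have j2 : x * r * x⁻¹ ∈ 𝐂 (l ⊔ cj x l) := by
      rw [centralizer_sup', ← cj_centralizer]; exact ⟨j, conj_mem_cj x t4⟩
    have := cm_c j2 y4
    rw [← conjugate_commutatorElement, t2] at this
    exact conj_ne_one x f.p1 this
  have w3 : ∀ c ∈ 𝐂 (cj x l), ⁅c, x * r * x⁻¹⁆ ∈ cj x l := fun c hc => by
    rw [← cj_centralizer, mem_cj'] at hc
    obtain ⟨c, hc, rfl⟩ := hc
    rw [← conjugate_commutatorElement]
    exact conj_mem_cj x (t3 c hc)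
  have w4 := cm_inv (t5 _ w1 w2)
  generalize x * r * x⁻¹ = t at *
  have uc := f.symm.Uc k hu
  have w5 : ⁅u, t⁆ ∈ l ⊔ cj x l := by
    rcases (f.memZ k).1 ((mem_Tp.1 hu').2 y y1) with j | j
    · exact mem_sup_right (w3 u (cm u uc j))
    · have := w3 _ (cm _ (mul_mem uc t4) (by rw [cmul uc (t2 ▸ f.pl), t2, j, f.pp k]))
      rw [cmul uc w4] at this
      exact (mul_mem_cancel_left (mem_sup_left w4)).1 (mem_sup_right this)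
  have w6 : t * u⁻¹ * t⁻¹ ∈ Up V (p * q) := by
    rw [← f.swap' k w1.1 (Ge.Tp_le_n f.ln f.pl w1) w2, ← cj_Up]; exact conj_mem_cj t (inv_mem hu)
  have w7 : ⁅u, t⁆ = u * (t * u⁻¹ * t⁻¹) := by simp only [commutatorElement_def, mul_assoc]
  have w8 : ⁅u, t⁆ ∈ Tp V q := by
    have := h.k7 (f.rot k).symm w6 (mul_mem (mul_mem w1 (inv_mem hu')) (inv_mem w1))
    rw [← f.comm k, mul_assoc, f.pp k, mul_one] at this
    exact w7 ▸ mul_mem (f.symm.UT k hu) this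
  have w9 : ⁅u, t⁆ ∈ l := (f.sup_cases k f1 w5).resolve_right fun j =>
    y2 ((mul_mem_cancel_left w8).1 (f.symm.lT k j))
  have f2 := f.symm.rot k
  rw [f.comm k] at f2
  exact (h.int _ _ _ f2).1.le ⟨hu, (mul_mem_cancel_right w6).1 (w7 ▸ f2.symm.lU k w9)⟩

theorem g1 (hu : u ∈ Up V p) (hv : v ∈ Up V p) (h1 : u ∉ l) (h2 : v ∉ l) : u * v ∈ l :=
  h.inT f.symm (mul_mem hu hv) (f.symm.k3 h.toGe (h.UB f.symm hu) (h.UB f.symm hv) (mt (h.inT f.symm hu) h1)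
    (mt (h.inT f.symm hv) h2))

end Mb

end H27.FM
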