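import Cfsg.Agent.H27.ZJD
import Cfsg.Agent.H27.SecCor
import Cfsg.Agent.H4.Factor

/-! `p`-stable groups, `p` odd: `p`-stability passes to `G/Q` when `O^p(G)` centralizes the normal `p`-subgroup `Q`
(`pStable_quotient_of_central'`); `ZJ` controls strong fusion (`ctl_zj_of_pStable`) and the fusion system is
constrained (`centric_opF_of_pStable`). -/

namespace H27

open Subgroup H26 Cfsg
open scoped commutatorElement MatrixGroups

universe u

section stable

variable {G : Type*} [Group G] {p : ℕ} [hp : Fact p.Prime]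

theorem quad_of_inverted (hp2 : p ≠ 2) {R M : Subgroup G} (hR : IsPGroup p R) (hM : M ≤ R) {t v y x : G}
    (ht : t ∈ 𝐂 M) (hv : v ∈ R ⊓ 𝐂 M) (hy : y ∈ R ⊓ 𝐂 M) (h1 : t * v * t⁻¹ = v⁻¹)
    (h2 : t * y * t⁻¹ = y⁻¹) (h3 : x * v * x⁻¹ = v) (h4 : (v * y)⁻¹ * (x * y * x⁻¹) ∈ M)
    (h5 : t * (x * y * x⁻¹) * t⁻¹ = (x * y * x⁻¹)⁻¹) :
    ⁅⁅zpowers v ⊔ zpowers y, zpowers x⁆, zpowers x⁆ = ⊥ := by
  obtain ⟨μ, hμ⟩ : ∃ μ, μ = (v * y)⁻¹ * (x * y * x⁻¹) := ⟨_, rfl⟩
  rw [← hμ] at h4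
  have e1 : x * y * x⁻¹ = v * y * μ := by rw [hμ]; group
  have c1 : Commute μ v := hv.2 μ h4
  have c2 : Commute μ y := hy.2 μ h4
  have e2 : μ ^ 2 = ((y * v)⁻¹ * (v * y))⁻¹ := by
    have e : t * (v * y * μ) * t⁻¹ = t * v * t⁻¹ * (t * y * t⁻¹) * (t * μ * t⁻¹) := by group
    rw [e1, e, h1, h2, mem_centralizer_iff'.1 ht μ h4] at h5
    have e3 : μ * (v⁻¹ * y⁻¹ * μ) * (y * v) = μ ^ 2 := by
      rw [mul_assoc μ, mul_assoc _ μ, (c2.mul_right c1).eq, pow_two]; group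
    rw [← e3, h5]
    group
  have c3 : x * μ * x⁻¹ = μ := by
    obtain ⟨k, hk⟩ := isPGroup_iff_mem.1 hR μ (hM h4)
    have h6 : μ ∈ centralizer {x} := mem_of_pow_mem_coprime
      (((Nat.coprime_primes Nat.prime_two hp.out).2 hp2.symm).pow_right k) (by
        rw [mem_centralizer_singleton_iff, ← mul_inv_eq_iff_eq_mul.1 (show x * μ ^ 2 * x⁻¹ = μ ^ 2 from ?_)]
        calc x * μ ^ 2 * x⁻¹ = ((x * y * x⁻¹ * (x * v * x⁻¹))⁻¹ * (x * v * x⁻¹ * (x * y * x⁻¹)))⁻¹ := by rw [e2]; group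
          _ = μ⁻¹ * (y⁻¹ * v⁻¹ * y * (μ * v)) := by rw [h3, e1]; group
          _ = μ ^ 2 := by rw [e2, ← mul_assoc (y⁻¹ * v⁻¹ * y), ← ((c2.inv_right.mul_right c1.inv_right).mul_right c2).eq]; group)
      (by rw [hk]; exact one_mem _)
    rw [← mem_centralizer_singleton_iff.1 h6, mul_inv_cancel_right]
  have hB : zpowers v ⊔ zpowers μ ≤ 𝐂 (zpowers x) :=
    sup_le (zpowers_le.2 (H4.mem_centralizer_zpowers.2 (mul_inv_eq_iff_eq_mul.1 h3)))
      (zpowers_le.2 (H4.mem_centralizer_zpowers.2 (mul_inv_eq_iff_eq_mul.1 c3)))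
  have hv' : v ∈ zpowers v ⊔ zpowers μ := mem_sup_left (mem_zpowers v)
  have hμ' : μ ∈ zpowers v ⊔ zpowers μ := mem_sup_right (mem_zpowers μ)
  have n1 : x ∈ 𝐍 (zpowers v ⊔ zpowers μ) := centralizer_le_normalizer _ (le_centralizer_iff.1 hB (mem_zpowers x))
  have n2 : y ∈ 𝐍 (zpowers v ⊔ zpowers μ) := by
    refine cj_eq_iff.1 (le_antisymm ?_ (sup_le (zpowers_le.2 (mem_cj.2 ?_)) (zpowers_le.2 (mem_cj.2 ?_))))
    · rw [cj_sup, cj_zpowers, cj_zpowers, ← c2.eq, mul_inv_cancel_right]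
      refine sup_le (zpowers_le.2 ?_) le_sup_right
      have : y * v * y⁻¹ = v * μ ^ 2 := by
        rw [← mul_inv_cancel_right (μ ^ 2) y, (c2.pow_left 2).eq, e2]
        group
      exact this ▸ mul_mem hv' (pow_mem hμ' 2)
    · have : y⁻¹ * v * y = v * (μ ^ 2)⁻¹ := by rw [e2]; group
      exact this ▸ mul_mem hv' (inv_mem (pow_mem hμ' 2))
    · rwa [mul_assoc, c2.eq, inv_mul_cancel_left]
  rw [commutator_eq_bot_iff_le_centralizer]
  refine (H4.commutator_sup_le (H4.commutator_zpowers_zpowers_le ?_ (le_normalizer hv') n1)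
    (H4.commutator_zpowers_zpowers_le ?_ n2 n1) (le_sup_left.trans le_normalizer) (zpowers_le.2 n2)).trans hB
  · rw [commutatorElement_def, mul_assoc, mul_assoc, ← mul_assoc x, ← conj_inv, h3, mul_inv_cancel]
    exact one_mem _
  · have : ⁅y, x⁆ = μ⁻¹ * v⁻¹ := by
      rw [commutatorElement_def, mul_assoc, mul_assoc, ← mul_assoc x, ← conj_inv, e1, mul_inv_rev, mul_inv_rev,
        ← mul_assoc, ← c2.inv_left.eq]
      group
    exact this ▸ mul_mem (inv_mem hμ') (inv_mem hv')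

variable [Finite G]

theorem not_natSec_of_pStable' (hp2 : p ≠ 2) (h : IsNormalizerPStable p G) {M L : Subgroup G} [M.Normal]
    (hM : IsPGroup p M) (hL : pResidualOf p L ≤ 𝐂 M) : ¬ H4.NatSec p (L.map (QuotientGroup.mk' M)) ⊤ := by
  rintro ⟨L₀, hL₀, ψ, hψ, j, hj, -, e⟩
  have hodd : Odd p := hp.out.odd_of_ne_two hp2
  set π := QuotientGroup.mk' M with hπ
  set L₁ := L ⊓ L₀.comap π with hL₁
  let φ : L₁ →* L₀ := (π.comp L₁.subtype).codRestrict L₀ fun l => l.2.2
  have hφ : Function.Surjective φ := by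
    intro l
    obtain ⟨y, hy, e⟩ := hL₀ l.2
    exact ⟨⟨y, hy, mem_comap.2 (e ▸ l.2)⟩, Subtype.ext e⟩
  set χ := ψ.comp φ with hχ
  have hχs : Function.Surjective χ := hψ.comp hφ
  have e' : ∀ (l : L₁) v, π l * j (Multiplicative.ofAdd v) * (π l)⁻¹ = j (Multiplicative.ofAdd (χ l • v)) :=
    fun l v => e (φ l) v
  set R := j.range.comap π with hR
  have hMR : M ≤ R := (QuotientGroup.ker_mk' M).ge.trans (ker_le_comap _ _)
  have hRp : IsPGroup p R := by
    refine IsPGroup.comap_of_ker_isPGroup ?_ _ (by rwa [QuotientGroup.ker_mk'])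
    refine isPGroup_iff_mem.2 ?_
    rintro _ ⟨a, rfl⟩
    refine ⟨1, ?_⟩
    rw [pow_one, ← map_pow]
    have : a ^ p = 1 := by ext i; simp
    rw [this, map_one]
  have hLR : L₁ ≤ 𝐍 R := fun l hl => mem_normalizer_of_conj_mem fun r ⟨a, ha⟩ => by
    refine ⟨Multiplicative.ofAdd (χ ⟨l, hl⟩ • a.toAdd), ?_⟩
    rw [← e', map_mul, map_mul, map_inv, ← ha]
    rfl
  have hmem : ∀ {x y : G}, π x = π y → x⁻¹ * y ∈ M := fun h => QuotientGroup.eq.1 h
  have hcenM : ∀ l : L₁, (orderOf l).Coprime p → (l : G) ∈ 𝐂 M := fun l hl =>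
    hL (mem_pResidualOf l.2.1 (by rwa [orderOf_coe]))
  have hker : ∀ l : L₁, χ l = 1 → (orderOf l).Coprime p → (l : G) ∈ 𝐂 R := by
    intro l h1 h2
    refine pResidualOf_le_centralizer_of_stab (P := R) (R := zpowers (l : G)) hM ?_ (zpowers_le.2 (hcenM l h2))
      (mem_pResidualOf (mem_zpowers _) (by rwa [orderOf_coe]))
    refine H4.commutator_zpowers_le' (fun r ⟨a, ha⟩ => ?_) (le_normalizer_of_normal (mem_top _))
    have h3 : π (l * r * (l : G)⁻¹) = π r := by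
      rw [map_mul, map_mul, map_inv, ← ha]
      refine (e' l a.toAdd).trans ?_
      rw [h1, one_smul]; rfl
    have h4 := (inferInstance : M.Normal).conj_mem _ (hmem h3) r
    convert h4 using 1
    rw [commutatorElement_def]; group
  obtain ⟨T, hT⟩ := exists_isSyl 2 ((zpowers (-1 : SL(2, ZMod p))).comap χ)
  have hZ : IsPGroup 2 (zpowers (-1 : SL(2, ZMod p))) := isPGroup_zpowers (k := 1) (by simp)
  have h1 : T.map χ = zpowers (-1) := by
    have := hT.map χ
    rw [map_comap_eq_self_of_surjective hχs] at this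
    exact this.eq_of_isPGroup hZ
  have hn : (zpowers (-1 : SL(2, ZMod p))).Normal := normal_iff_cj.2 fun g => by rw [cj_zpowers]; simp
  have h2 : (𝐍 T).map χ = ⊤ := by
    have := congrArg (Subgroup.map χ) (hT.frattini le_top (normalizer_eq_top _).ge)
    rwa [Subgroup.map_sup, map_comap_eq_self_of_surjective hχs, map_top_of_surjective χ hχs, top_inf_eq, ← h1,
      sup_eq_right.2 (map_mono le_normalizer)] at this
  obtain ⟨t, ht, ht1⟩ := h1.ge (mem_zpowers _)
  have hT2 : ∀ s ∈ T, (orderOf s).Coprime p := fun s hs => by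
    obtain ⟨k, hk⟩ := orderOf_eq_pow_iff.2 (isPGroup_iff_mem.1 hT.isP s hs)
    rw [hk]
    exact ((Nat.coprime_primes Nat.prime_two hp.out).2 hp2.symm).pow_left _
  let u : SL(2, ZMod p) := H4.slOf !![1, 1; 0, 1] (by simp)
  let w₀ : SL(2, ZMod p) := H4.slOf !![0, 1; -1, 0] (by simp)
  obtain ⟨x, hxT, hxu⟩ := h2.ge (mem_top u)
  obtain ⟨w, hwT, hw⟩ := h2.ge (mem_top w₀)
  have h2u : (2 : ZMod p) ≠ 0 := by
    intro h
    have := (ZMod.natCast_eq_zero_iff 2 p).1 (by exact_mod_cast h)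
    exact hp2 ((Nat.prime_dvd_prime_iff_eq hp.out Nat.prime_two).1 this)
  have htt : ((t * t : L₁) : G) ∈ 𝐂 R := hker _ (by rw [map_mul, ht1]; simp) (hT2 _ (mul_mem ht ht))
  have htM := hcenM t (hT2 t ht)
  have hinv : ∀ c, ∀ r, π r = j (Multiplicative.ofAdd ((-2⁻¹ : ZMod p) • c)) →
      π (r⁻¹ * (t * r * (t : G)⁻¹)) = j (Multiplicative.ofAdd c) ∧
        (t : G) * (r⁻¹ * (t * r * (t : G)⁻¹)) * (t : G)⁻¹ = (r⁻¹ * (t * r * (t : G)⁻¹))⁻¹ := fun c r hr => by
    refine ⟨?_, ?_⟩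
    · rw [map_mul, map_mul, map_mul, map_inv, map_inv, hr, e', ht1, ← map_inv, ← map_mul]
      congr 1
      change Multiplicative.ofAdd (-((-2⁻¹ : ZMod p) • c) + (-1 : SL(2, ZMod p)) • ((-2⁻¹ : ZMod p) • c)) = _
      congr 1
      rw [H4.sl_smul]
      ext i
      simp [Matrix.neg_mulVec]
      field_simp
      ring
    · have := mem_centralizer_iff'.1 htt r ⟨_, hr.symm⟩
      calc _ = t * r⁻¹ * (t : G)⁻¹ * (((t * t : L₁) : G) * r * ((t * t : L₁) : G)⁻¹) := by
            rw [Subgroup.coe_mul]; group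
        _ = _ := by rw [this]; group
  have hex : ∀ c, ∃ v ∈ R ⊓ 𝐂 M, π v = j (Multiplicative.ofAdd c) ∧ (t : G) * v * (t : G)⁻¹ = v⁻¹ := fun c => by
    obtain ⟨r, hr⟩ := QuotientGroup.mk'_surjective M (j (Multiplicative.ofAdd ((-2⁻¹ : ZMod p) • c)))
    refine ⟨_, ⟨⟨_, (hinv c r hr).1.symm⟩, ?_⟩, hinv c r hr⟩
    rw [← mul_assoc, ← mul_assoc]
    exact Subgroup.mul_mem _ (Normal.conj_mem' inferInstance _ htM r) (Subgroup.inv_mem _ htM)
  have hcj : ∀ n ∈ 𝐍 T, ∀ v ∈ R, (t : G) * v * (t : G)⁻¹ = v⁻¹ →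
      (t : G) * (n * v * (n : G)⁻¹) * (t : G)⁻¹ = ((n : G) * v * (n : G)⁻¹)⁻¹ := fun n hn v hv hvt => by
    have hc : ((t⁻¹ * (n⁻¹ * t * n) : L₁) : G) ∈ 𝐂 R := hker _ (by simp [ht1])
      (hT2 _ (mul_mem (inv_mem ht) (conj_mem_of_mem_normalizer' hn ht)))
    calc (t : G) * (n * v * (n : G)⁻¹) * (t : G)⁻¹ = n * (t * (((t⁻¹ * (n⁻¹ * t * n) : L₁) : G) * v *
          ((t⁻¹ * (n⁻¹ * t * n) : L₁) : G)⁻¹) * (t : G)⁻¹) * (n : G)⁻¹ := by
          simp only [Subgroup.coe_mul, Subgroup.coe_inv]; group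
      _ = _ := by rw [mem_centralizer_iff'.1 hc v hv, hvt]; group
  obtain ⟨v, hv, hπv, hvt⟩ := hex ![1, 0]
  obtain ⟨y, hy, hπy, hyt⟩ := hex ![0, 1]
  have hR₁ : zpowers v ⊔ zpowers y ≤ R ⊓ 𝐂 M := sup_le (zpowers_le.2 hv) (zpowers_le.2 hy)
  have hv₁ : v ∈ zpowers v ⊔ zpowers y := mem_sup_left (mem_zpowers v)
  have hy₁ : y ∈ zpowers v ⊔ zpowers y := mem_sup_right (mem_zpowers y)
  have hnorm : ∀ n : G, n * v * n⁻¹ ∈ zpowers v ⊔ zpowers y → n * y * n⁻¹ ∈ zpowers v ⊔ zpowers y →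
      n ∈ 𝐍 (zpowers v ⊔ zpowers y) := fun n h1 h2 => mem_normalizer_of_cj_le (by
    rw [cj_sup, cj_zpowers, cj_zpowers]
    exact sup_le (zpowers_le.2 h1) (zpowers_le.2 h2))
  have htn := hnorm t (hvt ▸ inv_mem hv₁) (hyt ▸ inv_mem hy₁)
  have hI : ∀ z ∈ R, (t : G) * z * (t : G)⁻¹ = z⁻¹ → z ∈ zpowers v ⊔ zpowers y := by
    rintro z ⟨c, hc⟩ hz
    set d := (-2⁻¹ : ZMod p) • c.toAdd with hd
    have h3 : π (v ^ (d 0).val * y ^ (d 1).val) = j (Multiplicative.ofAdd d) := by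
      rw [map_mul, map_pow, map_pow, hπv, hπy, ← map_pow j, ← map_pow j, ← map_mul]
      congr 1
      change Multiplicative.ofAdd ((d 0).val • ![(1 : ZMod p), 0] + (d 1).val • ![(0 : ZMod p), 1]) = _
      congr 1
      ext i
      fin_cases i <;> simp
    have h4 := mul_mem (pow_mem hv₁ (d 0).val) (pow_mem hy₁ (d 1).val)
    have h5 := mul_mem (inv_mem h4) (conj_mem_of_mem_normalizer htn h4)
    rwa [eq_of_inverted hp2 hRp hMR htM (hR₁ h5).1 (hinv _ _ h3).2 hz (hmem ((hinv _ _ h3).1.trans hc))]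
  have hN : ∀ n ∈ 𝐍 T, (n : G) ∈ 𝐍 (zpowers v ⊔ zpowers y) := fun n hn =>
    hnorm n (hI _ (conj_mem_of_mem_normalizer (hLR n.2) hv.1) (hcj n hn v hv.1 hvt))
      (hI _ (conj_mem_of_mem_normalizer (hLR n.2) hy.1) (hcj n hn y hy.1 hyt))
  have hxv : (x : G) * v * (x : G)⁻¹ = v := by
    refine eq_of_inverted hp2 hRp hMR htM hv.1 hvt (hcj x hxT v hv.1 hvt) (hmem ?_)
    rw [map_mul, map_mul, map_inv, hπv, e', hxu]
    congr 2
    rw [H4.sl_smul]
    ext i
    fin_cases i <;> simp [u, Matrix.mulVec, dotProduct]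
  have hxy : (v * y)⁻¹ * (x * y * (x : G)⁻¹) ∈ M := hmem (by
    rw [map_mul, map_mul, map_mul, map_inv, hπv, hπy, e', hxu, ← map_mul, ← ofAdd_add]
    congr 2
    rw [H4.sl_smul]
    ext i
    fin_cases i <;> simp [u, Matrix.mulVec, dotProduct])
  have hq := quad_of_inverted hp2 hRp hMR htM hv hy hvt hyt hxv hxy (hcj x hxT y hy.1 hyt)
  have hxD := isNormalizerPStable_iff.1 h _ (hRp.to_le (hR₁.trans inf_le_left)) x (hN x hxT) hq
  have hyD : ((x * (w * x * w⁻¹) : L₁) : G) ∈ H4.opMod p (𝐍 (zpowers v ⊔ zpowers y)) (𝐂 (zpowers v ⊔ zpowers y)) :=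
    mul_mem hxD (conj_mem_of_mem_normalizer (H4.le_normalizer_opMod p _ _ (hN w hwT)) hxD)
  obtain ⟨k, hk⟩ := H4.exists_pow_mem_of_mem_opMod (normalizer_le_normalizer_centralizer _) hyD
  have h3 : χ (((x * (w * x * w⁻¹)) ^ p ^ k) ^ 3) • ![(1 : ZMod p), 0] = ![1, 0] := by
    have h3 := congrArg π (mem_centralizer_iff'.1 (pow_mem hk 3) v hv₁)
    rw [map_mul, map_mul, map_inv, hπv] at h3
    exact Multiplicative.ofAdd.injective (hj ((e' (((x * (w * x * w⁻¹)) ^ p ^ k) ^ 3) _).symm.trans h3))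
  have h4 : χ (x * (w * x * w⁻¹)) ^ 3 = -1 := by
    rw [map_mul, map_mul, map_mul, map_inv, hxu, hw]
    ext i j
    fin_cases i <;> fin_cases j <;>
      simp [u, w₀, pow_succ, Matrix.SpecialLinearGroup.coe_inv, Matrix.adjugate_fin_two, Matrix.mul_apply, Fin.sum_univ_two]
  rw [← pow_mul, mul_comm, pow_mul, map_pow, map_pow, h4, (hodd.pow).neg_one_pow, H4.sl_smul] at h3
  have h6 := congrFun h3 0
  simp [Matrix.neg_mulVec] at h6
  exact h2u (by linear_combination -h6)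

theorem pResidualOf_le_centralizer_of_quad' (hp2 : p ≠ 2) (h : IsNormalizerPStable p G) {R : Subgroup G}
    (hR : IsPGroup p R) {a b : G} (ha : a ∈ 𝐍 R) (hb : b ∈ 𝐍 R)
    (qa : ⁅⁅R, zpowers a⁆, zpowers a⁆ ≤ 𝐂 (pResidualOf p (closure {a, b})))
    (qb : ⁅⁅R, zpowers b⁆, zpowers b⁆ ≤ 𝐂 (pResidualOf p (closure {a, b}))) :
    pResidualOf p (closure {a, b}) ≤ 𝐂 R := by
  set L := closure ({a, b} : Set G) with hL
  have hLR : L ≤ 𝐍 R := (closure_le _).2 (Set.pair_subset ha hb)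
  have haL : a ∈ L := subset_closure (Set.mem_insert _ _)
  have hbL : b ∈ L := subset_closure (Set.mem_insert_of_mem _ (Set.mem_singleton _))
  set M := R ⊓ 𝐂 (pResidualOf p L) with hM
  have hLM : L ≤ 𝐍 M := le_normalizer_inf hLR (le_normalizer_centralizer (le_normalizer_pResidualOf p L))
  by_contra hne
  have hlt : M < R := lt_of_le_of_ne inf_le_left fun e => hne (le_centralizer_iff.1 (e.ge.trans inf_le_right))
  have hlt' := lt_inf_normalizer hR hlt
  set K := 𝐍 M with hK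
  set π := QuotientGroup.mk' (M.subgroupOf K) with hπ
  set N := (R ⊓ K).subgroupOf K with hN
  have hNp : IsPGroup p N := (isPGroup_subgroupOf_iff inf_le_right).2 (hR.to_le inf_le_left)
  set V := omegaOne p (N.map π ⊓ 𝐂 (N.map π)) with hV
  have hVe : IsElementaryAbelian p V := elemAb_omegaOne_center _
  have hVN : V ≤ N.map π := (omegaOne_le _ _).trans inf_le_left
  have hLN : L.subgroupOf K ≤ 𝐍 N := fun l hl => by
    rw [← map_mem_normalizer_iff K.subtype_injective, map_subgroupOf_eq_of_le inf_le_right]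
    exact le_normalizer_inf hLR (hLM.trans le_normalizer) hl
  have hLV : (L.subgroupOf K).map π ≤ 𝐍 V := le_normalizer_omegaOne (le_normalizer_inf
    (map_le_normalizer_map π hLN) (le_normalizer_centralizer (map_le_normalizer_map π hLN)))
  have hq : ∀ c : K, (c : G) ∈ L → ⁅⁅R, zpowers (c : G)⁆, zpowers (c : G)⁆ ≤ 𝐂 (pResidualOf p L) →
      ⁅⁅V, zpowers (π c)⁆, zpowers (π c)⁆ = ⊥ := by
    intro c hc hq
    rw [eq_bot_iff]
    refine (commutator_mono (commutator_mono hVN le_rfl) le_rfl).trans ?_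
    rw [← MonoidHom.map_zpowers, ← map_commutator, ← map_commutator, le_bot_iff, map_mk'_eq_bot,
      ← map_le_map_iff_of_injective K.subtype_injective, map_subgroupOf_eq_of_le le_normalizer, map_commutator,
      map_commutator, MonoidHom.map_zpowers, map_subgroupOf_eq_of_le inf_le_right]
    have hc' : zpowers (c : G) ≤ 𝐍 R := zpowers_le.2 (hLR hc)
    exact (commutator_mono (commutator_mono inf_le_left le_rfl) le_rfl).trans (le_inf
      ((commutator_mono (commutator_le_of_le_normalizer hc') le_rfl).trans (commutator_le_of_le_normalizer hc')) hq)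
  have hcl : closure {π ⟨a, hLM haL⟩, π ⟨b, hLM hbL⟩} = (L.subgroupOf K).map π := by
    have : L.subgroupOf K = Subgroup.closure ({⟨a, hLM haL⟩, ⟨b, hLM hbL⟩} : Set K) := by
      rw [← map_subtype_inj, map_subgroupOf_eq_of_le hLM, MonoidHom.map_closure, Set.image_pair]; rfl
    rw [this, MonoidHom.map_closure, Set.image_pair]
  have hres : pResidualOf p (L.subgroupOf K) ≤ 𝐂 (M.subgroupOf K) := by
    rw [← map_le_centralizer_map_iff K.subtype_injective, map_pResidualOf, map_subgroupOf_eq_of_le hLM,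
      map_subgroupOf_eq_of_le le_normalizer]
    exact le_centralizer_iff.1 inf_le_right
  have hMp : IsPGroup p (M.subgroupOf K) := (isPGroup_subgroupOf_iff le_normalizer).2 (hR.to_le inf_le_left)
  by_cases hn : ∀ h ∈ closure {π ⟨a, hLM haL⟩, π ⟨b, hLM hbL⟩}, ∃ k, h ^ p ^ k ∈ 𝐂 V
  · have h1 : V ≠ ⊥ := by
      refine omegaOne_ne_bot ((hNp.map π).to_le inf_le_left) (center_ne_bot (hNp.map π) fun e => hlt'.ne ?_)
      rw [map_mk'_eq_bot, ← map_le_map_iff_of_injective K.subtype_injective, map_subgroupOf_eq_of_le le_normalizer,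
        map_subgroupOf_eq_of_le inf_le_right] at e
      exact le_antisymm hlt'.le e
    apply h1
    have h2 := pResidualOf_le_of_pow_mem hn
    rw [hcl, ← map_pResidualOf, ← commutator_eq_bot_iff',
      ← map_comap_eq_self_of_surjective (QuotientGroup.mk'_surjective (M.subgroupOf K)) V, ← map_commutator,
      map_mk'_eq_bot] at h2
    have h3 := pResidualOf_le_centralizer_of_stab hMp h2 hres
    rw [pResidualOf_pResidualOf, le_centralizer_iff, ← map_le_centralizer_map_iff K.subtype_injective, map_pResidualOf,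
      map_subgroupOf_eq_of_le hLM] at h3
    rw [← map_comap_eq_self_of_surjective (QuotientGroup.mk'_surjective (M.subgroupOf K)) V, map_mk'_eq_bot]
    intro y hy
    refine ⟨?_, h3 (mem_map_of_mem _ hy)⟩
    have : zpowers y ≤ N := le_of_map_mk'_le (N := M.subgroupOf K) (comap_mono hlt'.le)
      (by rw [MonoidHom.map_zpowers, zpowers_le]; exact hVN hy)
    exact (this (mem_zpowers y)).1
  · refine not_natSec_of_pStable' hp2 (pStable_subgroup h K) hMp hres ?_
    rw [← hcl]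
    exact (H4.natSec_of_pair hp2 hVe (hLV (mem_map_of_mem π (x := ⟨a, hLM haL⟩) haL))
      (hLV (mem_map_of_mem π (x := ⟨b, hLM hbL⟩) hbL))
      (hq ⟨a, hLM haL⟩ haL qa) (hq ⟨b, hLM hbL⟩ hbL qb) hn).mono le_rfl le_top

/-- For odd `p`, `p`-stability passes to `G/Q` if `O^p(G)` centralizes the normal `p`-subgroup `Q`. -/
theorem pStable_quotient_of_central' (hp2 : p ≠ 2) (h : IsNormalizerPStable p G) (Q : Subgroup G) [Q.Normal]
    (hQ : IsPGroup p Q) (hc : pResidualOf p ⊤ ≤ 𝐂 Q) : IsNormalizerPStable p (G ⧸ Q) := by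
  rw [isNormalizerPStable_iff]
  intro P hP g hg hq
  refine H4.mem_opMod_of_pairs (normalizer_le_normalizer_centralizer P) hg fun y hy x hx => ?_
  set π := QuotientGroup.mk' Q with hπ
  set R := P.comap π with hR
  have hRp : IsPGroup p R := hP.comap_of_ker_isPGroup _ (by rwa [QuotientGroup.ker_mk'])
  have hmap : R.map π = P := map_comap_eq_self_of_surjective (QuotientGroup.mk'_surjective Q) P
  obtain ⟨a, rfl⟩ := QuotientGroup.mk'_surjective Q g
  obtain ⟨c, rfl⟩ := QuotientGroup.mk'_surjective Q y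
  have hN : ∀ z, π z ∈ 𝐍 P → z ∈ 𝐍 R := fun z hz =>
    zpowers_le.1 (le_normalizer_comap π (by rwa [MonoidHom.map_zpowers, zpowers_le]))
  have ha := hN a hg
  have hc' := hN c hy
  have hQC : ∀ L : Subgroup G, Q ≤ 𝐂 (pResidualOf p L) := fun L =>
    le_centralizer_iff.1 ((pResidualOf_mono le_top).trans hc)
  have qa : ⁅⁅R, zpowers a⁆, zpowers a⁆ ≤ Q := by
    rwa [← map_mk'_eq_bot, map_commutator, map_commutator, MonoidHom.map_zpowers, hmap]
  have qb : ⁅⁅R, zpowers (c * a * c⁻¹)⁆, zpowers (c * a * c⁻¹)⁆ ≤ Q := by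
    rw [← cj_zpowers, ← cj_eq_of_mem_normalizer hc', ← cj_commutator, ← cj_commutator]
    exact cj_le_of_mem_normalizer qa (le_normalizer_of_normal (mem_top c))
  have h1 := pResidualOf_le_centralizer_of_quad' hp2 h hRp ha (mul_mem (mul_mem hc' ha) (inv_mem hc'))
    (qa.trans (hQC _)) (qb.trans (hQC _))
  have h2 := map_le_centralizer_map π h1
  rw [map_pResidualOf, hmap, MonoidHom.map_closure, Set.image_pair, map_mul, map_mul, map_inv] at h2
  exact pResidualOf_le_iff_pow.1 h2 x hx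

theorem pStable_of_surjective {G' : Type*} [Group G'] (hp2 : p ≠ 2) (h : IsNormalizerPStable p G) {f : G →* G'}
    (hf : Function.Surjective f) (hk : IsPGroup p f.ker) (hc : pResidualOf p ⊤ ≤ 𝐂 f.ker) :
    IsNormalizerPStable p G' :=
  pStable_of_equiv (QuotientGroup.quotientKerEquivOfSurjective f hf) (pStable_quotient_of_central' hp2 h _ hk hc)

omit [Finite G] in
theorem Ctl.of_subgroupOf {N T H : Subgroup G} (hT : T ≤ H) (h : Ctl (N.subgroupOf H) (T.subgroupOf H) ⊤) :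
    Ctl (H ⊓ N) T H := by
  intro A g hA hg hgA
  have hAH := hA.trans hT
  obtain ⟨n, hn, c, hc, e⟩ := h (A.subgroupOf H) ⟨g, hg⟩ (comap_mono hA) trivial (by
      rw [← map_le_map_iff_of_injective H.subtype_injective, map_cj, map_subgroupOf_eq_of_le hAH,
        map_subgroupOf_eq_of_le hT]
      exact hgA)
  refine ⟨n, ⟨n.2, hn⟩, c, ?_, congrArg Subtype.val e⟩
  have := (map_mem_centralizer_iff H.subtype_injective).2 hc
  rwa [map_subgroupOf_eq_of_le hAH] at this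

/-- In a `p`-stable group, `p` odd, `N(ZJ(S))` controls strong fusion. -/
theorem ctl_zj_of_pStable (hp2 : p ≠ 2) (h : IsNormalizerPStable p G) {S : Subgroup G} (hS : IsSyl p S ⊤) :
    Ctl (𝐍 (centerThompsonOf 0 S)) S ⊤ := by
  have := ctl_of_class (H4.isCharPFunctor_zjFun (p := p) (e := 0) (dvd_zero p)) (fun Y _ => IsNormalizerPStable p Y)
    (fun Y _ _ H h => pStable_subgroup h H)
    (fun Y _ _ h => pStable_quotient_coprime h _ (H1.coprime_card_pPrimeCore p Y))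
    (fun Y _ _ h hc => pStable_quotient_of_central' hp2 h _ (isPGroup_pCore p Y) hc)
    (fun Y _ _ h hc S hS => by
      rw [H4.inducedFunctor_zjFun]
      exact H4.zj_top hp2 (Or.inl rfl) hc (pStab_of_pStable h) hS.toSylow) h hS
  rwa [H4.inducedFunctor_zjFun] at this

theorem ctl_zj_of_pStable' (hp2 : p ≠ 2) {T H : Subgroup G} (h : IsNormalizerPStable p H) (hT : IsSyl p T H) :
    Ctl (H ⊓ 𝐍 (centerThompsonOf 0 T)) T H := by
  refine Ctl.of_subgroupOf hT.le ((ctl_zj_of_pStable hp2 h (subgroupOf_self H ▸ hT.subgroupOf le_rfl)).imp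
    fun n hn => ?_)
  have := (map_mem_normalizer_iff H.subtype_injective).2 hn
  rwa [H4.map_centerThompsonOf H.subtype_injective, map_subgroupOf_eq_of_le hT.le] at this

theorem exists_ctl_of_normal (hp2 : p ≠ 2) (h : IsNormalizerPStable p G) {S Q : Subgroup G} [Q.Normal]
    (hS : IsSyl p S ⊤) (hQ : Q ≤ S) (hc : ¬ S ⊓ 𝐂 Q ≤ Q) : ∃ W ≤ S, ¬ W ≤ Q ∧ Ctl (⊤ ⊓ 𝐍 W) S ⊤ := by
  set π := QuotientGroup.mk' Q with hπ
  set K := Q ⊔ 𝐂 Q with hK
  have hQp := hS.isP.to_le hQ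
  have hQK : Q ≤ K := le_sup_left
  have hT : IsSyl p (S ⊓ K) K := hS.inf_of_normal le_normalizer_of_normal le_top
  have hKp : ∀ a ∈ K, ∃ k : ℕ, a ^ p ^ k ∈ 𝐂 Q := fun a ha => by
    obtain ⟨q, hq, c, hc, rfl⟩ := (mem_sup_of_le_normalizer le_normalizer_of_normal).1 ha
    obtain ⟨k, hk⟩ := isPGroup_iff_mem.1 hQp q hq
    exact ⟨k, by rw [(show Commute q c from hc q hq).mul_pow, hk, one_mul]; exact pow_mem hc _⟩
  have hker : (π.subgroupMap K).ker = Q.subgroupOf K := by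
    ext x
    rw [MonoidHom.mem_ker, mem_subgroupOf, Subtype.ext_iff]
    exact QuotientGroup.eq_one_iff _
  have hst : IsNormalizerPStable p (K.map π) := by
    refine pStable_of_surjective hp2 (pStable_subgroup h K) (π.subgroupMap_surjective K) ?_ ?_
    · rw [hker]
      exact (isPGroup_subgroupOf_iff hQK).2 hQp
    · rw [hker, ← map_le_centralizer_map_iff K.subtype_injective, map_pResidualOf, map_subgroupOf_eq_of_le hQK,
        ← MonoidHom.range_eq_map, range_subtype]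
      exact pResidualOf_le_of_pow_mem hKp
  have hT' := hT.map π
  set Z := centerThompsonOf 0 ((S ⊓ K).map π) with hZ
  have hZT : Z ≤ (S ⊓ K).map π := H4.centerThompsonOf_le _ _
  have hcl := (ctl_zj_of_pStable' hp2 hst hT').sclosed hZT inf_le_right
  have hmap : (Z.comap π).map π = Z := map_comap_eq_self_of_surjective (QuotientGroup.mk'_surjective Q) Z
  have hW : Z.comap π ≤ S ⊓ K := le_of_map_mk'_le (le_inf hQ hQK) (hmap.le.trans hZT)
  have hcl' : SClosed (Z.comap π) S ⊤ := by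
    intro w hw g _ hg
    obtain ⟨k, hk, hn⟩ := hT.frattini_mem (g := g) (le_normalizer_of_normal (mem_top g))
    have h1 := conj_mem_of_mem_normalizer (H4.normalizer_le_normalizer_centerThompsonOf 0 _
      (map_le_normalizer_map π (zpowers_le.2 hn) (mem_map_of_mem π (mem_zpowers _)))) (mem_comap.1 hw)
    have e : π (g * w * g⁻¹) = (π k)⁻¹ * (π (k * g) * π w * (π (k * g))⁻¹) * (π k)⁻¹⁻¹ := by
      simp only [map_mul, map_inv]; group
    rw [mem_comap, e]
    exact hcl _ h1 _ (inv_mem (mem_map_of_mem π hk))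
      (e ▸ mem_map_of_mem π ⟨hg, Normal.conj_mem inferInstance w (hW hw).2 g⟩)
  obtain ⟨n, hn⟩ := exists_ic_eq_bot' hQp le_normalizer_of_normal hKp
  refine ⟨Z.comap π, hW.trans inf_le_left, fun hle => hc ?_, ctl_of_series hS
    (Z := fun i => Nat.casesOn i (Z.comap π) (iterCommutator Q K)) (n := n + 1) hn (hW.trans inf_le_left) ?_ ?_⟩
  · refine (inf_le_inf_left S (le_sup_right : 𝐂 Q ≤ K)).trans (map_mk'_eq_bot.1 ?_)
    by_contra hne
    exact H4.centerThompsonOf_ne_bot hT'.isP hne (by norm_num) (hmap.symm.trans (map_mk'_eq_bot.2 hle))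
  · rintro (_ | i)
    · exact hcl'
    · exact fun z hz g _ _ => conj_mem_of_mem_normalizer
        (le_normalizer_ic le_normalizer_of_normal le_normalizer_of_normal i (mem_top g)) hz
  · rintro (_ | i)
    · change ⁅Z.comap π, Z.comap π⁆ ≤ Q
      rw [← map_mk'_eq_bot, map_commutator, hmap, commutator_eq_bot_iff_le_centralizer]
      exact le_centralizer_iff_isMulCommutative.2 (H4.centerThompsonOf_comm _ _)
    · rw [commutator_comm]
      exact commutator_mono le_rfl (hW.trans inf_le_right)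

/-- The fusion system of a `p`-stable group, `p` odd, is constrained. -/
theorem centric_opF_of_pStable (hp2 : p ≠ 2) (h : IsNormalizerPStable p G) {S : Subgroup G} (hS : IsSyl p S ⊤) :
    S ⊓ 𝐂 (opF S ⊤) ≤ opF S ⊤ := by
  by_contra hc
  have hQ := opF_le S ⊤
  have h1 := ctl_opF S ⊤
  have hn := h1.le_normalizer hQ le_top
  set Q := opF S ⊤
  obtain ⟨W, hW, hne, h2⟩ := exists_ctl_of_normal hp2 (pStable_subgroup h (𝐍 Q)) (Q := Q.subgroupOf (𝐍 Q))
    (subgroupOf_self (𝐍 Q) ▸ (hS.mono hn le_top).subgroupOf le_rfl) (comap_mono hQ) fun h => hc fun x hx => by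
      refine h (mem_inf.2 ⟨(hx.1 : (⟨x, hn hx.1⟩ : 𝐍 Q) ∈ _), ?_⟩)
      rw [← map_mem_centralizer_iff (𝐍 Q).subtype_injective, map_subgroupOf_eq_of_le le_normalizer]
      exact hx.2
  have h3 : Ctl (𝐍 Q ⊓ 𝐍 (W.map (𝐍 Q).subtype)) S (𝐍 Q) := Ctl.of_subgroupOf hn (h2.imp fun n hn =>
    (map_mem_normalizer_iff (𝐍 Q).subtype_injective).2 hn.2)
  rw [top_inf_eq] at h1
  refine hne (map_le_iff_le_comap.1 (le_opF (map_le_iff_le_comap.2 hW) ((h1.trans h3).imp ?_)))
  exact inf_le_inf_right _ le_top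

end stable

end H27
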