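import Cfsg.Agent.H27.FSQd
import Cfsg.Agent.H27.PStab

/-! `p`-stable fusion systems: `Unst p M Q` (a group of automorphisms of `Q` induced by `M`-maps has a quadratic element
outside its `O_p`), `PS F p` (`ps_iff`), passage to subsystems and normalizers, comparison with `p`-stable groups
(`ps_group_iff`); `fnormal_of_ctl`. -/

namespace H27

open Subgroup H20 Cfsg Cfsg.FusionSystem Equiv
open scoped commutatorElement

variable {Ω : Type*} [Group Ω] {S T R Q : Subgroup Ω} {F : FusionSystem S} {E : FusionSystem T} {p : ℕ}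
  {σ τ : Perm Ω} {M M' : Perm Ω → Prop}

/-- some group of automorphisms of `Q` induced by `M`-maps has a quadratic element outside its `O_p` -/
def Unst (p : ℕ) (M : Perm Ω → Prop) (Q : Subgroup Ω) : Prop :=
  ∃ A ≤ Supp Q, (∀ α ∈ A, ∃ τ, M τ ∧ ∀ x ∈ Q, τ x = α x) ∧
    ∃ χ ∈ A, (∀ a ∈ Q, χ (a⁻¹ * χ a) = a⁻¹ * χ a) ∧ χ ∉ Op p A

/-- `p`-stable fusion systems -/
def PS (F : FusionSystem S) (p : ℕ) : Prop := ∀ Q, ¬ Unst p (Mor F Q) Q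

theorem Unst.imp' (h : Unst p M Q) (h' : ∀ σ, M σ → σ ∈ Stab Q → ∃ τ, M' τ ∧ ∀ x ∈ Q, τ x = σ x) : Unst p M' Q := by
  obtain ⟨A, h1, h2, h3⟩ := h
  refine ⟨A, h1, fun α hα => ?_, h3⟩
  obtain ⟨σ, h4, h5⟩ := h2 α hα
  obtain ⟨τ, h6, h7⟩ := h' σ h4 (Stab_of_eqOn (Supp_le_Stab (h1 hα)) h5)
  exact ⟨τ, h6, fun x hx => (h7 x hx).trans (h5 x hx)⟩

theorem Unst.imp (h : Unst p M Q) (h' : ∀ σ, M σ → σ ∈ Stab Q → M' σ) : Unst p M' Q :=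
  h.imp' fun σ h1 h2 => ⟨σ, h' σ h1 h2, fun _ _ => rfl⟩

theorem Unst.exists (h : Unst p M Q) : ∃ σ, M σ := by
  obtain ⟨A, -, h2, -⟩ := h
  exact (h2 1 (one_mem A)).imp fun _ h => h.1

theorem Unst.conj (h : Unst p M Q) (hτ : HomOn Q τ) (h' : ∀ σ, M σ → σ ∈ Stab Q → M' (τ * σ * τ⁻¹)) :
    Unst p M' (img Q τ) := by
  obtain ⟨A, h1, h2, χ, h3, h4, h5⟩ := h
  refine ⟨cjs τ A, hτ.cjs_Supp ▸ cjs_mono h1, fun α hα => ?_, τ * χ * τ⁻¹, conj_mem_cjs.2 h3, fun a ha => ?_,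
    by rwa [← cjs_Op, conj_mem_cjs]⟩
  · obtain ⟨σ, h6, h7⟩ := h2 _ (mem_cjs.1 hα)
    refine ⟨_, h' σ h6 (Stab_of_eqOn (Supp_le_Stab (h1 (mem_cjs.1 hα))) h7), fun x hx => ?_⟩
    simp only [Perm.mul_apply, h7 _ (hτ.mem_img_perm.1 hx), pm_apply_inv]
  · obtain ⟨b, hb, rfl⟩ := hτ.mem_img.1 ha
    have hs := stab_mem (Supp_le_Stab (h1 h3)) hb
    simp only [Perm.mul_apply, pm_inv_apply]
    rw [← hτ.inv hb, ← hτ.mul (inv_mem hb) hs, pm_inv_apply, h4 b hb]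

theorem unst_iff (hQ : Q ≤ S) : Unst p (Mor F Q) Q ↔
    ∃ χ ∈ AutF F Q, (∀ a ∈ Q, χ (a⁻¹ * χ a) = a⁻¹ * χ a) ∧ χ ∉ Op p (AutF F Q) := by
  refine ⟨?_, fun h => ⟨_, AutF_le_Supp, fun α hα => ⟨α, AutF_mor hQ hα, fun _ _ => rfl⟩, h⟩⟩
  rintro ⟨A, h1, h2, χ, h3, h4, h5⟩
  have hA : A ≤ AutF F Q := fun α hα => by
    obtain ⟨τ, h6, h7⟩ := h2 α hα
    exact (mem_AutF hQ).2 ⟨h6.congr fun x hx => (h7 x hx).symm, h1 hα⟩
  exact ⟨χ, hA h3, h4, fun h => h5 (Op_inf_le hA ⟨h, h3⟩)⟩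

theorem PS.sub (h : PS F p) (h' : Sub E F) : PS E p := fun Q hQ => h Q (hQ.imp fun _ h _ => h' _ _ h)

theorem ps_of_fn [Finite S] (h : ∀ Q, F.IsFullyNormalized Q → ¬ Unst p (Mor F Q) Q) : PS F p := fun Q hQ => by
  obtain ⟨τ, h1, h2⟩ := exists_fn F (hQ.exists.elim fun _ h => h.le)
  exact h _ h2 (hQ.conj h1.hom fun σ h3 h4 => (mor_conj_stab h1 h3 h4).1)

theorem quad_iff {χ : MulAut Q} : (∀ a : Q, χ a⁻¹ * a * χ a⁻¹ * χ (χ a) = 1) ↔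
    ∀ a ∈ Q, ext Q χ (a⁻¹ * ext Q χ a) = a⁻¹ * ext Q χ a := by
  rw [Subtype.forall']
  refine forall_congr' fun a => ?_
  rw [ext_apply_coe, ← coe_inv, ← coe_mul, ext_apply_coe, Subtype.coe_inj, map_mul, map_inv, mul_assoc, mul_assoc,
    inv_mul_eq_one, eq_inv_mul_iff_mul_eq, eq_comm]

theorem ps_iff [Finite S] : (∀ Q : Subgroup Ω, F.IsFullyNormalized Q → ∀ χ : MulAut Q, χ ∈ F.autGroup Q →
    (∀ a : Q, χ a⁻¹ * a * χ a⁻¹ * χ (χ a) = 1) →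
      χ ∈ ((pCore p (F.autGroup Q)).map (F.autGroup Q).subtype : Subgroup (MulAut Q))) ↔ PS F p := by
  refine ⟨fun h => ps_of_fn fun Q hQ hu => ?_, fun h Q hQ χ h1 h2 => by_contra fun h3 => h Q ((unst_iff hQ.1).2
    ⟨_, ext_mem_AutF.2 h1, quad_iff.1 h2, mt mem_pCore_iff.2 h3⟩)⟩
  obtain ⟨_, ⟨χ, h1, rfl⟩, h2, h3⟩ := (unst_iff hQ.1).1 hu
  exact h3 (mem_pCore_iff.1 (h Q hQ χ h1 (quad_iff.2 h2)))

theorem not_unst_of_cyclic (hQ : IsPGroup p Q) (hc : IsCyclic Q) : ¬ Unst p (fun σ => HomOn Q σ) Q := by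
  rintro ⟨A, h1, h2, χ, h3, h4, h5⟩
  obtain ⟨g, rfl⟩ := (Subgroup.isCyclic_iff_exists_zpowers_eq_top Q).1 hc
  have hh : ∀ α ∈ A, HomOn (zpowers g) α := fun α hα => by
    obtain ⟨τ, h6, h7⟩ := h2 α hα
    exact h6.congr h7
  have hg := mem_zpowers g
  have he : ∀ α ∈ A, ∀ β ∈ A, α g = β g → α = β := fun α hα β hβ e => eq_of_Supp (h1 hα) (h1 hβ) (by
    rintro _ ⟨n, rfl⟩
    rw [(hh α hα).zpow hg, (hh β hβ).zpow hg, e])
  have hp : ∀ n : ℕ, (χ ^ n) g = g * (g⁻¹ * χ g) ^ n := fun n => by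
    have hm := mul_mem (inv_mem hg) (stab_mem (Supp_le_Stab (h1 h3)) hg)
    induction n with
    | zero => simp
    | succ n ih =>
      rw [pow_succ', Perm.mul_apply, ih, (hh χ h3).mul hg (pow_mem hm n), (hh χ h3).pow hm, h4 g hg, pow_succ', ← mul_assoc,
        mul_inv_cancel_left]
  obtain ⟨k, hk⟩ := pgroup_iff.1 hQ _ (mul_mem (inv_mem hg) (stab_mem (Supp_le_Stab (h1 h3)) hg))
  refine h5 (le_Op (zpowers_le.2 h3) (pgroup_zpowers (k := k) (he _ (pow_mem h3 _) 1 (one_mem A) (by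
    rw [hp, hk, mul_one]; rfl))) (fun α hα => centralizer_le_normalizer' _ ?_) (mem_zpowers χ))
  rintro _ ⟨n, rfl⟩
  refine (Commute.zpow_left (he _ (mul_mem h3 hα) _ (mul_mem hα h3) ?_) n).eq
  obtain ⟨a, ha⟩ := stab_mem (Supp_le_Stab (h1 hα)) hg
  obtain ⟨b, hb⟩ := stab_mem (Supp_le_Stab (h1 h3)) hg
  simp only at ha hb
  rw [Perm.mul_apply, Perm.mul_apply, ← ha, (hh χ h3).zpow hg, ← hb, (hh α hα).zpow hg, ← ha, ← zpow_mul, ← zpow_mul,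
    mul_comm]

theorem Unst.kn {D : FusionSystem T} (hD : IsKN F R (Stab R) D) (hR : R ≤ S) (hQ : Q ≤ R)
    (h : Unst p (fun σ => Mor F R σ ∧ σ ∈ Stab R) Q) : ¬ PS D p := fun h' => h' Q (h.imp fun _ h1 _ => Mor.mono
  ((hD.mor_iff_of_le (kd_Stab R) le_rfl (by rw [hD.1, NK_Stab]; exact le_nIn hR)).2 h1) hQ)

theorem ps_of_noncyclic [Finite S] (hS : IsPGroup p S) (h : ∀ R, F.IsFullyNormalized R → ¬ IsCyclic R →
    ∀ D : FusionSystem (nIn S R), IsKN F R (Stab R) D → PS D p) : PS F p := ps_of_fn fun Q hQ hu => by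
  obtain ⟨D, hD⟩ := exists_isKN_Stab F hQ.1
  exact (hu.imp fun _ h1 h2 => ⟨h1, h2⟩).kn hD hQ.1 le_rfl (h Q hQ
    (fun hc => not_unst_of_cyclic (hS.to_le hQ.1) hc (hu.imp fun _ h _ => h.hom)) D hD)

theorem ps_of_crfn [Finite S] [Fact p.Prime] (hS : IsPGroup p S) (hF : F.IsSaturated p)
    (h : ∀ R, F.IsFullyNormalized R → F.IsCentric R → F.IsRadical p R →
      ∀ D : FusionSystem (nIn S R), IsKN F R (Stab R) D → PS D p) : PS F p := fun V hV => by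
  obtain ⟨R, h1, h2, h3, V, h4, h5⟩ := H27.exists_crfn hS hF
    (fun R => ∃ V ≤ R, Unst p (fun σ => Mor F R σ ∧ σ ∈ Stab R) V)
    (fun R τ ⟨V, h1, h2⟩ h3 => ⟨_, img_mono _ h1, h2.conj (h3.hom.mono h1) fun σ h4 _ => mor_conj_stab h3 h4.1 h4.2⟩)
    (fun R R' h1 _ h2 ⟨V, h3, h4⟩ => ⟨V, h3.trans h1, h4.imp' fun σ h5 _ =>
      (h2 σ h5.1 h5.2).imp fun τ h => ⟨⟨h.1, h.2.1⟩, fun x hx => h.2.2 x (h3 hx)⟩⟩)
    V (hV.exists.elim fun _ h => h.le) ⟨V, le_rfl, hV.imp fun σ h1 h2 => ⟨h1, h2⟩⟩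
  obtain ⟨D, hD⟩ := exists_isKN_Stab F h1.1
  exact h5.kn hD h1.1 h4 (h R h1 h2 h3 D hD)

section group

variable [Finite Ω] [Fact p.Prime]

theorem mem_opMod_iff_cr {g : Ω} (hg : g ∈ normalizer (Q : Set Ω)) :
    g ∈ H4.opMod p (normalizer (Q : Set Ω)) (centralizer (Q : Set Ω)) ↔ cr Q g ∈ Op p (AutK ⊤ Q) := by
  have hf := homOn_cr Q
  have hle := H4.opMod_le p (normalizer (Q : Set Ω)) (centralizer (Q : Set Ω))
  refine ⟨fun h => le_Op (img_le_iff.2 fun x hx => cr_mem_AutK (mem_top _) (hle hx)) (pgroup_iff.2 fun x hx => ?_)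
    (fun x hx => ?_) (mem_img_of_mem _ h), fun h => H4.le_opMod (D := hf.pre (Op p (AutK ⊤ Q))) (hf.pre_le _)
      (fun x hx => mem_normalizer_of_conj fun y hy => ⟨mul_mem (mul_mem hx hy.1) (inv_mem hx), ?_⟩)
      (H26.pResidualOf_le_of_pow_mem fun x hx => ?_) ⟨hg, h⟩⟩
  · obtain ⟨y, hy, rfl⟩ := (hf.mono hle).mem_img.1 hx
    obtain ⟨k, hk⟩ := H4.exists_pow_mem_of_mem_opMod (H26.normalizer_le_normalizer_centralizer _) hy
    exact ⟨k, by rw [← hf.pow (hle hy), cr_eq_one_iff (pow_mem (hle hy) _)]; exact hk⟩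
  · obtain ⟨y, -, hy, rfl⟩ := mem_AutK'.1 hx
    have := (hf.mono hle).finite_img
    refine mem_normalizer_of_conj fun z hz => ?_
    obtain ⟨w, hw, rfl⟩ := (hf.mono hle).mem_img.1 hz
    rw [← hf.conj hy (hle hw)]
    exact mem_img_of_mem _ (conj_mem_of_mem_normalizer (H4.le_normalizer_opMod p _ _ hy) hw)
  · rw [hf.conj hx hy.1]
    exact conj_mem_of_mem_normalizer (le_normalizer_Op (cr_mem_AutK (mem_top _) hx)) hy.2
  · obtain ⟨k, hk⟩ := pgroup_iff.1 Op_pgroup _ hx.2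
    exact ⟨k, by rwa [← cr_eq_one_iff (pow_mem hx.1 _), hf.pow hx.1]⟩

omit [Finite Ω] in
theorem quad_cr_iff {g : Ω} (hg : g ∈ normalizer (Q : Set Ω)) :
    (∀ a ∈ Q, cr Q g (a⁻¹ * cr Q g a) = a⁻¹ * cr Q g a) ↔ ⁅⁅Q, zpowers g⁆, zpowers g⁆ = ⊥ := by
  have e : ∀ a ∈ Q, cr Q g (a⁻¹ * cr Q g a) = a⁻¹ * cr Q g a ↔ ⁅a⁻¹, g⁆ ∈ centralizer (zpowers g : Set Ω) :=
    fun a ha => by
    rw [cr_apply hg (mul_mem (inv_mem ha) (stab_mem (cr_mem_Stab Q g) ha)), inv_mul_cr hg ha,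
      H4.mem_centralizer_zpowers, mul_inv_eq_iff_eq_mul]
  rw [commutator_eq_bot_iff_le_centralizer]
  refine ⟨fun h => H4.commutator_zpowers_le' (fun a ha => ?_) (le_normalizer fun _ ⟨n, e⟩ => ?_),
    fun h a ha => (e a ha).2 (h (commutator_mem_commutator (inv_mem ha) (mem_zpowers g)))⟩
  · simpa using (e _ (inv_mem ha)).1 (h _ (inv_mem ha))
  · exact e ▸ (Commute.refl g).zpow_left n

theorem ps_group_iff (hS : H26.IsSyl p S ⊤) : PS (groupFusionSystem S) p ↔ IsNormalizerPStable p Ω := by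
  rw [isNormalizerPStable_iff]
  refine ⟨fun h P hP g hg hq => ?_, fun h Q hu => ?_⟩
  · obtain ⟨k, -, hk⟩ := hS.exists_cj_le hP le_top
    by_contra hn
    refine h _ ((unst_iff hk).2 ⟨cr (P.map (MulAut.conj k).toMonoidHom) (k * g * k⁻¹), ?_⟩)
    have hg' : k * g * k⁻¹ ∈ normalizer (P.map (MulAut.conj k).toMonoidHom : Set Ω) := by rwa [← H26.cj_normalizer, H26.conj_mem_cj_iff]
    rw [AutF_group hk, quad_cr_iff hg', ← mem_opMod_iff_cr hg', ← H26.cj_zpowers, ← H26.cj_commutator,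
      ← H26.cj_commutator, hq, H26.cj_bot, ← H26.cj_normalizer, ← H26.cj_centralizer, ← H4.cj_opMod,
      H26.conj_mem_cj_iff]
    exact ⟨cr_mem_AutK (mem_top _) hg', rfl, hn⟩
  · have hQ : Q ≤ S := hu.exists.elim fun _ h => h.le
    obtain ⟨χ, h1, h2, h3⟩ := (unst_iff hQ).1 hu
    rw [AutF_group hQ] at h1 h3
    obtain ⟨g, -, hg, rfl⟩ := mem_AutK'.1 h1
    exact h3 ((mem_opMod_iff_cr hg).1 (h Q (hS.isP.to_le hQ) g hg ((quad_cr_iff hg).1 h2)))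

theorem fnormal_of_ctl (hQ : Q ≤ S) (h : Ctl (normalizer (Q : Set Ω)) S ⊤) : (groupFusionSystem S).IsNormal Q := by
  refine normal_iff.2 ⟨hQ, fun P σ hσ => ?_⟩
  obtain ⟨h1, h2, g, hg⟩ := mor_group_iff.1 hσ
  obtain ⟨n, hn, -, e⟩ := (h P g h1 trivial (fun y hy => by
    obtain ⟨x, hx, rfl⟩ := H26.mem_cj'.1 hy
    exact hg x hx ▸ h2 x hx)).cj_eq
  have e' : ∀ x ∈ P, cj n x = σ x := fun x hx => by rw [hg x hx, e x hx, cj_apply]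
  exact ⟨cj n, cj_mem_Stab.2 hn, mor_group_iff.2 ⟨sup_le h1 hQ, (homOn_cj _ n).mem_of_sup
    (fun x hx => e' x hx ▸ h2 x hx) fun x hx => hQ (conj_mem_of_mem_normalizer hn hx), n, fun _ _ => rfl⟩, e'⟩

end group

end H27
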