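import Cfsg.Agent.H4.ZJ
import Cfsg.Agent.H27.Normal
import Cfsg.Agent.H26.FF4

/-! Reduction for the `F(p)` theorem: if `Z(J(S))` is not strongly closed there is a minimal parabolic-like `P` with a
normal `p`-subgroup `W = ⟨(Z(J(S)) ∩ W)^P⟩` and an element outside `O_p(P)` quadratic on `W/W'` (`exists_local`). -/

namespace H27

open Subgroup H26 H4 Cfsg

variable {G : Type*} [Group G] [Finite G] {p : ℕ} [hp : Fact p.Prime]

theorem zj_wd {K : Subgroup G} {t : ℕ} (h : ∀ S B, IsSyl p S K → B ≤ S → t < Nat.card ↥(S ⊓ 𝐍 B) →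
    K ⊓ 𝐍 B ≤ 𝐍 (centerThompsonOf 0 S ⊓ B)) (T : Subgroup G) : t ≤ Nat.card T → ∀ S S', IsSyl p S K → IsSyl p S' K →
      T ≤ S → T ≤ S' → centerThompsonOf 0 S ⊓ T = centerThompsonOf 0 S' ⊓ T := by
  refine subgroup_card_induction_down (L := ⊤) (Q := fun T => t ≤ Nat.card T → ∀ S S', IsSyl p S K → IsSyl p S' K →
      T ≤ S → T ≤ S' → centerThompsonOf 0 S ⊓ T = centerThompsonOf 0 S' ⊓ T) T le_top fun T _ ih ht S S' hS hS' h1 h2 => ?_
  rcases h1.eq_or_lt with rfl | h1'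
  · rw [hS.eq_of_le hS'.isP h2 hS'.le]
  rcases h2.eq_or_lt with rfl | h2'
  · rw [hS'.eq_of_le hS.isP h1 hS.le]
  have l1 := lt_inf_normalizer hS.isP h1'
  have l2 := lt_inf_normalizer hS'.isP h2'
  obtain ⟨R, hR, hR1⟩ := exists_isSyl_ge (hS.isP.to_le (inf_le_left : S ⊓ 𝐍 T ≤ S)) (inf_le_inf_right _ hS.le)
  obtain ⟨S'', hS'', hR2⟩ := exists_isSyl_ge hR.isP (hR.le.trans inf_le_left)
  obtain ⟨k, hk, hR3⟩ := hR.exists_le_cj (hS'.isP.to_le (inf_le_left : S' ⊓ 𝐍 T ≤ S')) (inf_le_inf_right _ hS'.le)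
  have e1 := ih _ l1 le_top (ht.trans (card_lt_of_lt l1).le) S S'' hS hS'' inf_le_left (hR1.trans hR2)
  have e2 := ih _ l2 le_top (ht.trans (card_lt_of_lt l2).le) S' _ hS' (hS''.cj_of_mem hk.1) inf_le_left
    (hR3.trans (cj_mono k hR2))
  have e3 := congrArg (· ⊓ T) e1
  have e4 := congrArg (· ⊓ T) e2
  simp only [inf_assoc, inf_eq_right.2 (l1.le.trans inf_le_right), inf_eq_right.2 h1, inf_eq_right.2 h2] at e3 e4
  rw [e4, ← cj_centerThompsonOf, ← cj_eq_iff.2 hk.2, ← cj_inf, ← e3, cj_eq_iff.2 hk.2,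
    cj_eq_iff.2 (h S T hS h1 (ht.trans_lt (card_lt_of_lt l1)) hk)]

theorem exists_fail {K S₀ : Subgroup G} (hS : IsSyl p S₀ K) (h : ¬ SClosed (centerThompsonOf 0 S₀) S₀ K) :
    ∃ S B, IsSyl p S K ∧ B ≤ S ∧ IsSyl p (S ⊓ 𝐍 B) (K ⊓ 𝐍 B) ∧ ¬ K ⊓ 𝐍 B ≤ 𝐍 (centerThompsonOf 0 S ⊓ B) ∧
      ∀ X ≤ S, S ⊓ 𝐍 B < S ⊓ 𝐍 X → K ⊓ 𝐍 X ≤ 𝐍 (centerThompsonOf 0 S ⊓ X) := by
  have : Finite (Subgroup G) := Finite.of_injective _ SetLike.coe_injective
  obtain ⟨⟨S, B⟩, ⟨h1, h2, h3⟩, hmax⟩ := Set.exists_max_image {x : Subgroup G × Subgroup G | IsSyl p x.1 K ∧ x.2 ≤ x.1 ∧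
      ¬ K ⊓ 𝐍 x.2 ≤ 𝐍 (centerThompsonOf 0 x.1 ⊓ x.2)} (fun x => Nat.card ↥(x.1 ⊓ 𝐍 x.2)) (Set.toFinite _) (by
    by_contra hc
    refine h fun z hz g hg hgz => ?_
    have := zj_wd (t := 0) (fun S B h1 h2 _ => by_contra fun h3 => hc ⟨(S, B), h1, h2, h3⟩) (zpowers (g * z * g⁻¹))
      (Nat.zero_le _) S₀ _ hS (hS.cj_of_mem hg) (zpowers_le.2 hgz)
      (zpowers_le.2 (conj_mem_cj g (centerThompsonOf_le 0 S₀ hz)))
    exact (this.ge ⟨cj_centerThompsonOf (e := 0) g S₀ ▸ conj_mem_cj g hz, mem_zpowers _⟩).1)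
  replace hmax : ∀ S' B', IsSyl p S' K → B' ≤ S' → Nat.card ↥(S ⊓ 𝐍 B) < Nat.card ↥(S' ⊓ 𝐍 B') →
      K ⊓ 𝐍 B' ≤ 𝐍 (centerThompsonOf 0 S' ⊓ B') := fun S' B' h4 h5 h6 =>
    by_contra fun h7 => h6.not_ge (hmax (S', B') ⟨h4, h5, h7⟩)
  refine ⟨S, B, h1, h2, ?_, h3, fun X hX h4 => hmax S X h1 hX (card_lt_of_lt h4)⟩
  obtain ⟨R, hR, hR1⟩ := exists_isSyl_ge (h1.isP.to_le (inf_le_left : S ⊓ 𝐍 B ≤ S)) (inf_le_inf_right _ h1.le)
  rcases hR1.eq_or_lt with e | hlt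
  · exact e ▸ hR
  obtain ⟨S', hS', hR2⟩ := exists_isSyl_ge hR.isP (hR.le.trans inf_le_left)
  have hB : B ≤ S ⊓ 𝐍 B := le_inf h2 le_normalizer
  have e1 := congrArg (· ⊓ B) (zj_wd hmax _ le_rfl S S' h1 hS' inf_le_left (hR1.trans hR2))
  simp only [inf_assoc, inf_eq_right.2 (le_normalizer : B ≤ 𝐍 B), inf_eq_right.2 h2] at e1
  exact absurd (e1 ▸ hmax S' B hS' (hB.trans (hR1.trans hR2)) (card_lt_of_lt (hlt.trans_le
    (le_inf hR2 (hR.le.trans inf_le_right))))) h3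

omit [Finite G] hp in
theorem cj_le_of_words {P N T Q W D : Subgroup G} (hWQ : W ≤ Q) (hQT : Q ≤ T) (hP : P ≤ 𝐍 Q) (hN : N ≤ 𝐍 T)
    (hPD : P ≤ 𝐍 D) (hND : N ≤ 𝐍 D) (hT : T ≤ 𝐍 W) (hD : D = ⁅W, W⁆)
    (hq : ∀ a ∈ T, ⁅⁅W, zpowers a⁆, zpowers a⁆ ≤ D → a ∈ Q) {g : G} (hg : g ∈ P ⊔ N) : cj g W ≤ Q := by
  have key : ∀ n : ℕ, ∀ l : List G, l.length ≤ n → (∀ x ∈ l, x ∈ P ∨ x ∈ N) → cj l.prod W ≤ Q := fun n => by
    induction n with
    | zero => intro l hl _; rw [List.length_eq_zero_iff.1 (Nat.le_zero.1 hl), List.prod_nil, cj_one]; exact hWQ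
    | succ n ih =>
      have h1 : ∀ l : List G, l.length ≤ n + 1 → (∀ x ∈ l, x ∈ P ∨ x ∈ N) → cj l.prod W ≤ T := fun l hl h => by
        rcases l with _ | ⟨x, l⟩
        · rw [List.prod_nil, cj_one]; exact hWQ.trans hQT
        have := ih l (by simpa using hl) fun y hy => h y (List.mem_cons_of_mem x hy)
        rw [List.prod_cons, cj_mul]
        rcases h x List.mem_cons_self with h2 | h2
        exacts [(cj_le_of_mem_normalizer this (hP h2)).trans hQT, cj_le_of_mem_normalizer (this.trans hQT) (hN h2)]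
      intro l hl h a ha
      have h2 : cj l.prod⁻¹ W ≤ T := by
        rw [List.prod_inv_reverse]
        refine h1 _ (by simpa using hl) fun x hx => ?_
        obtain ⟨y, hy, rfl⟩ := List.mem_map.1 (List.mem_reverse.1 hx)
        exact (h y hy).imp inv_mem inv_mem
      have h3 : W ≤ 𝐍 (cj l.prod W) := by rw [← cj_normalizer, le_cj_iff]; exact h2.trans hT
      have h4 : l.prod ∈ 𝐍 D := list_prod_mem fun x hx => (h x hx).elim (@hPD x) (@hND x)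
      refine hq a (h1 l hl h ha) ?_
      rw [← cj_eq_iff.2 h4, hD, cj_commutator]
      exact commutator_mono ((commutator_mono le_rfl (zpowers_le.2 ha)).trans (commutator_le_of_le_normalizer' h3))
        (zpowers_le.2 ha)
  have h1 : g ∈ (closure ((P : Set G) ∪ N)).toSubmonoid := by rwa [Subgroup.closure_union, Subgroup.closure_eq, Subgroup.closure_eq]
  rw [closure_toSubmonoid] at h1
  obtain ⟨l, hl, rfl⟩ := Submonoid.exists_list_of_mem_closure h1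
  refine key _ l le_rfl fun x hx => ?_
  rcases hl x hx with h | h
  · exact h
  · exact Or.imp inv_mem_iff.1 inv_mem_iff.1 h

theorem exists_local (hp2 : p ≠ 2) {K S₀ : Subgroup G} (hS₀ : IsSyl p S₀ K)
    (h : ¬ SClosed (centerThompsonOf 0 S₀) S₀ K) :
    ∃ (S P T W : Subgroup G) (a : G), IsSyl p S K ∧ P ≤ K ∧ T ≤ S ∧ IsSyl p T P ∧ W ≤ T ∧ P ≤ 𝐍 W ∧
      UMax T (P ⊓ 𝐍 (centerThompsonOf 0 S ⊓ W)) P ∧ ncl (centerThompsonOf 0 S ⊓ W) P = W ∧ a ∈ T ∧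
      a ∉ pCoreOf p P ∧ ⁅⁅W, zpowers a⁆, zpowers a⁆ ≤ ⁅W, W⁆ := by
  obtain ⟨S, B, hS, hBS, hT, hf, hmax⟩ := exists_fail hS₀ h
  set T := S ⊓ 𝐍 B
  set Z := centerThompsonOf 0 S with hZ
  have hTS : T ≤ S := inf_le_left
  obtain ⟨P, hP, ⟨hTP, hPf⟩, hPm⟩ := exists_minimal_le (Q := fun X => T ≤ X ∧ ¬ X ≤ 𝐍 (Z ⊓ B)) (K ⊓ 𝐍 B) ⟨hT.le, hf⟩
  obtain ⟨W, hWB, ⟨hPW, hWf⟩, hWm⟩ := exists_minimal_le (Q := fun X => P ≤ 𝐍 X ∧ ¬ P ≤ 𝐍 (Z ⊓ X)) B
    ⟨hP.trans inf_le_right, hPf⟩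
  replace hT := hT.mono hTP hP
  have hWT : W ≤ T := hWB.trans (le_inf hBS le_normalizer)
  have hSZ : S ≤ 𝐍 Z := le_normalizer_centerThompsonOf 0 S
  have hW : IsPGroup p W := hT.isP.to_le hWT
  have hncl : ncl (Z ⊓ W) P = W := hWm _ (ncl_le inf_le_right hPW) ⟨le_normalizer_ncl _ _, by
    rwa [le_antisymm (inf_le_inf_left Z (ncl_le inf_le_right hPW)) (le_inf inf_le_left (le_ncl _ _))]⟩
  have hbot : W ≠ ⊥ := fun e => hWf (by rw [e, inf_bot_eq, normalizer_bot']; exact le_top)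
  have hD : P ≤ 𝐍 ⁅W, W⁆ := le_normalizer_commutator hPW hPW
  have hZD : P ≤ 𝐍 (Z ⊓ ⁅W, W⁆) := by_contra fun hc =>
    (commutator_lt_of_isPGroup hW hW le_normalizer hbot).ne (hWm _ (commutator_le_self W) ⟨hD, hc⟩)
  have hDZ : ⁅W, W⁆ ≤ Z := by
    refine le_trans ?_ (inf_le_left : Z ⊓ ⁅W, W⁆ ≤ Z)
    conv_lhs => enter [1]; rw [← hncl]
    exact commutator_ncl_le (le_inf ((commutator_mono inf_le_left le_rfl).trans (commutator_le_of_le_normalizer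
      (hWT.trans (hTS.trans hSZ)))) (commutator_mono inf_le_right le_rfl)) hPW hZD
      (inf_le_right.trans (hWT.trans (hTP.trans hZD)))
  refine (em _).elim id fun hc => ?_
  have hq : ∀ a ∈ T, ⁅⁅W, zpowers a⁆, zpowers a⁆ ≤ ⁅W, W⁆ → a ∈ pCoreOf p P := fun a ha h1 => by_contra fun h2 =>
    hc ⟨S, P, T, W, a, hS, hP.trans inf_le_left, hTS, hT, hWT, hPW, ⟨le_inf hTP (le_normalizer_inf (hTS.trans hSZ)
      (hTP.trans hPW)), lt_of_le_of_ne inf_le_left fun e => hWf (e.ge.trans inf_le_right), fun X h3 h4 => by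
        have h5 : X ≤ 𝐍 (Z ⊓ B) := by_contra fun h5 => h4.ne (hPm X h4.le ⟨h3, h5⟩)
        have h6 := le_normalizer_inf h5 (h4.le.trans hPW)
        rw [inf_assoc, inf_eq_right.2 hWB] at h6
        exact le_inf h4.le h6⟩, hncl, ha, h2, h1⟩
  set Q := pCoreOf p P
  have hQT : Q ≤ T := hT.pCoreOf_le
  have hPQ : P ≤ 𝐍 Q := le_normalizer_pCoreOf p P
  refine absurd (?_ : P ≤ 𝐍 (Z ⊓ W)) hWf
  by_cases hJ : thompsonSubgroupOf 0 S ≤ T
  · rw [← centerThompsonOf_eq_of_le hJ hTS] at hZ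
    have hAL : ∀ A ∈ MaxEA 0 T, W ≤ 𝐍 A → A ≤ Q := fun A hA h a ha => hq a (hA.1 ha) ((quadratic_zpowers
      (commutator_eq_bot_iff_le_centralizer.2 ((commutator_le_of_le_normalizer' h).trans
        (comm_le_centralizer (MaxEA.comm hA)))) ha).le.trans bot_le)
    have hJQ : thompsonSubgroupOf 0 T ≤ Q := by
      refine thompsonOf_le_iff.2 fun U hU => hAL U hU ?_
      obtain ⟨A, hA, -, h2, -, h3⟩ := exists_maxEA_normalized (Or.inl rfl) hT.isP le_rfl le_normalizer hWT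
        (hTP.trans hPW) (fun w hw => eq_one_of_sq_of_isPGroup hp2 hW (commutator_le_self W hw)) hU
        (fun w hw => MaxEA.mem_of_mem_centerThompsonOf hU (hZ ▸ hDZ hw) (pow_zero w))
      have hAQ := hAL A hA h2
      have hWJ : W ≤ 𝐂 (thompsonSubgroupOf 0 Q) := by
        rw [← hncl]
        refine ncl_le_centralizer (inf_le_left.trans ?_) (hPQ.trans (normalizer_le_normalizer_thompsonOf 0 Q))
        rw [hZ]
        exact inf_le_right.trans (centralizer_anti (thompsonOf_mono_of_exists hA hAQ hQT))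
      have hWA : W ≤ A := fun x hx => MaxEA.mem_of_centralizes hA (hWT hx)
        (centralizer_anti (MaxEA.le_thompsonOf (MaxEA.of_le hA hAQ hQT)) (hWJ hx)) (pow_zero x)
      exact (by_contra fun hc => h3 hc hWA : W ≤ U).trans le_normalizer
    refine le_normalizer_inf ?_ hPW
    rw [hZ, ← centerThompsonOf_eq_of_le hJQ hQT]
    exact hPQ.trans (normalizer_le_normalizer_centerThompsonOf 0 Q)
  · set N := S ⊓ 𝐍 ⁅W, W⁆ ⊓ 𝐍 T
    have hTN : T < N := lt_inf_normalizer (hS.isP.to_le inf_le_left) (lt_of_le_of_ne (le_inf hTS (hTP.trans hD))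
      fun e => hJ (le_trans (le_inf (thompsonOf_le 0 S) (le_normalizer_of_le_centralizer
        (le_centralizer_iff.1 (hDZ.trans inf_le_right)))) e.ge))
    have hWQ : W ≤ Q := le_pCoreOf hW (hWT.trans hTP) hPW
    have hX : ncl W (P ⊔ N) ≤ Q := ncl_le_iff.2 fun g hg => cj_le_of_words hWQ hQT hPQ inf_le_right hD
      (inf_le_left.trans inf_le_right) (hTP.trans hPW) rfl hq hg
    have h1 := hmax _ (hX.trans (hQT.trans hTS)) (hTN.trans_le (le_inf (inf_le_left.trans inf_le_left)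
      (le_sup_right.trans (le_normalizer_ncl W _))))
    have h2 := le_normalizer_inf ((le_inf (hP.trans inf_le_left) (le_sup_left.trans (le_normalizer_ncl W _))).trans h1) hPW
    rwa [inf_assoc, inf_eq_right.2 (le_ncl W _)] at h2

end H27
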