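import Cfsg.Agent.H27.Fp1
import Cfsg.Agent.H27.Fp2
import Cfsg.Prelude.Def_LocalEven

/-! Glauberman's `F(p)` theorem: if `Z(J(S))` is not strongly closed then `F(p)` is involved in its normalizer, which
induces every power automorphism on some cyclic subgroup of `Z(J(S))` (`fpCfg_of_not_sclosed`). -/

namespace H27

open Subgroup H26 H4 Cfsg Matrix
open scoped MatrixGroups commutatorElement

universe u

variable {G : Type u} [Group G] [Finite G] {p : ℕ} [hp : Fact p.Prime]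

theorem exists_phiMod (p : ℕ) [Fact p.Prime] (W : Subgroup G) : ∃ (M : Type u) (_ : AddCommGroup M)
    (_ : Module (ZMod p) M) (_ : Finite M) (κ : W →* Multiplicative M) (ρ : 𝐍 W →* Module.End (ZMod p) M),
    Function.Surjective κ ∧ (∀ w : W, κ w = 1 ↔ (w : G) ∈ phi p W) ∧
      ∀ (g : 𝐍 W) (w w' : W), (w' : G) = g * w * (g : G)⁻¹ → (κ w').toAdd = ρ g (κ w).toAdd := by
  have : ((phi p W).subgroupOf (𝐍 W)).Normal := normal_subgroupOf_of_le_normalizer (normalizer_le_normalizer_phi p W)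
  let f := QuotientGroup.mk' ((phi p W).subgroupOf (𝐍 W))
  have hV : IsElementaryAbelian p ((W.subgroupOf (𝐍 W)).map f) := elemAb_map_of_phi_le (by
    rw [QuotientGroup.ker_mk', subgroupOf, subgroupOf, ← map_le_iff_le_comap, map_phi]
    exact phi_mono (map_comap_le _ _))
  have hn : ((W.subgroupOf (𝐍 W)).map f).Normal := Normal.map inferInstance f (QuotientGroup.mk'_surjective _)
  refine ⟨EA hV, inferInstance, inferInstance, inferInstance, MonoidHom.mk' (fun w => Multiplicative.ofAdd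
    (EA.mk hV (f ⟨w, le_normalizer w.2⟩) ⟨_, w.2, rfl⟩)) fun x y => rfl,
    (EA.rep hV).comp (f.codRestrict _ fun x => (normalizer_eq_top _).ge (mem_top _)), fun m => ?_, fun w => ?_,
    fun g w w' h => EA.val_injective ?_⟩
  · obtain ⟨w, hw, e⟩ := EA.val_mem m.toAdd
    exact ⟨⟨w, hw⟩, EA.val_injective e⟩
  · exact (EA.val_eq_one (hV := hV)).symm.trans (QuotientGroup.eq_one_iff _)
  · exact congrArg f (Subtype.ext h : (⟨w', le_normalizer w'.2⟩ : 𝐍 W) = g * ⟨w, le_normalizer w.2⟩ * g⁻¹)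

theorem mem_fOver {x : SL(3, ZMod p)} (hx : x ∈ fOver (ZMod p)) :
    ∃ v A, A 1 0 = 0 ∧ x = qdT (ZMod p) v * qdL (ZMod p) A := by
  have h1 : x 1 0 = 0 ∧ x 2 0 = 0 := by
    have h2 : x ∈ (fOver (ZMod p)).toSubmonoid := hx
    rw [fOver, closure_toSubmonoid_of_finite] at h2
    clear hx
    induction h2 using Submonoid.closure_induction with
    | mem y hy => exact ⟨hy.1, hy.2.1⟩
    | one => simp
    | mul y z _ _ h1 h2 => simp [mul_apply, Fin.sum_univ_three, h1.1, h1.2, h2.1, h2.2]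
  obtain ⟨v, A, rfl⟩ := mem_qd_iff.1 (Subgroup.closure_mono (fun M hM => by exact ⟨hM.2.1, hM.2.2.1, hM.2.2.2⟩) hx : x ∈ qd p)
  exact ⟨v, A, by simpa [qdT, qdL, mul_apply, Fin.sum_univ_three] using h1.1, rfl⟩

theorem sec_fOver (hp2 : p ≠ 2) {H V : Subgroup G} (hV : IsPGroup p V) (hVH : V ≤ H)
    (κ : V →* Multiplicative (Fin 2 → ZMod p)) (hκ : Function.Surjective κ)
    (h : ∀ β : SL(2, ZMod p), β 1 0 = 0 → ∃ g ∈ H, ∀ v : V, ∃ v' : V, (v' : G) = g * v * g⁻¹ ∧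
      (κ v').toAdd = β • (κ v).toAdd) : Sec (fOver (ZMod p)) H := by
  let D : Subgroup (G × SL(2, ZMod p)) :=
    { carrier := {x | x.1 ∈ H ∧ x.1 ∈ 𝐍 V ∧ x.2 1 0 = 0 ∧
        ∀ v v' : V, (v' : G) = x.1 * v * x.1⁻¹ → (κ v').toAdd = x.2 • (κ v).toAdd}
      one_mem' := ⟨one_mem _, one_mem _, rfl, fun v v' e => by rw [(Subtype.ext (by simpa using e) : v' = v)]; simp⟩
      mul_mem' := fun {x y} hx hy => ⟨mul_mem hx.1 hy.1, mul_mem hx.2.1 hy.2.1, by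
        simp [mul_apply, Fin.sum_univ_two, hx.2.2.1, hy.2.2.1], fun v v' e => by
          rw [hx.2.2.2 ⟨_, conj_mem_of_mem_normalizer hy.2.1 v.2⟩ v' (by rw [e]; simp [mul_assoc]),
            hy.2.2.2 v _ rfl, Prod.snd_mul, mul_smul]⟩
      inv_mem' := fun {x} hx => ⟨inv_mem hx.1, inv_mem hx.2.1, by
        rw [Prod.snd_inv, SpecialLinearGroup.SL2_inv_expl]; simpa using hx.2.2.1, fun v v' e => by
          rw [hx.2.2.2 v' v (by rw [e]; simp [mul_assoc]), Prod.snd_inv, inv_smul_smul]⟩ }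
  let ψ : D →* SL(2, ZMod p) := (MonoidHom.snd _ _).comp D.subtype
  have hψ : ∀ β : SL(2, ZMod p), β 1 0 = 0 → β ∈ ψ.range := fun β hβ => by
    obtain ⟨g, hg, h1⟩ := h β hβ
    refine ⟨⟨(g, β), hg, mem_normalizer_of_conj_mem fun v hv => ?_, hβ, fun v v' e => ?_⟩, rfl⟩
    · obtain ⟨v', e, -⟩ := h1 ⟨v, hv⟩
      exact e ▸ v'.2
    · obtain ⟨v'', e', h2⟩ := h1 v
      rwa [(Subtype.ext (e.trans e'.symm) : v' = v'')]
  obtain ⟨T, hT⟩ := exists_isSyl 2 ((zpowers (-1 : SL(2, ZMod p))).comap ψ)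
  have hZ : IsPGroup 2 (zpowers (-1 : SL(2, ZMod p))) := isPGroup_zpowers (k := 1) (by simp)
  have hc : ((zpowers (-1 : SL(2, ZMod p))).comap ψ).map ψ = zpowers (-1) :=
    map_comap_eq_self (zpowers_le.2 (hψ _ (by simp)))
  have h1 : T.map ψ = zpowers (-1) := by
    have := hT.map ψ
    rw [hc] at this
    exact this.eq_of_isPGroup hZ
  have hn : (zpowers (-1 : SL(2, ZMod p))).Normal := normal_iff_cj.2 fun g => by rw [cj_zpowers]; simp
  have h2 : (𝐍 T).map ψ = ψ.range := by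
    have := congrArg (Subgroup.map ψ) (hT.frattini le_top (normalizer_eq_top _).ge)
    rwa [Subgroup.map_sup, hc, ← MonoidHom.range_eq_map, top_inf_eq, ← h1,
      sup_eq_right.2 (map_mono le_normalizer)] at this
  obtain ⟨t, ht, ht1⟩ := h1.ge (mem_zpowers _)
  refine (sec_of_split V.subtype (((MonoidHom.fst _ _).comp D.subtype).comp (𝐍 T).subtype)
    (((qdT (ZMod p)).codRestrict (fOver (ZMod p)) fun v => subset_closure (by simp [qdT])).comp κ)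
    (((qdL (ZMod p)).comp (ψ.comp (𝐍 T).subtype)).codRestrict (fOver (ZMod p)) fun b => subset_closure
      ⟨b.1.2.2.2.1, rfl, rfl, rfl⟩) (fun b a => ?_) (fun a b hab => ?_) fun x => ?_).mono (sup_le ?_ ?_)
  · refine ⟨⟨_, conj_mem_of_mem_normalizer b.1.2.2.1 a.2⟩, by simp, Subtype.ext ?_⟩
    refine (qdL_mul_qdT (ψ b) (κ a).toAdd).trans ?_
    rw [show ψ b • (κ a).toAdd = _ from (b.1.2.2.2.2 a ⟨_, conj_mem_of_mem_normalizer b.1.2.2.1 a.2⟩ rfl).symm]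
    rfl
  · have h3 : b.1.1.1 = (a : G)⁻¹ := eq_inv_of_mul_eq_one_right hab
    have h4 : ψ b = 1 := eq_of_smul_eq_smul (α := Fin 2 → ZMod p) fun z => by
      obtain ⟨v, hv⟩ := hκ (Multiplicative.ofAdd z)
      have := b.1.2.2.2.2 v (a⁻¹ * v * a) (by rw [h3]; simp)
      rw [κ.map_mul, κ.map_mul, κ.map_inv, mul_right_comm, inv_mul_cancel, one_mul, hv] at this
      rw [one_smul]; exact this.symm
    have h5 : t.1.1 * a * t.1.1⁻¹ = a := by
      obtain ⟨k, hk⟩ := isPGroup_iff_mem.1 hT.isP _ (mul_mem (conj_mem_of_mem_normalizer b.2 ht) (inv_mem ht))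
      obtain ⟨l, hl⟩ := isPGroup_iff_mem.1 hV _ (mul_mem (inv_mem a.2) (conj_mem_of_mem_normalizer t.2.2.1 a.2))
      have h6 := congrArg ((MonoidHom.fst _ _).comp D.subtype) hk
      rw [map_pow, map_one] at h6
      change (b.1.1.1 * t.1.1 * b.1.1.1⁻¹ * t.1.1⁻¹) ^ _ = 1 at h6
      rw [h3, inv_inv, mul_assoc, mul_assoc, ← mul_assoc t.1.1] at h6
      exact (inv_mul_eq_one.1 (eq_one_of_pow_coprime (Nat.Coprime.pow _ _
        ((Nat.coprime_primes Nat.prime_two hp.out).2 hp2.symm)) h6 hl)).symm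
    have h6 := t.2.2.2.2 a a h5.symm
    rw [show t.1.2 = -1 from ht1, sl_smul] at h6
    have h7 : κ a = 1 := eq_one_of_pow_coprime ((Nat.coprime_primes Nat.prime_two hp.out).2 hp2.symm) (by
      refine Multiplicative.toAdd.injective ?_
      rw [pow_two, toAdd_mul]
      nth_rw 1 [h6]
      simp [neg_mulVec]) (by ext i; simp)
    refine Subtype.ext ?_
    change qdT _ (κ a) * qdL _ (ψ b) = 1
    rw [h4, h7, map_one, map_one, mul_one]
  · obtain ⟨v, A, hA, h⟩ := mem_fOver x.2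
    obtain ⟨b, hb, rfl⟩ := h2.ge (hψ A hA)
    obtain ⟨a, rfl⟩ := hκ v
    exact ⟨a, ⟨b, hb⟩, Subtype.ext h⟩
  · rintro _ ⟨x, rfl⟩
    exact x.1.2.1
  · rwa [range_subtype]

/-- The conclusion of the `F(p)` theorem. -/
def FpCfg (p : ℕ) [Fact p.Prime] (Z : Subgroup G) : Prop := Sec (fOver (ZMod p)) (𝐍 Z) ∧
  ∀ τ : (ZMod p)ˣ, ∃ n ∈ 𝐍 Z, ∃ x ∈ Z, x ≠ 1 ∧ n * x * n⁻¹ = x ^ (τ : ZMod p).val

omit [Finite G] in
theorem FpCfg.cj {Z : Subgroup G} (h : FpCfg p Z) (g : G) : FpCfg p (cj g Z) := by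
  refine ⟨cj_normalizer g Z ▸ h.1.map (conj_injective' g), fun τ => ?_⟩
  obtain ⟨n, hn, x, hx, h1, h2⟩ := h.2 τ
  refine ⟨_, cj_normalizer g Z ▸ conj_mem_cj g hn, _, conj_mem_cj g hx, fun h3 => h1 (by simpa using h3), ?_⟩
  rw [conj_pow, ← h2]; group

theorem thompsonOf_eq_of_le_syl {K S R : Subgroup G} (hS : IsSyl p S K) (hR : IsPGroup p R) (hRK : R ≤ K)
    (h : thompsonSubgroupOf 0 S ≤ R) : thompsonSubgroupOf 0 R = thompsonSubgroupOf 0 S := by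
  obtain ⟨k, -, hk⟩ := hS.exists_le_cj hR hRK
  have h1 : thompsonSubgroupOf 0 S ≤ thompsonSubgroupOf 0 (cj k S) := thompsonOf_le_iff.2 fun A hA =>
    MaxEA.le_thompsonOf (MaxEA.of_card_ge (MaxEA.cj hA k) ((MaxEA.le_thompsonOf hA).trans (h.trans hk))
      (MaxEA.elemAb hA) (card_cj k A).le)
  have h2 := eq_of_le_of_card_ge h1 (by rw [← cj_thompsonOf, card_cj])
  rw [thompsonOf_eq_of_le (h2.ge.trans h) hk, h2]

theorem realize {K S W : Subgroup G} (ih : ∀ K' < K, ∀ S, IsSyl p S K' → ¬ FpCfg p (centerThompsonOf 0 S) →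
      SClosed (centerThompsonOf 0 S) S K') (hS : IsSyl p S K) (hc : ¬ FpCfg p (centerThompsonOf 0 S)) (hW : W ≤ S)
    (hK : ¬ K ≤ 𝐍 (centerThompsonOf 0 S ⊓ W)) {m : G} (h1 : m ∈ K) (h2 : m ∈ 𝐍 W)
    (h3 : m ∈ 𝐍 (centerThompsonOf 0 S ⊓ W)) : ∃ n ∈ 𝐍 (centerThompsonOf 0 S), ∀ w ∈ W, m * w * m⁻¹ = n * w * n⁻¹ := by
  obtain ⟨R, hR, hR1⟩ := exists_isSyl_ge (hS.isP.to_le (inf_le_left : S ⊓ 𝐍 (centerThompsonOf 0 S ⊓ W) ≤ S))
    (inf_le_inf_right _ hS.le)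
  have e : centerThompsonOf 0 R = centerThompsonOf 0 S := by
    rw [centerThompsonOf_def, centerThompsonOf_def, thompsonOf_eq_of_le_syl hS hR.isP (hR.le.trans inf_le_left)
      ((le_inf (thompsonOf_le 0 S) (le_normalizer_of_le_centralizer
        (le_centralizer_iff.1 (inf_le_left.trans inf_le_right)))).trans hR1)]
  have hWR : W ≤ R := (le_inf hW (le_normalizer_inf (hW.trans (le_normalizer_centerThompsonOf 0 S)) le_normalizer)).trans hR1
  obtain ⟨n, hn, -, h4⟩ := (ctl_of_sclosed_comm hR (centerThompsonOf_le 0 R) (ih _ (lt_of_le_of_ne inf_le_left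
    fun e => hK (e.ge.trans inf_le_right)) R hR (e ▸ hc)) (comm_le_centralizer (centerThompsonOf_comm 0 R)) W m hWR ⟨h1, h3⟩
      ((cj_eq_iff.2 h2).le.trans hWR)).cj_eq
  exact ⟨n, e ▸ hn.2, h4⟩

theorem fpCfg_of_not_sclosed (hp2 : p ≠ 2) (K : Subgroup G) : ∀ S, IsSyl p S K → ¬ FpCfg p (centerThompsonOf 0 S) →
    SClosed (centerThompsonOf 0 S) S K := by
  induction K using subgroup_card_induction with | _ K _ ih
  intro S₀ hS₀ hc₀
  by_contra hsc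
  obtain ⟨S₁, P, T, W, a, hS₁, hPK, hTS, hT, hWT, hPW, hu, hncl, haT, haQ, hq⟩ := exists_local hp2 hS₀ hsc
  have hW : IsPGroup p W := hT.isP.to_le hWT
  obtain ⟨L, hLP, g, hg, -, huL, hx⟩ := l_lemma hT hu (hu.ncl_eq_of_isSyl hT fun h => haQ (hT.pCoreOf_eq h ▸ haT))
    (zpowers_le.2 haT) (by rwa [zpowers_le])
  have hM : P ⊓ 𝐍 (centerThompsonOf 0 S₁ ⊓ W ⊔ phi p W) ≤ P ⊓ 𝐍 (centerThompsonOf 0 S₁ ⊓ W) :=
    hu.all _ (le_inf hT.le (le_normalizer_sup (hu.le.trans inf_le_right)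
      (hT.le.trans (hPW.trans (normalizer_le_normalizer_phi p W))))) (lt_of_le_of_ne inf_le_left fun e => by
        have h1 := eq_of_sup_phi hW inf_le_right (hncl.ge.trans (ncl_le le_sup_left (e.ge.trans inf_le_right)))
        exact hu.lt.not_ge (le_inf le_rfl (h1.symm ▸ hPW)))
  have hgW : cj g W = W := cj_eq_iff.2 (hPW hg)
  replace hM := cj_mono g hM
  have e1 : cj g (P ⊓ 𝐍 (centerThompsonOf 0 S₁ ⊓ W)) = P ⊓ 𝐍 (centerThompsonOf 0 (cj g S₁) ⊓ W) := by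
    rw [cj_inf, cj_normalizer, cj_inf, cj_centerThompsonOf, hgW, cj_eq_of_mem hg]
  rw [e1] at hM huL hx
  rw [cj_inf, cj_normalizer, cj_sup, cj_inf, cj_centerThompsonOf, hgW, cj_eq_of_mem hg,
    cj_eq_iff.2 (normalizer_le_normalizer_phi p W (hPW hg))] at hM
  have hS := hS₁.cj_of_mem (hPK hg)
  have hWS : W ≤ cj g S₁ := hgW.ge.trans (cj_mono g (hWT.trans hTS))
  generalize cj g S₁ = S at *
  set Z := centerThompsonOf 0 S with hZ
  have hc : ¬ FpCfg p Z := fun h => by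
    obtain ⟨k, -, rfl⟩ := hS.exists_cj_eq hS₀
    exact hc₀ (cj_centerThompsonOf (e := 0) k S ▸ h.cj k)
  obtain ⟨x, hxL, hx0⟩ := SetLike.exists_of_lt huL.lt
  replace hx := hx x hxL fun h => hx0 ⟨hxL, h⟩
  have hre : ∀ m ∈ P ⊓ 𝐍 (Z ⊓ W), ∃ n ∈ 𝐍 Z, ∀ w ∈ W, m * w * m⁻¹ = n * w * n⁻¹ := fun m hm =>
    realize ih hS hc hWS (fun h => hx0 ⟨hxL, hLP hxL, h (hPK (hLP hxL))⟩) (hPK hm.1) (hPW hm.1) hm.2
  obtain ⟨M, _, _, _, κ, ρ₀, hκ, hker, hρ⟩ := exists_phiMod p W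
  have hLW : L ≤ 𝐍 W := hLP.trans hPW
  let ρ := ρ₀.comp (inclusion hLW)
  replace hρ : ∀ (l : L) (w : W), ρ l (κ w).toAdd = (κ ⟨_, conj_mem_of_mem_normalizer (hLW l.2) w.2⟩).toAdd :=
    fun l w => (hρ (inclusion hLW l) w _ rfl).symm
  have hsm : ∀ (c : ZMod p) (w : W), c • (κ w).toAdd = (κ (w ^ c.val)).toAdd := fun c w => by
    rw [κ.map_pow, toAdd_pow, ← Nat.cast_smul_eq_nsmul (ZMod p), ZMod.natCast_zmod_val]
  let U : Submodule (ZMod p) M :=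
    { carrier := {m | ∃ w : W, (w : G) ∈ Z ∧ (κ w).toAdd = m}
      zero_mem' := ⟨1, one_mem _, by simp⟩
      add_mem' := by rintro _ _ ⟨x, hx, rfl⟩ ⟨y, hy, rfl⟩; exact ⟨x * y, mul_mem hx hy, by simp⟩
      smul_mem' := by rintro c _ ⟨x, hx, rfl⟩; exact ⟨x ^ c.val, pow_mem hx _, (hsm c x).symm⟩ }
  have haL : a ∈ L := (huL.le (mem_sup_left (mem_zpowers a))).1
  have : ((pCoreOf p L).subgroupOf L).Normal := normal_subgroupOf_of_le_normalizer (le_normalizer_pCoreOf p L)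
  obtain ⟨k, hk⟩ := isPGroup_iff_mem.1 hT.isP a haT
  obtain ⟨V, κ₁, h1, h2, h3⟩ := ml hp2 ρ (a := ⟨a, haL⟩) (x := ⟨x, hxL⟩) (O := (pCoreOf p L).subgroupOf L)
    (Γ₀ := (P ⊓ 𝐍 (Z ⊓ W)).subgroupOf L) ((isPGroup_subgroupOf_iff (pCoreOf_le p L)).2 (isPGroup_pCoreOf p L))
    (k := k) (Subtype.ext hk) (LinearMap.ext fun m => by
      have h1 : ∀ w : W, (ρ ⟨a, haL⟩ - 1) (κ w).toAdd =
          (κ ⟨⁅a, w⁆, mul_mem (conj_mem_of_mem_normalizer (hLW haL) w.2) (inv_mem w.2)⟩).toAdd := fun w => by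
        rw [LinearMap.sub_apply, hρ, Module.End.one_apply, sub_eq_add_neg, ← toAdd_inv, ← toAdd_mul, ← κ.map_inv,
          ← κ.map_mul]
        rfl
      obtain ⟨w, hw⟩ := hκ (Multiplicative.ofAdd m)
      rw [show m = (κ w).toAdd from by rw [hw]; rfl, Module.End.mul_apply, h1, h1, (hker _).2]
      · rfl
      · refine commutator_le_phi p W (hq ?_)
        rw [commutator_comm]
        refine commutator_mem_commutator (mem_zpowers a) ?_
        rw [commutator_comm]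
        exact commutator_mem_commutator (mem_zpowers a) w.2)
    (map_injective L.subtype_injective (by
      rw [Subgroup.map_sup, MonoidHom.map_closure, Set.image_pair, map_subgroupOf_eq_of_le (pCoreOf_le p L),
        map_subtype_top, Set.insert_eq, Subgroup.closure_union, ← zpowers_eq_closure, ← zpowers_eq_closure]
      rw [cj_zpowers] at hx
      exact hx))
    (fun X h1 h2 h3 l hl => (huL.all (X.map L.subtype) (sup_le (zpowers_le.2 ⟨_, h1, rfl⟩)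
      ((map_subgroupOf_eq_of_le (pCoreOf_le p L)).ge.trans (map_mono h2))) (lt_of_le_of_ne (map_subtype_le X)
        fun e => h3 (map_injective L.subtype_injective (e.trans (map_subtype_top L).symm))) ⟨l, hl, rfl⟩).2)
    (fun h => huL.lt.not_ge (((pCoreOf_eq_self (by
      rwa [← map_subtype_top L, isPGroup_map_iff L.subtype_injective])).ge.trans le_sup_right).trans huL.le))
    (U := U) (by
      rintro l hl _ ⟨w, hw, rfl⟩
      exact ⟨_, (conj_mem_of_mem_normalizer hl.2 ⟨hw, w.2⟩).1, (hρ l w).symm⟩)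
    (fun h => hx0 ⟨hxL, hM ⟨hLP hxL, mem_normalizer_of_cj_le (by
      rw [cj_sup, cj_eq_iff.2 (normalizer_le_normalizer_phi p W (hLW hxL))]
      refine sup_le ?_ le_sup_right
      rintro _ ⟨w, hw, rfl⟩
      obtain ⟨u, hu, e⟩ := h.ge (mem_top ⟨x, hxL⟩) _ ⟨⟨w, hw.2⟩, hw.1, rfl⟩
      rw [hρ] at e
      have h1 := (hker (u⁻¹ * ⟨_, conj_mem_of_mem_normalizer (hLW hxL) hw.2⟩)).1 (by
        rw [κ.map_mul, κ.map_inv, inv_mul_eq_one]; exact e)
      simpa using mul_mem (mem_sup_left ⟨hu, u.2⟩ : (u : G) ∈ Z ⊓ W ⊔ phi p W) (mem_sup_right h1))⟩⟩)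
  refine hc ⟨?_, fun τ => ?_⟩
  · let V' : Subgroup W := (AddSubgroup.toSubgroup V.toAddSubgroup).comap κ
    have hV : V'.map W.subtype ≤ W := map_subtype_le _
    have hV' : ∀ v : V'.map W.subtype, (κ (inclusion hV v)).toAdd ∈ V := by
      rintro ⟨_, v, hv, rfl⟩; exact hv
    refine sec_fOver hp2 (hW.to_le hV) (hV.trans (hWS.trans (le_normalizer_centerThompsonOf 0 S)))
      ((AddMonoidHom.toMultiplicative κ₁.toAddMonoidHom).comp (κ.comp (inclusion hV))) (fun z => ?_) fun β hβ => ?_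
    · obtain ⟨v, hv, e⟩ := h1 z.toAdd
      obtain ⟨w, hw⟩ := hκ (Multiplicative.ofAdd v)
      refine ⟨⟨w, w, ?_, rfl⟩, ?_⟩
      · change (κ w).toAdd ∈ V
        rwa [hw]
      · change Multiplicative.ofAdd (κ₁ (κ w).toAdd) = z
        rw [hw, toAdd_ofAdd, e]; rfl
    · obtain ⟨m, hm, h4⟩ := h2 β hβ
      obtain ⟨n, hn, h5⟩ := hre m hm
      refine ⟨n, hn, fun v => ?_⟩
      obtain ⟨h6, h7⟩ := h4 _ (hV' v)
      rw [hρ] at h6 h7
      exact ⟨⟨_, _, h6, rfl⟩, h5 v (hV v.2), h7⟩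
  · obtain ⟨m, hm, _, ⟨u₀, hu₀, rfl⟩, h4⟩ := h3 τ
    obtain ⟨n, hn, h5⟩ := hre m hm
    refine ⟨n, hn, ?_⟩
    by_contra h6
    push Not at h6
    have hcm : ∀ y z : G, y ∈ Z → z ∈ Z → y * z = z * y := fun y z hy hz => comm_of (centerThompsonOf_comm 0 S) hy hz
    let f : ↥(Z ⊓ W) → ↥(Z ⊓ W) := fun y => ⟨m * y * (m : G)⁻¹ * ((y : G) ^ (τ : ZMod p).val)⁻¹,
      mul_mem (conj_mem_of_mem_normalizer hm.2 y.2) (inv_mem (pow_mem y.2 _))⟩
    have hf : Function.Injective f := fun y z e => by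
      by_contra hne
      refine h6 (z⁻¹ * y : ↥(Z ⊓ W)) (z⁻¹ * y).2.1 (fun h => hne (inv_mul_eq_one.1 (Subtype.ext h)).symm) ?_
      have e1 : (m : G) * y * (m : G)⁻¹ * ((y : G) ^ (τ : ZMod p).val)⁻¹ =
        m * z * (m : G)⁻¹ * ((z : G) ^ (τ : ZMod p).val)⁻¹ := congrArg Subtype.val e
      rw [← h5 _ (z⁻¹ * y).2.2]
      change (m : G) * ((z : G)⁻¹ * y) * (m : G)⁻¹ = ((z : G)⁻¹ * y) ^ _
      rw [Commute.mul_pow (hcm _ _ (inv_mem z.2.1) y.2.1), inv_pow]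
      calc _ = ((m : G) * z * (m : G)⁻¹)⁻¹ * ((m : G) * y * (m : G)⁻¹ * ((y : G) ^ (τ : ZMod p).val)⁻¹) *
            (y : G) ^ (τ : ZMod p).val := by group
        _ = _ := by rw [e1]; group
    obtain ⟨y, hy⟩ := Finite.injective_iff_surjective.1 hf ⟨u₀, hu₀, u₀.2⟩
    refine h4 _ ⟨⟨y, y.2.2⟩, y.2.1, rfl⟩ ?_
    rw [hρ, hsm, sub_eq_add_neg, ← toAdd_inv, ← toAdd_mul, ← κ.map_inv, ← κ.map_mul]
    exact congrArg (fun w => (κ w).toAdd) (Subtype.ext (congrArg Subtype.val hy :))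

theorem FpCfg.exists_cyclic {Z : Subgroup G} (h : FpCfg p Z) (hZ : IsPGroup p Z) :
    ∃ C ≤ Z, Nat.card C = p ∧ (𝐍 Z ⊓ 𝐂 C).relIndex (𝐍 Z ⊓ 𝐍 C) = p - 1 := by
  obtain ⟨τ, hτ⟩ := IsCyclic.exists_ofOrder_eq_natCard (α := (ZMod p)ˣ)
  obtain ⟨n, hn, x₀, hx₀, h1, h2⟩ := h.2 τ
  obtain ⟨_, ⟨i, rfl⟩, h3, h4⟩ := exists_mem_pow_eq_one (hZ.to_le (zpowers_le.2 hx₀)) (by rwa [ne_eq, zpowers_eq_bot])
  replace h2 : n * x₀ ^ i * n⁻¹ = (x₀ ^ i) ^ (τ : ZMod p).val := by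
    rw [← conj_zpow, h2, ← zpow_natCast, ← zpow_natCast, ← _root_.zpow_mul, ← _root_.zpow_mul, mul_comm]
  have hx := zpow_mem hx₀ i
  dsimp only at h3 h4
  generalize x₀ ^ i = x at *
  have ho : orderOf x = p := orderOf_eq_prime h4 h3
  have hc : Nat.card (zpowers x) = p := by rw [Nat.card_zpowers, ho]
  refine ⟨zpowers x, zpowers_le.2 hx, hc, ?_⟩
  let f := (zpowers x).normalizerMonoidHom.comp (inclusion (inf_le_right : 𝐍 Z ⊓ 𝐍 (zpowers x) ≤ _))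
  have e : (𝐍 Z ⊓ 𝐂 (zpowers x)).subgroupOf (𝐍 Z ⊓ 𝐍 (zpowers x)) = f.ker := by
    ext g
    rw [← MonoidHom.comap_ker, normalizerMonoidHom_ker]
    exact ⟨fun h => h.2, fun h => ⟨g.2.1, h⟩⟩
  have hnx : n ∈ 𝐍 (zpowers x) := mem_normalizer_of_cj_le (by rw [cj_zpowers, h2]; simp [pow_mem])
  rw [relIndex, e, index_ker]
  refine Nat.dvd_antisymm ?_ ?_
  · have := card_subgroup_dvd_card f.range
    rwa [IsCyclic.card_mulAut, hc, Nat.totient_prime hp.out] at this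
  · refine dvd_trans ?_ (orderOf_dvd_card_of_mem (H := f.range) ⟨⟨n, hn, hnx⟩, rfl⟩)
    rw [← ZMod.card_units, ← Nat.card_eq_fintype_card, ← hτ, orderOf_dvd_iff_pow_eq_one]
    set j := orderOf (f ⟨n, hn, hnx⟩)
    have h5 : (⟨n, hn, hnx⟩ : ↥(𝐍 Z ⊓ 𝐍 (zpowers x))) ^ j ∈ f.ker := by
      rw [MonoidHom.mem_ker, map_pow, pow_orderOf_eq_one]
    rw [← e] at h5
    have h6 : ∀ i : ℕ, n ^ i * x * (n ^ i)⁻¹ = x ^ (τ : ZMod p).val ^ i := fun i => by
      induction i with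
      | zero => simp
      | succ i ih => rw [pow_succ' _ i, pow_succ' _ i, pow_mul, ← h2, conj_pow, ← ih]; group
    have h7 : x ^ (τ : ZMod p).val ^ j = x ^ 1 := by
      rw [← h6, pow_one]; exact mem_centralizer_iff'.1 h5.2 x (mem_zpowers x)
    rw [pow_eq_pow_iff_modEq, ho, ← ZMod.natCast_eq_natCast_iff] at h7
    exact Units.ext (by simpa using h7)

end H27
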