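import Cfsg.Agent.H1.Basic
import Mathlib.LinearAlgebra.Eigenspace.Basic
import Mathlib.LinearAlgebra.Dimension.Constructions
import Mathlib.LinearAlgebra.FiniteDimensional.Lemmas
import Mathlib.Algebra.DirectSum.Module
import Mathlib.GroupTheory.GroupAction.Quotient
import Mathlib.GroupTheory.SpecificGroups.Cyclic
import Mathlib.GroupTheory.GroupAction.FixedPoints
import Mathlib.GroupTheory.Sylow

/-! Fixed spaces of elements of prime order: orbit representatives (`orb_reps`), graded modules permuted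
by an operator (`graded`), fixed-point ratio at most `1/3` in solvable groups generated by a class of
elements of odd prime order (`fpr`). -/

namespace H27.Fx

open Subgroup Module

theorem orb_reps {Ω : Type*} [Finite Ω] (σ : Equiv.Perm Ω) {p : ℕ} [hp : Fact p.Prime] (hσ : σ ^ p = 1) :
    ∃ R : Set Ω, p * Nat.card R ≤ Nat.card Ω + (p - 1) * Nat.card {ω // σ ω = ω} ∧
      ∀ ω, ∃ r ∈ R, ∃ k : ℕ, ω = (σ ^ k) r := by
  classical
  have hp1 : 1 ≤ p := hp.out.one_le
  by_cases h1 : σ = 1
  · refine ⟨Set.univ, ?_, fun ω => ⟨ω, trivial, 0, rfl⟩⟩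
    have : Nat.card {ω // σ ω = ω} = Nat.card Ω :=
      Nat.card_congr (Equiv.subtypeUnivEquiv fun ω => by rw [h1]; rfl)
    rw [this, Nat.card_univ]
    obtain ⟨n, rfl⟩ : ∃ n, p = n + 1 := ⟨p - 1, by omega⟩
    simp [add_mul, add_comm]
  have ho : orderOf σ = p := orderOf_eq_prime hσ h1
  have hc : Nat.card (zpowers σ) = p := by rw [Nat.card_zpowers, ho]
  have := Fintype.ofFinite Ω
  have := Fintype.ofFinite (zpowers σ)
  have := Fintype.ofFinite (MulAction.orbitRel.Quotient (zpowers σ) Ω)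
  refine ⟨Set.range (Quotient.out : MulAction.orbitRel.Quotient (zpowers σ) Ω → Ω), ?_, fun ω => ?_⟩
  · have hb := MulAction.sum_card_fixedBy_eq_card_orbits_mul_card_group (zpowers σ) Ω
    rw [Nat.card_range_of_injective Quotient.out_injective, mul_comm, ← hc, Nat.card_eq_fintype_card,
      Nat.card_eq_fintype_card (α := zpowers σ), ← hb, ← Finset.add_sum_erase _ _ (Finset.mem_univ 1)]
    refine add_le_add ?_ ?_
    · rw [Nat.card_eq_fintype_card]; exact Fintype.card_subtype_le _
    · refine (Finset.sum_le_card_nsmul _ _ (Nat.card {ω // σ ω = ω}) fun g hg => ?_).trans ?_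
      · rw [← Nat.card_eq_fintype_card]
        have hg1 : g ≠ 1 := Finset.ne_of_mem_erase hg
        obtain ⟨k, hk⟩ := mem_zpowers_iff.1 (mem_zpowers_of_prime_card hc hg1 (g' := ⟨σ, mem_zpowers σ⟩))
        refine Nat.card_le_card_of_injective (fun a => ⟨a.1, ?_⟩) fun a b h => Subtype.ext (congrArg (·.1) h)
        have h2 : a.1 ∈ MulAction.fixedBy Ω (g ^ k) := MulAction.fixedBy_subset_fixedBy_zpow Ω g k a.2
        rw [hk] at h2
        exact h2
      · rw [Finset.card_erase_of_mem (Finset.mem_univ _), Finset.card_univ, smul_eq_mul]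
  · set q : MulAction.orbitRel.Quotient (zpowers σ) Ω := Quotient.mk'' ω
    have h : (MulAction.orbitRel (zpowers σ) Ω) ω q.out := (MulAction.orbitRel (zpowers σ) Ω).symm (Quotient.mk_out' ω)
    obtain ⟨⟨g, hg⟩, hg2⟩ := MulAction.orbitRel_apply.1 h
    obtain ⟨k, rfl⟩ := (mem_powers_iff_mem_zpowers.2 hg)
    exact ⟨q.out, ⟨q, rfl⟩, k, hg2.symm⟩

theorem graded {K M : Type*} [Field K] [AddCommGroup M] [Module K M] [FiniteDimensional K M]
    {Ω : Type*} [Finite Ω] (A : Ω → Submodule K M) (hind : iSupIndep A) (htop : iSup A = ⊤) {m : ℕ}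
    (hm : ∀ ω, finrank K (A ω) = m) (σ : Equiv.Perm Ω) (τ : M →ₗ[K] M) (hτ : ∀ ω, ∀ v ∈ A ω, τ v ∈ A (σ ω))
    {p : ℕ} [Fact p.Prime] (hσ : σ ^ p = 1) :
    finrank K M = m * Nat.card Ω ∧
      p * finrank K (LinearMap.ker (τ - LinearMap.id)) ≤ m * (Nat.card Ω + (p - 1) * Nat.card {ω // σ ω = ω}) := by
  classical
  have := Fintype.ofFinite Ω
  have hI : DirectSum.IsInternal A := DirectSum.isInternal_submodule_of_iSupIndep_of_iSup_eq_top hind htop
  set e := LinearEquiv.ofBijective (DirectSum.coeLinearMap A) hI with he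
  refine ⟨?_, ?_⟩
  · rw [← e.finrank_eq, Module.finrank_directSum]
    simp [hm, mul_comm]
  let π : ∀ ω, M →ₗ[K] A ω := fun ω => DirectSum.component K Ω (fun ω => A ω) ω ∘ₗ e.symm.toLinearMap
  have hπ : ∀ ω v, π ω v = e.symm v ω := fun _ _ => rfl
  have key : ∀ v ω, (π (σ ω) (τ v) : M) = τ (π ω v) := by
    intro v ω
    have hv : v ∈ iSup A := htop ▸ Submodule.mem_top
    induction hv using Submodule.iSup_induction' with
    | mem i v hv =>
      by_cases h : i = ω
      · subst h
        rw [hπ, hπ, hI.ofBijective_coeLinearMap_of_mem hv, hI.ofBijective_coeLinearMap_of_mem (hτ _ _ hv)]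
      · rw [hπ, hπ, hI.ofBijective_coeLinearMap_of_mem_ne h hv,
          hI.ofBijective_coeLinearMap_of_mem_ne (σ.injective.ne h) (hτ _ _ hv)]
        simp
    | zero => simp
    | add x y _ _ hx hy => simp [hx, hy]
  obtain ⟨R, hR, hR2⟩ := orb_reps σ hσ
  have := Fintype.ofFinite R
  let Φ : LinearMap.ker (τ - LinearMap.id) →ₗ[K] (∀ r : R, A r) :=
    LinearMap.pi fun r => π r ∘ₗ Submodule.subtype _
  have hΦ : Function.Injective Φ := by
    rw [← LinearMap.ker_eq_bot, eq_bot_iff]
    rintro ⟨v, hv⟩ h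
    have hv' : τ v = v := by simpa [sub_eq_zero] using hv
    have h0 : ∀ r ∈ R, π r v = 0 := fun r hr => congrFun h ⟨r, hr⟩
    have h1 : ∀ r ∈ R, ∀ k : ℕ, (π ((σ ^ k) r) v : M) = 0 := by
      intro r hr k
      induction k with
      | zero => exact congrArg Subtype.val (h0 r hr)
      | succ k ih => rw [pow_succ', Equiv.Perm.mul_apply, ← hv', key, ih, map_zero]
    have h2 : e.symm v = 0 := by
      ext ω
      obtain ⟨r, hr, k, rfl⟩ := hR2 ω
      exact h1 r hr k
    have : v = 0 := by simpa using h2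
    simp [this]
  have h3 := LinearMap.finrank_le_finrank_of_injective hΦ
  rw [Module.finrank_pi_fintype] at h3
  simp only [hm, Finset.sum_const, Finset.card_univ, smul_eq_mul, ← Nat.card_eq_fintype_card] at h3
  calc p * finrank K (LinearMap.ker (τ - LinearMap.id)) ≤ p * (Nat.card R * m) := Nat.mul_le_mul_left _ h3
    _ = m * (p * Nat.card R) := by ring
    _ ≤ _ := Nat.mul_le_mul_left _ hR

universe u

theorem three_le {G : Type*} [Group G] [Finite G] {p : ℕ} [hp : Fact p.Prime] (hp2 : p ≠ 2) {N : Subgroup G}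
    [N.Normal] (hc : IsMulCommutative N) {y : G} (hy : y ^ p = 1) (h : ¬ N ≤ centralizer {y}) :
    3 * Nat.card (N ⊓ centralizer {y} : Subgroup G) ≤ Nat.card N := by
  set C := N ⊓ centralizer ({y} : Set G) with hC
  have h1 : Nat.card C * C.relIndex N = Nat.card N := by
    rw [relIndex, ← (C.subgroupOf N).card_mul_index, Nat.card_congr (subgroupOfEquivOfLe inf_le_left).toEquiv]
  have h0 : C.relIndex N ≠ 0 := index_ne_zero_of_finite
  have h1' : C.relIndex N ≠ 1 := fun e => h ((relIndex_eq_one.1 e).trans inf_le_right)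
  have h2 : C.relIndex N ≠ 2 := by
    intro e
    obtain ⟨n, hn, hnC⟩ := SetLike.not_le_iff_exists.1 h
    have hm : ∀ a b : G, a ∈ N → b ∈ N → (a * b ∈ C ↔ (a ∈ C ↔ b ∈ C)) := fun a b ha hb =>
      mul_mem_iff_of_index_two e (a := ⟨a, ha⟩) (b := ⟨b, hb⟩)
    have hn' : y * n * y⁻¹ ∈ N := ‹N.Normal›.conj_mem n hn y
    have hnC' : n ∉ C := fun h => hnC h.2
    have hcen : ∀ a : G, a ∈ centralizer ({y} : Set G) ↔ y * a * y⁻¹ = a := fun a => by
      rw [mem_centralizer_singleton_iff, mul_inv_eq_iff_eq_mul, eq_comm]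
    have h3 : y * n * y⁻¹ ∉ C := fun h => hnC <| by
      have := (hcen _).1 h.2
      rw [hcen]
      exact mul_left_cancel (mul_right_cancel this)
    set c := n⁻¹ * (y * n * y⁻¹) with hcd
    have hcC : c ∈ C := (hm _ _ (N.inv_mem hn) hn').2 (iff_of_false (fun h => hnC' (by simpa using C.inv_mem h)) h3)
    have hyn : y * n * y⁻¹ = n * c := by rw [hcd]; group
    have hnn : n * n ∈ C := (hm _ _ hn hn).2 Iff.rfl
    have hcomm : c * n = n * c := congrArg Subtype.val (hc.is_comm.comm ⟨c, hcC.1⟩ ⟨n, hn⟩)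
    have hc2 : c ^ 2 = 1 := by
      have h4 := (hcen _).1 hnn.2
      have h5 : y * (n * n) * y⁻¹ = (y * n * y⁻¹) * (y * n * y⁻¹) := by group
      rw [h5, hyn, mul_assoc, ← mul_assoc c, hcomm] at h4
      have h6 : n * n * c ^ 2 = n * n * 1 := by rw [mul_one, sq, mul_assoc n n, ← mul_assoc n c, h4]
      exact mul_left_cancel h6
    have hk : ∀ k : ℕ, y ^ k * n * (y ^ k)⁻¹ = n * c ^ k := by
      intro k
      induction k with
      | zero => simp
      | succ k ih =>
        have h7 := (hcen _).1 (C.pow_mem hcC k).2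
        calc y ^ (k + 1) * n * (y ^ (k + 1))⁻¹ = y * (y ^ k * n * (y ^ k)⁻¹) * y⁻¹ := by group
          _ = (y * n * y⁻¹) * (y * c ^ k * y⁻¹) := by rw [ih]; group
          _ = n * c ^ (k + 1) := by rw [h7, hyn]; group
    have hcp : c ^ p = 1 := by
      have := hk p
      rw [hy] at this
      simpa using this
    have hc1 : c = 1 := by
      rw [← orderOf_eq_one_iff]
      exact Nat.eq_one_of_dvd_coprimes ((Nat.coprime_primes Nat.prime_two hp.out).2 hp2.symm)
        (orderOf_dvd_of_pow_eq_one hc2) (orderOf_dvd_of_pow_eq_one hcp)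
    exact hnC ((hcen _).2 (by rw [hyn, hc1, mul_one]))
  rw [← h1, mul_comm]
  exact Nat.mul_le_mul_left _ (by omega)

theorem nc_map {G G' : Type*} [Group G] [Group G'] {x : G} (h : normalClosure {x} = ⊤) (f : G →* G')
    (hf : Function.Surjective f) : normalClosure {f x} = ⊤ := by
  rw [← Set.image_singleton, ← map_normalClosure _ _ hf, h, ← MonoidHom.range_eq_map, MonoidHom.range_eq_top.2 hf]

theorem eq_top_of_nc {G : Type*} [Group G] {x : G} (h : normalClosure {x} = ⊤) {N : Subgroup G} (hN : N.Normal)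
    (hx : x ∈ N) : N = ⊤ :=
  top_unique (h ▸ normalClosure_le_normal (by simpa using hx))

theorem fpr {p : ℕ} [hp : Fact p.Prime] (hp2 : p ≠ 2) (G : Type u) [Group G] [Finite G] :
    Group.IsSolvable G → ∀ x : G, x ^ p = 1 → normalClosure {x} = ⊤ → ∀ H : Subgroup G, H ≠ ⊤ →
      3 * Nat.card ({g | g⁻¹ * x * g ∈ H} : Set G) ≤ Nat.card G := by
  refine H1.card_induction (P := fun G _ _ => Group.IsSolvable G → ∀ x : G, x ^ p = 1 → normalClosure {x} = ⊤ →
    ∀ H : Subgroup G, H ≠ ⊤ → 3 * Nat.card ({g | g⁻¹ * x * g ∈ H} : Set G) ≤ Nat.card G) ?_ G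
  intro G _ _ ih hs x hx hn H hH
  have : Nontrivial G := by
    by_contra h
    rw [not_nontrivial_iff_subsingleton] at h
    exact hH (Subsingleton.elim _ _)
  obtain ⟨N, q, hN, hN1, -, -, hc, -, -, hmin⟩ := H1.exists_normal_elementary_le (⊤ : Subgroup G) top_ne_bot
  by_cases hNH : N ⊔ H = ⊤
  · rcases Set.eq_empty_or_nonempty ({g | g⁻¹ * x * g ∈ H} : Set G) with h0 | ⟨g0, hg0⟩
    · simp [h0]
    set y := g0⁻¹ * x * g0 with hy
    have hxy : ∀ L : Subgroup G, L.Normal → y ∈ L → L = ⊤ := fun L hL h =>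
      eq_top_of_nc hn hL (by simpa [hy, mul_assoc] using hL.conj_mem _ h g0)
    have hdis : N ⊓ H = ⊥ := by
      have hnn : (N ⊓ H).Normal := by
        rw [← normalizer_eq_top_iff, eq_top_iff, ← hNH]
        refine sup_le (fun n hn => mem_normalizer_fintype fun a ha => ?_)
          (fun h hh => mem_normalizer_fintype fun a ha => ⟨hN.conj_mem a ha.1 h, H.mul_mem (H.mul_mem hh ha.2) (H.inv_mem hh)⟩)
        have : n * a = a * n := congrArg Subtype.val (hc.is_comm.comm ⟨n, hn⟩ ⟨a, ha.1⟩)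
        rw [this, mul_inv_cancel_right]; exact ha
      rcases hmin _ hnn inf_le_left with h | h
      · exact h
      · exact absurd (by rw [← hNH, sup_eq_right.2 (inf_eq_left.1 h)]) hH
    have hyp : y ^ p = 1 := by
      have : y = g0⁻¹ * x * g0⁻¹⁻¹ := by rw [inv_inv]
      rw [this, conj_pow, hx]; simp
    have hNC : ¬ N ≤ centralizer {y} := by
      intro h
      have h1 : centralizer (N : Set G) = ⊤ := hxy _ inferInstance fun n hn =>
        (mem_centralizer_singleton_iff.1 (h hn))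
      refine hH (hxy H ?_ hg0)
      rw [← normalizer_eq_top_iff, eq_top_iff, ← hNH]
      refine sup_le (fun n hn => mem_normalizer_fintype fun a ha => ?_) le_normalizer
      have : n * a = a * n := (h1.ge (mem_top a) : a ∈ centralizer (N : Set G)) n hn
      rw [this, mul_inv_cancel_right]; exact ha
    have h3 := three_le hp2 hc hyp hNC
    have hcard : Nat.card N * Nat.card H = Nat.card G :=
      (isComplement'_of_disjoint_and_mul_eq_univ (disjoint_iff.2 hdis)
        (by rw [← normal_mul, hNH]; rfl)).card_mul_card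
    have h4 : Nat.card ({g | g⁻¹ * x * g ∈ H} : Set G) ≤ Nat.card (N ⊓ centralizer {y} : Subgroup G) * Nat.card H := by
      rw [← Nat.card_prod]
      refine le_trans (Nat.card_mono (Set.toFinite _) (t := Set.range
        fun a : (N ⊓ centralizer {y} : Subgroup G) × H => g0 * a.1 * a.2) fun g hg => ?_) (Finite.card_range_le _)
      obtain ⟨n, hn, h, hh, e⟩ := mem_sup_of_normal_left.1 (hNH.ge (mem_top (g0⁻¹ * g)))
      have hg' : g = g0 * n * h := by rw [mul_assoc, e]; group
      refine ⟨(⟨n, hn, ?_⟩, ⟨h, hh⟩), hg'.symm⟩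
      have h5 : n⁻¹ * y * n ∈ H := by
        have : n⁻¹ * y * n = h * (g⁻¹ * x * g) * h⁻¹ := by rw [hg', hy]; group
        rw [this]; exact H.mul_mem (H.mul_mem hh hg) (H.inv_mem hh)
      have h6 : n⁻¹ * y * n * y⁻¹ ∈ N ⊓ H := ⟨by
        simpa [mul_assoc] using N.mul_mem (N.inv_mem hn) (hN.conj_mem n hn y), H.mul_mem h5 (H.inv_mem hg0)⟩
      rw [hdis, mem_bot] at h6
      refine mem_centralizer_singleton_iff.2 ?_
      calc n * y = n * (n⁻¹ * y * n * y⁻¹) * y := by rw [h6, mul_one]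
        _ = y * n := by group
    calc _ ≤ 3 * (Nat.card (N ⊓ centralizer {y} : Subgroup G) * Nat.card H) := Nat.mul_le_mul_left _ h4
      _ = (3 * Nat.card (N ⊓ centralizer {y} : Subgroup G)) * Nat.card H := by ring
      _ ≤ _ := by rw [← hcard]; exact Nat.mul_le_mul_right _ h3
  · set f := QuotientGroup.mk' N
    have hf := QuotientGroup.mk'_surjective N
    have hlt : Nat.card (G ⧸ N) < Nat.card G := by
      rw [card_eq_card_quotient_mul_card_subgroup N]
      exact lt_mul_of_one_lt_right Nat.card_pos ((one_lt_card_iff_ne_bot N).2 hN1)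
    have h1 := ih (G ⧸ N) hlt inferInstance (f x) (by rw [← map_pow, hx, map_one]) (nc_map hn f hf) (H.map f)
      fun h => hNH (by
        have := congrArg (comap f) h
        rwa [comap_map_eq, QuotientGroup.ker_mk', comap_top, sup_comm] at this)
    have h2 : Nat.card ({g | g⁻¹ * x * g ∈ H} : Set G) ≤ Nat.card N * Nat.card ({g | g⁻¹ * f x * g ∈ H.map f} : Set (G ⧸ N)) := by
      rw [← QuotientGroup.card_preimage_mk]
      exact Nat.card_mono (Set.toFinite _) fun g hg => mem_map_of_mem f hg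
    rw [card_eq_card_quotient_mul_card_subgroup N]
    calc _ ≤ 3 * (Nat.card N * _) := Nat.mul_le_mul_left _ h2
      _ = (3 * _) * Nat.card N := by ring
      _ ≤ _ := Nat.mul_le_mul_right _ h1

/-- Fixed-point ratio on `G / H`. -/
theorem fpr' {p : ℕ} [hp : Fact p.Prime] (hp2 : p ≠ 2) {G : Type*} [Group G] [Finite G] [Group.IsSolvable G]
    {x : G} (hx : x ^ p = 1) (hn : normalClosure {x} = ⊤) {H : Subgroup G} (hH : H ≠ ⊤) :
    3 * Nat.card {ω : G ⧸ H // x • ω = ω} ≤ Nat.card (G ⧸ H) := by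
  have h := fpr hp2 G ‹_› x⁻¹ (by rw [inv_pow, hx, inv_one])
    (eq_top_of_nc hn inferInstance (by simpa using (normalClosure {x⁻¹}).inv_mem (subset_normalClosure rfl))) H hH
  have h2 : ({g | g⁻¹ * x⁻¹ * g ∈ H} : Set G) = QuotientGroup.mk ⁻¹' {ω : G ⧸ H | x • ω = ω} := by
    ext g
    simp only [Set.mem_ofPred_eq, Set.mem_preimage, MulAction.Quotient.smul_mk, QuotientGroup.eq, smul_eq_mul,
      mul_inv_rev]
  rw [h2, QuotientGroup.card_preimage_mk, card_eq_card_quotient_mul_card_subgroup H, mul_comm (Nat.card H),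
    ← mul_assoc] at h
  exact Nat.le_of_mul_le_mul_right h Nat.card_pos

end H27.Fx
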