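import Cfsg.Agent.H27.Fx1
import Cfsg.Agent.H4.PSol2
import Mathlib.GroupTheory.Perm.Cycle.Type

/-! Index of the centralizer of an element of prime order `p ≥ 5` in a symplectic chief factor of a solvable
group generated by its conjugates (`jbound`). -/

namespace H27.Fx

open Subgroup Cfsg
open scoped commutatorElement

variable {G : Type*} [Group G]

theorem arith {p j q k : ℕ} (hp : p.Prime) (h5 : 5 ≤ p) (hq : q.Prime) (hj : j = q ^ k) (h1 : j ≠ 1)
    (h2 : ¬ j.Prime) (h3 : j % p = 0 ∨ j % p = 1) : 4 * (j + (p - 1)) ≤ p * j := by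
  have h0 : j ≠ 0 := hj ▸ pow_ne_zero _ hq.ne_zero
  have hpj : p ≤ j := by
    by_contra h
    rw [Nat.mod_eq_of_lt (by omega)] at h3
    omega
  have hne : j ≠ p := fun e => h2 (e ▸ hp)
  have hd : ∀ r : ℕ, r.Prime → r ∣ j → r = q := fun r hr h =>
    (Nat.prime_dvd_prime_iff_eq hr hq).1 (hr.dvd_of_dvd_pow (hj ▸ h))
  obtain ⟨n, rfl⟩ : ∃ n, p = n + 5 := ⟨p - 5, by omega⟩
  have h6 : n ≠ 1 := by rintro rfl; exact absurd hp (by norm_num)
  rcases Nat.eq_zero_or_pos n with rfl | hn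
  · have : 16 ≤ j := by
      by_contra h
      have h4 : j = 6 ∨ j = 10 ∨ j = 11 ∨ j = 15 := by omega
      have a2 := hd 2 Nat.prime_two
      have a3 := hd 3 Nat.prime_three
      have a5 := hd 5 Nat.prime_five
      rcases h4 with h | h | h | h
      · have := a2 (by omega); have := a3 (by omega); omega
      · have := a2 (by omega); have := a5 (by omega); omega
      · exact h2 (h ▸ by norm_num)
      · have := a3 (by omega); have := a5 (by omega); omega
    omega
  · obtain ⟨m, rfl⟩ : ∃ m, n = m + 2 := ⟨n - 2, by omega⟩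
    obtain ⟨i, rfl⟩ : ∃ i, j = i + (m + 8) := ⟨j - (m + 8), by omega⟩
    have : m + 2 + 5 - 1 = m + 6 := by omega
    rw [this]
    nlinarith [Nat.zero_le (m * i), Nat.zero_le (m * m)]

theorem exists_central [Finite G] {p : ℕ} [hp : Fact p.Prime] {W : Subgroup G} [W.Normal] (hW : IsPGroup p W)
    (h1 : W ≠ ⊥) (h : IsPGroup p (G ⧸ centralizer (W : Set G))) : W ⊓ center G ≠ ⊥ := by
  let φ : G →* MulAut W := MulAut.conjNormal
  have hr : IsPGroup p φ.range := by
    rintro ⟨_, g, rfl⟩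
    obtain ⟨k, hk⟩ := h (QuotientGroup.mk g)
    rw [← QuotientGroup.mk_pow, QuotientGroup.eq_one_iff] at hk
    refine ⟨k, Subtype.ext ?_⟩
    rw [SubgroupClass.coe_pow, ← map_pow]
    ext w
    simp only [φ, MulAut.conjNormal_apply, OneMemClass.coe_one, MulAut.one_apply]
    rw [← hk w w.2, mul_inv_cancel_right]
  obtain ⟨n, hn⟩ := hW.exists_card_eq
  have hd : p ∣ Nat.card W := by
    rw [hn]
    refine dvd_pow_self _ ?_
    rintro rfl
    exact h1 (card_eq_one.1 hn)
  obtain ⟨b, hb, hb1⟩ := hr.exists_fixed_point_of_prime_dvd_card_of_fixed_point W hd (a := 1)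
    fun g => map_one g.1
  intro e
  have : (b : G) ∈ W ⊓ center G := ⟨b.2, mem_center_iff.2 fun g => by
    have := congrArg Subtype.val (hb ⟨φ g, g, rfl⟩)
    exact mul_inv_eq_iff_eq_mul.1 this⟩
  rw [e, mem_bot] at this
  exact hb1 (Subtype.ext this.symm)

theorem conj_pow_eq {x w d : G} (h : x * w * x⁻¹ = w * d) (hd : x * d * x⁻¹ = d) (k : ℕ) :
    x ^ k * w * (x ^ k)⁻¹ = w * d ^ k := by
  induction k with
  | zero => simp
  | succ k ih =>
    calc x ^ (k + 1) * w * (x ^ (k + 1))⁻¹ = x * (x ^ k * w * (x ^ k)⁻¹) * x⁻¹ := by group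
      _ = (x * w * x⁻¹) * (x * d * x⁻¹) ^ k := by rw [ih, conj_pow]; group
      _ = w * d ^ (k + 1) := by rw [h, hd]; group

theorem mem_cen {x a : G} : a ∈ centralizer ({x} : Set G) ↔ x * a * x⁻¹ = a := by
  rw [mem_centralizer_singleton_iff, mul_inv_eq_iff_eq_mul, eq_comm]

/-- No quadratic action on a noncentral chief factor. -/
theorem not_quad [Finite G] [Group.IsSolvable G] {p q : ℕ} [hp : Fact p.Prime] (h5 : 5 ≤ p) (hq : q.Prime) {x : G}
    (hx : x ^ p = 1) (hn : normalClosure {x} = ⊤) {W : Subgroup G} [hWn : W.Normal] (hc : IsMulCommutative W)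
    (hWq : ∀ w ∈ W, w ^ q = 1) (hmin : ∀ L : Subgroup G, L.Normal → L ≤ W → L = ⊥ ∨ L = W)
    (hnc : ¬ W ≤ center G) (h : ∀ w ∈ W, w⁻¹ * (x * w * x⁻¹) ∈ centralizer {x}) : False := by
  have hk : ∀ w ∈ W, ∀ k : ℕ, x ^ k * w * (x ^ k)⁻¹ = w * (w⁻¹ * (x * w * x⁻¹)) ^ k := fun w hw k =>
    conj_pow_eq (by group) (mem_cen.1 (h w hw)) k
  have hdW : ∀ w ∈ W, w⁻¹ * (x * w * x⁻¹) ∈ W := fun w hw => W.mul_mem (W.inv_mem hw) (hWn.conj_mem w hw x)
  by_cases hqp : q = p
  · subst hqp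
    have hW : IsPGroup q W := fun w => ⟨1, Subtype.ext (by simpa using hWq w w.2)⟩
    have hs := H4.isPStableOn_of_not_sec (by omega) (H4.pSol_top_of_solvable.not_sec_SL2 h5) hW x (by
      have h1 : ⁅W, zpowers x⁆ ≤ centralizer {x} := by
        rw [commutator_comm, commutator_le]
        intro a ha w hw
        obtain ⟨k, rfl⟩ := mem_powers_iff_mem_zpowers.2 ha
        have h2 : (w⁻¹ * (x * w * x⁻¹)) ^ k * w = w * (w⁻¹ * (x * w * x⁻¹)) ^ k :=
          congrArg Subtype.val (hc.is_comm.comm ⟨_, W.pow_mem (hdW w hw) k⟩ ⟨w, hw⟩)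
        rw [commutatorElement_def, hk w hw, ← h2, mul_inv_cancel_right]
        exact pow_mem (h w hw) k
      rw [commutator_eq_bot_iff_le_centralizer]
      refine h1.trans fun a ha b hb => ?_
      obtain ⟨k, rfl⟩ := mem_zpowers_iff.1 hb
      exact ((Commute.zpow_right (mem_centralizer_singleton_iff.1 ha) k).eq).symm)
    have ht := eq_top_of_nc (nc_map hn (QuotientGroup.mk' (centralizer (W : Set G))) (QuotientGroup.mk'_surjective _))
      inferInstance hs
    have hP := H26.isPGroup_pCore q (G ⧸ centralizer (W : Set G))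
    rw [ht] at hP
    have hW1 : W ≠ ⊥ := fun e => hnc (e ▸ bot_le)
    have := exists_central hW hW1 (hP.of_equiv topEquiv)
    rcases hmin (W ⊓ center G) inferInstance inf_le_left with e | e
    · exact this e
    · exact hnc (inf_eq_left.1 e)
  · refine hnc fun w hw => ?_
    have : centralizer (W : Set G) = ⊤ := eq_top_of_nc hn inferInstance fun w hw => by
      have h1 := hk w hw p
      rw [hx] at h1
      have h2 : (w⁻¹ * (x * w * x⁻¹)) ^ p = 1 := by simpa using h1
      have h3 : w⁻¹ * (x * w * x⁻¹) = 1 := by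
        rw [← orderOf_eq_one_iff]
        exact Nat.eq_one_of_dvd_coprimes ((Nat.coprime_primes hq hp.out).2 hqp)
          (orderOf_dvd_of_pow_eq_one (hWq _ (hdW w hw))) (orderOf_dvd_of_pow_eq_one h2)
      rw [inv_mul_eq_one, eq_mul_inv_iff_mul_eq] at h3
      exact h3
    exact mem_center_iff.2 fun g => ((this.ge (mem_top g) : g ∈ centralizer (W : Set G)) w hw).symm

theorem jbound [Finite G] [Group.IsSolvable G] {p q : ℕ} [hp : Fact p.Prime] (h5 : 5 ≤ p) (hq : q.Prime) {x : G}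
    (hx : x ^ p = 1) (hn : normalClosure {x} = ⊤) {W : Subgroup (G ⧸ center G)} [hWn : W.Normal] (h1 : W ≠ ⊥)
    (hc : IsMulCommutative W) (hWq : ∀ w ∈ W, w ^ q = 1)
    (hmin : ∀ L : Subgroup (G ⧸ center G), L.Normal → L ≤ W → L = ⊥ ∨ L = W)
    (hE : ∀ e : G, (e : G ⧸ center G) ∈ W → (∀ y : G, (y : G ⧸ center G) ∈ W → y * e = e * y) → e ∈ center G) :
    4 * (Nat.card W + (p - 1) * Nat.card {w : W // MulAut.conjNormal (x : G ⧸ center G) w = w}) ≤ p * Nat.card W := by
  classical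
  set xb : G ⧸ center G := QuotientGroup.mk x with hxb
  have hxp : xb ^ p = 1 := by rw [hxb, ← QuotientGroup.mk_pow, hx]; rfl
  have hnb : normalClosure {xb} = ⊤ := nc_map hn (QuotientGroup.mk' _) (QuotientGroup.mk'_surjective _)
  set C := W ⊓ centralizer {xb} with hC
  have hf : Nat.card {w : W // MulAut.conjNormal xb w = w} = Nat.card C :=
    Nat.card_congr ⟨fun w => ⟨w.1.1, w.1.2, mem_cen.2 (congrArg Subtype.val w.2)⟩,
      fun c => ⟨⟨c.1, c.2.1⟩, Subtype.ext (mem_cen.1 c.2.2)⟩, fun _ => rfl, fun _ => rfl⟩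
  have hj : Nat.card C * C.relIndex W = Nat.card W := by
    rw [relIndex, ← (C.subgroupOf W).card_mul_index, Nat.card_congr (subgroupOfEquivOfLe inf_le_left).toEquiv]
  have hcm : ∀ a ∈ W, ∀ b ∈ W, a * b = b * a := fun a ha b hb =>
    congrArg Subtype.val (hc.is_comm.comm ⟨a, ha⟩ ⟨b, hb⟩)
  have hlift : ∀ e : G, (e : G ⧸ center G) ∈ W → W ≤ (centralizer {e}).map (QuotientGroup.mk' (center G)) →
      (e : G ⧸ center G) = 1 := fun e he h => (QuotientGroup.eq_one_iff _).2 <| hE e he fun y hy => by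
    obtain ⟨l, hl, e1⟩ := h hy
    have h2 := mem_center_iff.1 (QuotientGroup.eq.1 e1) e
    have h3 := mem_centralizer_singleton_iff.1 hl
    calc y * e = l * (l⁻¹ * y * e) := by group
      _ = l * e * (l⁻¹ * y) := by rw [← h2, mul_assoc l e]
      _ = e * y := by rw [h3]; group
  have hnc : ¬ W ≤ center _ := by
    intro h
    obtain ⟨⟨w, hw⟩, hw1⟩ := ne_bot_iff_exists_ne_one.1 h1
    obtain ⟨e, rfl⟩ := QuotientGroup.mk_surjective w
    have hz : zpowers (e : G ⧸ center G) ≤ W := zpowers_le.2 hw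
    rcases hmin _ ⟨fun a ha g => by
      rw [mem_center_iff.1 (h (hz ha)) g, mul_inv_cancel_right]; exact ha⟩ hz with e1 | e1
    · exact hw1 (Subtype.ext (zpowers_eq_bot.1 e1))
    · refine hw1 (Subtype.ext (hlift e hw ?_))
      rw [← e1, zpowers_le]
      exact ⟨e, mem_centralizer_singleton_iff.2 rfl, rfl⟩
  have hj1 : C.relIndex W ≠ 1 := fun e => not_quad h5 hq hxp hnb hc hWq hmin hnc fun w hw => by
    rw [mem_cen.1 (relIndex_eq_one.1 e hw).2, inv_mul_cancel]; exact one_mem _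
  have hjp : ¬ (C.relIndex W).Prime := by
    intro hpr
    have hmax : ∀ L, C ≤ L → L ≤ W → L ≤ C ∨ W ≤ L := fun L a b => by
      rw [← relIndex_mul_relIndex C L W a b] at hpr
      rcases Nat.prime_mul_iff.1 hpr with h | h
      · exact Or.inr (relIndex_eq_one.1 h.2)
      · exact Or.inl (relIndex_eq_one.1 h.2)
    refine not_quad h5 hq hxp hnb hc hWq hmin hnc fun w hw => ?_
    by_contra hd
    obtain ⟨e, rfl⟩ := QuotientGroup.mk_surjective w
    have hdW : ((e⁻¹ * (x * e * x⁻¹) : G) : G ⧸ center G) ∈ W := W.mul_mem (W.inv_mem hw) (hWn.conj_mem _ hw xb)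
    rcases hmax (W ⊓ (centralizer {e⁻¹ * (x * e * x⁻¹)}).map (QuotientGroup.mk' (center G))) (fun c hc => ⟨hc.1, by
      obtain ⟨c, rfl⟩ := QuotientGroup.mk_surjective c
      refine ⟨c, mem_centralizer_singleton_iff.2 ?_, rfl⟩
      have a1 : (x * c * x⁻¹)⁻¹ * c ∈ center G := QuotientGroup.eq.1 (mem_cen.1 hc.2)
      have a2 : (c * e)⁻¹ * (e * c) ∈ center G := QuotientGroup.eq.1 (hcm _ hc.1 _ hw)
      set z := (x * c * x⁻¹)⁻¹ * c with hz
      set t := (c * e)⁻¹ * (e * c) with ht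
      have b1 : c = x * c * x⁻¹ * z := by rw [hz]; group
      have b2 : e * c = c * e * t := by rw [ht]; group
      have b3 : x * e * x⁻¹ * c = c * (x * e * x⁻¹) * t := by
        calc x * e * x⁻¹ * c = x * e * x⁻¹ * (x * c * x⁻¹ * z) := by rw [← b1]
          _ = x * (e * c) * x⁻¹ * z := by group
          _ = x * c * e * (t * x⁻¹) * z := by rw [b2]; group
          _ = x * c * x⁻¹ * (x * e * x⁻¹ * t * z) := by rw [← mem_center_iff.1 a2]; group
          _ = x * c * x⁻¹ * z * (x * e * x⁻¹ * t) := by rw [mem_center_iff.1 a1]; group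
          _ = _ := by rw [← b1]; group
      calc c * (e⁻¹ * (x * e * x⁻¹)) = e⁻¹ * (e * c) * e⁻¹ * (x * e * x⁻¹) := by group
        _ = e⁻¹ * c * (e * t * e⁻¹) * (x * e * x⁻¹) := by rw [b2]; group
        _ = e⁻¹ * c * (t * (x * e * x⁻¹)) := by rw [mem_center_iff.1 a2 e]; group
        _ = e⁻¹ * (c * (x * e * x⁻¹) * t) := by rw [← mem_center_iff.1 a2]; group
        _ = _ := by rw [← b3]; group⟩) inf_le_left with h | h
    · exact hd (h ⟨hdW, _, mem_centralizer_singleton_iff.2 rfl, rfl⟩).2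
    · have := hlift _ hdW (h.trans inf_le_right)
      exact hd ((show (e : G ⧸ center G)⁻¹ * (xb * e * xb⁻¹) = 1 from this) ▸ one_mem _)
  have := Fact.mk hq
  have hW : IsPGroup q W := fun w => ⟨1, Subtype.ext (by simpa using hWq w w.2)⟩
  obtain ⟨n, hn⟩ := hW.exists_card_eq
  obtain ⟨k, -, hk⟩ := (Nat.dvd_prime_pow hq).1 (hn ▸ Dvd.intro_left _ hj)
  obtain ⟨k', -, hk'⟩ := (Nat.dvd_prime_pow hq).1 (hn ▸ Dvd.intro _ hj)
  have hmod : Nat.card W ≡ Nat.card C [MOD p] := by
    have := Fintype.ofFinite W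
    have h := Equiv.Perm.card_fixedPoints_modEq (f := (fun w => MulAut.conjNormal xb w : W → W)) (p := p) (n := 1) (by
      rw [pow_one]
      funext w
      change (MulAut.toPerm W (MulAut.conjNormal xb))^[p] w = w
      rw [Equiv.Perm.iterate_eq_pow, ← map_pow, ← map_pow, hxp, map_one, map_one]; rfl)
    rw [← hf, Nat.card_eq_fintype_card, Nat.card_eq_fintype_card]
    convert h
    rfl
  have h3 : C.relIndex W % p = 0 ∨ C.relIndex W % p = 1 := by
    by_cases hqp : q = p
    · left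
      rw [← Nat.dvd_iff_mod_eq_zero, hk, hqp]
      exact dvd_pow_self _ (by rintro rfl; exact hj1 (by simpa using hk))
    · right
      rw [← hj] at hmod
      have h4 : C.relIndex W ≡ 1 [MOD p] := Nat.ModEq.cancel_left_of_coprime (c := Nat.card C)
        (by rw [hk']; exact ((Nat.coprime_primes hp.out hq).2 (Ne.symm hqp)).pow_right _) (by simpa using hmod)
      rw [h4, Nat.mod_eq_of_lt hp.out.one_lt]
  have h6 := arith hp.out h5 hq hk hj1 hjp h3
  rw [hf, ← hj]
  nlinarith [Nat.mul_le_mul_left (Nat.card C) h6]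

end H27.Fx
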