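import Cfsg.Agent.H27.Fx2
import Mathlib.RepresentationTheory.Basic
import Mathlib.LinearAlgebra.Eigenspace.Triangularizable
import Mathlib.RingTheory.IntegralDomain

/-! Fixed space of an element of prime order `p ≥ 5` whose conjugates generate a solvable group, on a faithful
irreducible module over an algebraically closed field: weight spaces (`wt`), the two cases `case1`, `case2`,
and `core`. -/

namespace H27.Fx

open Subgroup Module
open scoped commutatorElement

variable {K : Type*} [Field K] {V : Type*} [AddCommGroup V] [Module K V] {G : Type*} [Group G]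

/-- Weight space. -/
def wt (θ : Representation K G V) (E : Subgroup G) (l : E → K) : Submodule K V :=
  ⨅ y : E, Module.End.eigenspace (θ y) (l y)

theorem mem_wt {θ : Representation K G V} {E : Subgroup G} {l : E → K} {v : V} :
    v ∈ wt θ E l ↔ ∀ y : E, θ y v = l y • v := by
  simp [wt]

theorem wt_indep (θ : Representation K G V) (E : Subgroup G) : iSupIndep (wt θ E) :=
  iSupIndep.iInf (fun (y : E) (c : K) => Module.End.eigenspace (θ y) c) fun _ => Module.End.eigenspaces_iSupIndep _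

theorem wt_map {θ : Representation K G V} {E : Subgroup G} [hE : E.Normal] (g : G) {l l' : E → K}
    (h : ∀ y : E, l' y = l ⟨g⁻¹ * y * g, hE.conj_mem' _ y.2 g⟩) {v : V} (hv : v ∈ wt θ E l) : θ g v ∈ wt θ E l' := by
  refine mem_wt.2 fun y => ?_
  have h1 := mem_wt.1 hv ⟨g⁻¹ * y * g, hE.conj_mem' _ y.2 g⟩
  rw [h, ← map_smul, ← h1, ← Module.End.mul_apply, ← Module.End.mul_apply, ← map_mul, ← map_mul]
  congr 2
  group

theorem rank_le [FiniteDimensional K V] {A B : Submodule K V} (f : V →ₗ[K] V) (hf : Function.Injective f)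
    (h : ∀ v ∈ A, f v ∈ B) : finrank K A ≤ finrank K B :=
  LinearMap.finrank_le_finrank_of_injective (f := f.restrict h) fun _ _ e => Subtype.ext (hf (congrArg Subtype.val e))

theorem rep_inj (θ : Representation K G V) (g : G) : Function.Injective (θ g) := fun a b h => by
  simpa using congrArg (θ g⁻¹) h

/-- Irreducibility. -/
def Irr (ρ : Representation K G V) : Prop := ∀ U : Submodule K V, (∀ g, ∀ v ∈ U, ρ g v ∈ U) → U = ⊥ ∨ U = ⊤

theorem scal_min [IsAlgClosed K] [FiniteDimensional K V] (ρ : Representation K G V) (A : Subgroup G)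
    {U : Submodule K V} (h0 : U ≠ ⊥) (hU : ∀ g ∈ A, ∀ v ∈ U, ρ g v ∈ U)
    (hmin : ∀ U' ≤ U, (∀ g ∈ A, ∀ v ∈ U', ρ g v ∈ U') → U' = ⊥ ∨ U' = U) {z : G} (hz : z ∈ A)
    (hc : ∀ g ∈ A, g * z = z * g) : ∃ c : K, ∀ v ∈ U, ρ z v = c • v := by
  have : Nontrivial U := Submodule.nontrivial_iff_ne_bot.2 h0
  obtain ⟨c, hc2⟩ := Module.End.exists_eigenvalue ((ρ z).restrict (hU z hz))
  obtain ⟨v, hv⟩ := hc2.exists_hasEigenvector
  refine ⟨c, ?_⟩
  rcases hmin (U ⊓ Module.End.eigenspace (ρ z) c) inf_le_left (fun g hg w hw => ⟨hU g hg w hw.1, by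
    have := Module.End.mem_eigenspace_iff.1 hw.2
    refine Module.End.mem_eigenspace_iff.2 ?_
    rw [← map_smul, ← this, ← Module.End.mul_apply, ← Module.End.mul_apply, ← map_mul, ← map_mul, hc g hg]⟩) with h | h
  · have : (v : V) ∈ U ⊓ Module.End.eigenspace (ρ z) c :=
      ⟨v.2, Module.End.mem_eigenspace_iff.2 (congrArg Subtype.val hv.apply_eq_smul)⟩
    rw [h, Submodule.mem_bot] at this
    exact absurd (Subtype.ext this) hv.2
  · exact fun w hw => Module.End.mem_eigenspace_iff.1 (h.ge hw).2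

theorem Irr.scalar [IsAlgClosed K] [FiniteDimensional K V] [Nontrivial V] {ρ : Representation K G V} (h : Irr ρ)
    {z : G} (hz : z ∈ center G) : ∃ c : K, ρ z = c • 1 := by
  obtain ⟨c, hc⟩ := scal_min ρ ⊤ (U := ⊤) top_ne_bot (fun _ _ _ _ => trivial)
    (fun U _ hU => h U fun g => hU g trivial) (z := z) trivial fun g _ => mem_center_iff.1 hz g
  exact ⟨c, LinearMap.ext fun v => hc v trivial⟩

theorem exists_wt [IsAlgClosed K] [FiniteDimensional K V] [Nontrivial V] (ρ : Representation K G V)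
    (A : Subgroup G) (hc : IsMulCommutative A) : ∃ l, wt ρ A l ≠ ⊥ := by
  obtain ⟨U, hU, hmin⟩ := exists_minimal_of_wellFoundedLT
    (fun U : Submodule K V => U ≠ ⊥ ∧ ∀ g ∈ A, ∀ v ∈ U, ρ g v ∈ U) ⟨⊤, top_ne_bot, fun _ _ _ _ => trivial⟩
  choose l hl using fun z : A => scal_min ρ A hU.1 hU.2
    (fun U' h1 h2 => or_iff_not_imp_left.2 fun h => le_antisymm h1 (hmin ⟨h, h2⟩ h1)) z.2
    fun g hg => congrArg Subtype.val (hc.is_comm.comm ⟨g, hg⟩ z)
  exact ⟨l, fun e => hU.1 (eq_bot_iff.2 fun v hv => e ▸ mem_wt.2 fun y => hl y v hv)⟩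

/-- Action on weights. -/
@[reducible] def wact (E : Subgroup G) [hE : E.Normal] (K : Type*) : MulAction G (E → K) where
  smul g l := fun y => l ⟨g⁻¹ * y * g, hE.conj_mem' _ y.2 g⟩
  one_smul l := funext fun y => congrArg l (Subtype.ext (by simp))
  mul_smul a b l := funext fun y => congrArg l (Subtype.ext (by simp [mul_assoc]))

theorem case1 [IsAlgClosed K] [FiniteDimensional K V] [Nontrivial V] [Finite G] [Group.IsSolvable G]
    {ρ : Representation K G V} (hi : Irr ρ) (hf : Function.Injective ρ) {p : ℕ} [hp : Fact p.Prime] (h5 : 5 ≤ p)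
    {x : G} (hx : x ^ p = 1) (hn : normalClosure {x} = ⊤) (A : Subgroup G) [A.Normal] (hc : IsMulCommutative A)
    (hA : ¬ A ≤ center G) : 2 * finrank K (LinearMap.ker (ρ x - LinearMap.id)) < finrank K V := by
  obtain ⟨l, hl⟩ := exists_wt ρ A hc
  let := wact A K
  have hmap : ∀ (g : G) (m : A → K), ∀ v ∈ wt ρ A m, ρ g v ∈ wt ρ A (g • m) := fun g m v hv =>
    wt_map g (fun _ => rfl) hv
  have hH : MulAction.stabilizer G l ≠ ⊤ := by
    intro e
    rcases hi (wt ρ A l) (fun g v hv => by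
      have := hmap g l v hv
      rwa [show g • l = l from e.ge (mem_top g)] at this) with h | h
    · exact hl h
    · refine hA fun a ha => mem_center_iff.2 fun g => hf (LinearMap.ext fun v => ?_)
      rw [map_mul, map_mul, Module.End.mul_apply, Module.End.mul_apply, mem_wt.1 (h.ge trivial) ⟨a, ha⟩,
        mem_wt.1 (h.ge trivial) ⟨a, ha⟩, map_smul]
  have hstep : ∀ (g : G) ω, ∀ v ∈ wt ρ A (MulAction.ofQuotientStabilizer G l ω),
      ρ g v ∈ wt ρ A (MulAction.ofQuotientStabilizer G l (g • ω)) := fun g ω v hv => by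
    rw [MulAction.ofQuotientStabilizer_smul]; exact hmap _ _ _ hv
  have h1 : MulAction.ofQuotientStabilizer G l (QuotientGroup.mk 1) = l := by simp
  obtain ⟨e1, e2⟩ := graded (fun ω => wt ρ A (MulAction.ofQuotientStabilizer G l ω))
    ((wt_indep ρ A).comp (MulAction.injective_ofQuotientStabilizer G l))
    ((hi _ fun g v hv => Submodule.iSup_induction (motive := fun v => ρ g v ∈ _) _ hv
      (fun ω v hv => Submodule.mem_iSup_of_mem _ (hstep g ω v hv)) (by simp)
      fun a b ha hb => by rw [map_add]; exact add_mem ha hb).resolve_left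
      fun e => hl (eq_bot_iff.2 (le_trans (by rw [h1])
        ((le_iSup (fun ω => wt ρ A (MulAction.ofQuotientStabilizer G l ω)) (QuotientGroup.mk 1)).trans e.le))))
    (m := finrank K (wt ρ A l)) (fun ω => by
      obtain ⟨g, rfl⟩ := QuotientGroup.mk_surjective ω
      rw [MulAction.ofQuotientStabilizer_mk]
      refine le_antisymm ?_ (rank_le _ (rep_inj ρ g) (hmap g l))
      have := rank_le _ (rep_inj ρ g⁻¹) (hmap g⁻¹ (g • l))
      rwa [inv_smul_smul] at this)
    (MulAction.toPermHom G _ x) (ρ x) (hstep x) (p := p) (by rw [← map_pow, hx, map_one])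
  have e3 := fpr' (by omega) hx hn hH
  have e4 : 0 < finrank K V := finrank_pos
  change _ ≤ _ * (_ + (p - 1) * Nat.card {ω : G ⧸ MulAction.stabilizer G l // x • ω = ω}) at e2
  obtain ⟨n, rfl⟩ : ∃ n, p = n + 5 := ⟨p - 5, by omega⟩
  rw [show n + 5 - 1 = n + 4 from rfl] at e2
  generalize finrank K (LinearMap.ker (ρ x - LinearMap.id)) = c at *
  generalize finrank K (wt ρ A l) = m at *
  generalize Nat.card {ω : G ⧸ MulAction.stabilizer G l // x • ω = ω} = f at *
  generalize Nat.card (G ⧸ MulAction.stabilizer G l) = w at *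
  rw [e1] at e4 ⊢
  by_contra h
  push Not at h
  have a1 : m * ((n + 4) * (3 * f)) ≤ m * ((n + 4) * w) := Nat.mul_le_mul_left _ (Nat.mul_le_mul_left _ e3)
  nlinarith [Nat.mul_le_mul_left (n + 5) h, Nat.zero_le (n * (m * w))]

theorem sq_lt [FiniteDimensional K V] (ρ : Representation K G V) {x : G} (hx : ρ x ≠ 1) :
    finrank K (LinearMap.ker (ρ x - LinearMap.id)) ^ 2 <
      finrank K (LinearMap.ker (ρ.linHom ρ x - LinearMap.id)) := by
  set U := LinearMap.ker (ρ x - LinearMap.id)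
  set I := LinearMap.range (ρ x - LinearMap.id)
  have h1 : finrank K (V ⧸ I) = finrank K U := by
    have a := I.finrank_quotient_add_finrank
    have b : finrank K I + finrank K U = _ := (ρ x - LinearMap.id).finrank_range_add_finrank_ker
    omega
  let Φ : ((V ⧸ I) →ₗ[K] U) →ₗ[K] (V →ₗ[K] V) :=
    { toFun := fun φ => U.subtype ∘ₗ φ ∘ₗ I.mkQ
      map_add' := fun a b => by ext; simp
      map_smul' := fun a b => by ext; simp }
  have hΦ : Function.Injective Φ := fun a b h => by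
    ext v
    exact LinearMap.congr_fun h v
  have h2 : LinearMap.range Φ < LinearMap.ker (ρ.linHom ρ x - LinearMap.id) := by
    refine lt_of_le_of_ne ?_ fun e => hx ?_
    · rintro _ ⟨φ, rfl⟩
      rw [LinearMap.mem_ker, LinearMap.sub_apply, sub_eq_zero]
      ext v
      have a : I.mkQ (ρ x⁻¹ v) = I.mkQ v := by
        rw [eq_comm, Submodule.mkQ_apply, Submodule.mkQ_apply, Submodule.Quotient.eq]
        exact ⟨ρ x⁻¹ v, by simp⟩
      have b := (φ (I.mkQ v)).2
      rw [LinearMap.mem_ker, LinearMap.sub_apply, sub_eq_zero] at b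
      change ρ x (φ (I.mkQ (ρ x⁻¹ v))) = φ (I.mkQ v)
      rw [a]; exact b
    · obtain ⟨φ, hφ⟩ : LinearMap.id ∈ LinearMap.range Φ := by
        rw [e, LinearMap.mem_ker, LinearMap.sub_apply, sub_eq_zero]
        ext v; simp
      ext v
      have b := (φ (I.mkQ v)).2
      rw [LinearMap.mem_ker, LinearMap.sub_apply, sub_eq_zero] at b
      have c : (φ (I.mkQ v) : V) = v := LinearMap.congr_fun hφ v
      rw [c] at b
      exact b
  have h3 := Submodule.finrank_lt_finrank_of_lt h2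
  rwa [LinearMap.finrank_range_of_inj hΦ, Module.finrank_linearMap, h1, ← sq] at h3

theorem case2 [IsAlgClosed K] [FiniteDimensional K V] [Nontrivial V] [Finite G] [Group.IsSolvable G]
    (ℓ : ℕ) [hℓ : Fact ℓ.Prime] [CharP K ℓ]
    {ρ : Representation K G V} (hi : Irr ρ) (hf : Function.Injective ρ) {p : ℕ} [hp : Fact p.Prime] (h5 : 5 ≤ p)
    {x : G} (hx : x ^ p = 1) (hx1 : x ≠ 1) (hn : normalClosure {x} = ⊤) [Nontrivial (G ⧸ center G)]
    (hA : ∀ A : Subgroup G, A.Normal → IsMulCommutative A → A ≤ center G) :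
    2 * finrank K (LinearMap.ker (ρ x - LinearMap.id)) < finrank K V := by
  classical
  obtain ⟨W, q, hWn, hW1, hq, hc, hWq, hWp, hmin⟩ := H1.exists_normal_elementary (G ⧸ center G)
  have hE : ∀ e : G, (e : G ⧸ center G) ∈ W → (∀ y : G, (y : G ⧸ center G) ∈ W → y * e = e * y) → e ∈ center G :=
    fun e he h => hA (W.comap (QuotientGroup.mk' _) ⊓ centralizer (W.comap (QuotientGroup.mk' (center G)) : Set G))
      inferInstance ⟨⟨fun a b => Subtype.ext (b.2.2 a a.2.1)⟩⟩ ⟨he, fun y hy => h y hy⟩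
  have hsc : ∀ z : G, ∃ c : K, z ∈ center G → ρ z = c • 1 := fun z => by
    by_cases hz : z ∈ center G
    · obtain ⟨c, hc⟩ := hi.scalar hz
      exact ⟨c, fun _ => hc⟩
    · exact ⟨0, fun h => absurd h hz⟩
  choose sc hsc using hsc
  have huniq : ∀ c c' : K, c • (1 : V →ₗ[K] V) = c' • 1 → c = c' := fun _ _ h => smul_left_injective K one_ne_zero h
  have hκ : ∀ a c : G, ⁅(a : G ⧸ center G).out, (c : G ⧸ center G).out⁆ = ⁅a, c⁆ := fun a c => by
    obtain ⟨⟨z, hz2⟩, hz⟩ := QuotientGroup.mk_out_eq_mul (center G) a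
    obtain ⟨⟨t, ht2⟩, ht⟩ := QuotientGroup.mk_out_eq_mul (center G) c
    rw [hz, ht, commutatorElement_def, commutatorElement_def]
    dsimp only
    calc a * z * (c * t) * (a * z)⁻¹ * (c * t)⁻¹ = a * (z * (c * t)) * z⁻¹ * a⁻¹ * (c * t)⁻¹ := by group
      _ = a * c * (t * a⁻¹) * t⁻¹ * c⁻¹ := by rw [← mem_center_iff.1 hz2]; group
      _ = _ := by rw [← mem_center_iff.1 ht2]; group
  have hcm : ∀ a ∈ W, ∀ b ∈ W, a * b = b * a := fun a ha b hb =>
    congrArg Subtype.val (hc.is_comm.comm ⟨a, ha⟩ ⟨b, hb⟩)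
  have hcen : ∀ a c : G, (a : G ⧸ center G) ∈ W → (c : G ⧸ center G) ∈ W → ⁅a, c⁆ ∈ center G := fun a c ha hc => by
    rw [← QuotientGroup.eq_one_iff]
    exact commutatorElement_eq_one_iff_mul_comm.2 (hcm _ ha _ hc)
  obtain ⟨b, hb⟩ : ∃ b : G ⧸ center G → G ⧸ center G → K, ∀ a c : G, (a : G ⧸ center G) ∈ W →
      (c : G ⧸ center G) ∈ W → ρ ⁅a, c⁆ = b a c • 1 :=
    ⟨fun u w => sc ⁅u.out, w.out⁆, fun a c ha hc => by simp only [hκ]; exact hsc _ (hcen a c ha hc)⟩
  have bmr : ∀ u ∈ W, ∀ w ∈ W, ∀ w' ∈ W, b u (w * w') = b u w * b u w' := fun u hu w hw w' hw' => by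
    obtain ⟨u, rfl⟩ := QuotientGroup.mk_surjective u
    obtain ⟨w, rfl⟩ := QuotientGroup.mk_surjective w
    obtain ⟨w', rfl⟩ := QuotientGroup.mk_surjective w'
    refine huniq _ _ ?_
    have h1 : ⁅u, w * w'⁆ = ⁅u, w⁆ * ⁅u, w'⁆ := by
      calc ⁅u, w * w'⁆ = ⁅u, w⁆ * (w * ⁅u, w'⁆) * w⁻¹ := by simp only [commutatorElement_def]; group
        _ = _ := by rw [mem_center_iff.1 (hcen _ _ hu hw')]; group
    rw [← QuotientGroup.mk_mul, ← hb _ _ hu (W.mul_mem hw hw'), h1, map_mul, hb _ _ hu hw, hb _ _ hu hw',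
      smul_mul_smul_comm, mul_one]
  have bml : ∀ u ∈ W, ∀ u' ∈ W, ∀ w ∈ W, b (u * u') w = b u w * b u' w := fun u hu u' hu' w hw => by
    obtain ⟨u, rfl⟩ := QuotientGroup.mk_surjective u
    obtain ⟨w, rfl⟩ := QuotientGroup.mk_surjective w
    obtain ⟨u', rfl⟩ := QuotientGroup.mk_surjective u'
    refine huniq _ _ ?_
    have h1 : ⁅u * u', w⁆ = ⁅u', w⁆ * ⁅u, w⁆ := by
      calc ⁅u * u', w⁆ = (u * ⁅u', w⁆) * u⁻¹ * ⁅u, w⁆ := by simp only [commutatorElement_def]; group
        _ = _ := by rw [mem_center_iff.1 (hcen _ _ hu' hw)]; group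
    rw [← QuotientGroup.mk_mul, ← hb _ _ (W.mul_mem hu hu') hw, h1, map_mul, hb _ _ hu hw, hb _ _ hu' hw,
      smul_mul_smul_comm, mul_one, mul_comm]
  have b1 : ∀ a c : G, (a : G ⧸ center G) ∈ W → (c : G ⧸ center G) ∈ W → (b a c = 1 ↔ a * c = c * a) :=
    fun a c ha hc => by
    rw [← commutatorElement_eq_one_iff_mul_comm]
    refine ⟨fun h => hf (by rw [hb a c ha hc, h, one_smul, map_one]), fun h => huniq _ _ ?_⟩
    rw [← hb a c ha hc, h, one_smul, map_one]
  have b1r : ∀ u ∈ W, b u 1 = 1 := fun u hu => by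
    obtain ⟨u, rfl⟩ := QuotientGroup.mk_surjective u
    exact (b1 u 1 hu W.one_mem).2 (by simp)
  have b1l : ∀ u ∈ W, b 1 u = 1 := fun u hu => by
    obtain ⟨u, rfl⟩ := QuotientGroup.mk_surjective u
    exact (b1 1 u W.one_mem hu).2 (by simp)
  have ndr : ∀ w ∈ W, (∀ u ∈ W, b u w = 1) → w = 1 := fun w hw h => by
    obtain ⟨w, rfl⟩ := QuotientGroup.mk_surjective w
    exact (QuotientGroup.eq_one_iff _).2 (hE w hw fun y hy => (b1 y w hy hw).1 (h _ hy))
  have ndl : ∀ w ∈ W, (∀ u ∈ W, b w u = 1) → w = 1 := fun w hw h => by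
    obtain ⟨w, rfl⟩ := QuotientGroup.mk_surjective w
    exact (QuotientGroup.eq_one_iff _).2 (hE w hw fun y hy => ((b1 w y hw hy).1 (h _ hy)).symm)
  have bcj : ∀ g, ∀ u ∈ W, ∀ w ∈ W, b u (g * w * g⁻¹) = b (g⁻¹ * u * g) w := fun g u hu w hw => by
    obtain ⟨u, rfl⟩ := QuotientGroup.mk_surjective u
    obtain ⟨w, rfl⟩ := QuotientGroup.mk_surjective w
    obtain ⟨g, rfl⟩ := QuotientGroup.mk_surjective g
    refine huniq _ _ ?_
    have a1 : ((g * w * g⁻¹ : G) : G ⧸ center G) ∈ W := hWn.conj_mem _ hw (g : G ⧸ center G)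
    have a2 : ((g⁻¹ * u * g : G) : G ⧸ center G) ∈ W := hWn.conj_mem' _ hu (g : G ⧸ center G)
    have h1 : ⁅u, g * w * g⁻¹⁆ = ⁅g⁻¹ * u * g, w⁆ := by
      calc ⁅u, g * w * g⁻¹⁆ = g * ⁅g⁻¹ * u * g, w⁆ * g⁻¹ := by simp only [commutatorElement_def]; group
        _ = _ := by rw [mem_center_iff.1 (hcen _ _ a2 hw)]; group
    exact (hb _ _ hu a1).symm.trans (h1 ▸ hb _ _ a2 hw)
  let β : W → (W →* K) := fun u =>
    { toFun := fun w => b u w
      map_one' := b1r u u.2
      map_mul' := fun w w' => bmr u u.2 w w.2 w' w'.2 }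
  have hcard : (Nat.card W : K) ≠ 0 := by
    have := Fact.mk hq
    obtain ⟨n, hn⟩ := hWp.exists_card_eq
    rw [hn, Ne, CharP.cast_eq_zero_iff K ℓ]
    intro h
    have hql := (Nat.prime_dvd_prime_iff_eq hℓ.out hq).1 (hℓ.out.dvd_of_dvd_pow h)
    subst hql
    refine hW1 (eq_bot_iff.2 fun w hw => mem_bot.2 (ndr w hw fun u hu => ?_))
    have h1 : (β ⟨u, hu⟩ ⟨w, hw⟩) ^ ℓ = 1 := by
      rw [← map_pow, show (⟨w, hw⟩ : W) ^ ℓ = 1 from Subtype.ext (hWq w hw), map_one]
    have h2 : (β ⟨u, hu⟩ ⟨w, hw⟩ - 1) ^ ℓ = 0 := by rw [sub_pow_char, h1, one_pow, sub_self]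
    exact sub_eq_zero.1 (pow_eq_zero_iff hℓ.out.ne_zero |>.1 h2)
  let θ : Representation K (G ⧸ center G) (V →ₗ[K] V) := QuotientGroup.lift (center G) (ρ.linHom ρ) fun z hz => by
    ext φ v
    simp only [Representation.linHom_apply, LinearMap.comp_apply, Module.End.one_apply]
    rw [hsc z hz, LinearMap.smul_apply, Module.End.one_apply, ← map_smul]
    congr 1
    have := LinearMap.congr_fun (hsc z hz) (ρ z⁻¹ v)
    rw [LinearMap.smul_apply, Module.End.one_apply] at this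
    rw [← this]; simp
  have hθ : ∀ (a : G) (φ : V →ₗ[K] V), θ a φ = ρ a * φ * ρ a⁻¹ := fun _ _ => rfl
  let l : W → W → K := fun w y => b y w
  have hl : Function.Injective l := fun w w' h => by
    refine Subtype.ext (mul_inv_eq_one.1 (ndr _ (W.mul_mem w.2 (W.inv_mem w'.2)) fun u hu => ?_))
    rw [bmr u hu _ w.2 _ (W.inv_mem w'.2), show b u w = b u w' from congrFun h ⟨u, hu⟩,
      ← bmr u hu _ w'.2 _ (W.inv_mem w'.2), mul_inv_cancel, b1r u hu]
  have hle : ∀ w w' : W, finrank K (wt θ W (l w')) ≤ finrank K (wt θ W (l (w * w'))) := fun w w' => by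
    obtain ⟨w, hw⟩ := w
    obtain ⟨e, rfl⟩ := QuotientGroup.mk_surjective w
    refine rank_le (LinearMap.mulLeft K (ρ e)) (fun φ ψ h => ?_) fun φ hφ => mem_wt.2 fun y => ?_
    · have := congrArg (ρ e⁻¹ * ·) h
      simpa [← mul_assoc, ← map_mul] using this
    · have h1 := mem_wt.1 hφ y
      obtain ⟨y, hy⟩ := y
      obtain ⟨y, rfl⟩ := QuotientGroup.mk_surjective y
      change θ y (ρ e * φ) = b y (e * w') • (ρ e * φ)
      change θ y φ = b y w' • φ at h1
      have h2 : ρ y * ρ e = ρ ⁅y, e⁆ * ρ e * ρ y := by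
        rw [← map_mul, ← map_mul, ← map_mul, commutatorElement_def]; congr 1; group
      rw [hθ] at h1
      rw [hθ, ← mul_assoc, h2, hb _ _ hy hw, bmr _ hy _ hw _ w'.2, mul_assoc, mul_assoc, mul_assoc, ← mul_assoc (ρ y), h1]
      simp only [smul_mul_assoc, one_mul, mul_smul_comm, smul_smul, mul_comm]
  have := Fintype.ofFinite W
  have htop : ⨆ w, wt θ W (l w) = ⊤ := by
    refine eq_top_iff.2 fun φ _ => ?_
    have h1 : ∀ w : W, ∑ u : W, b (u⁻¹ : W) w • θ u φ ∈ wt θ W (l w) := fun w => mem_wt.2 fun y => by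
      rw [map_sum, Finset.smul_sum]
      refine Fintype.sum_equiv (Equiv.mulLeft y) _ _ fun u => ?_
      rw [map_smul, ← Module.End.mul_apply, ← map_mul, smul_smul]
      congr 1
      change b (u⁻¹ : W) w = b y w * b ((y * u)⁻¹ : W) w
      rw [← bml _ y.2 _ (Subtype.prop _) _ w.2]
      congr 1
      rw [hcm _ y.2 _ (Subtype.prop _)]
      simp
    have h2 : ∑ w : W, ∑ u : W, b (u⁻¹ : W) w • θ u φ = (Nat.card W : K) • φ := by
      rw [Finset.sum_comm, Finset.sum_eq_single 1]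
      · simp [b1l, Nat.cast_smul_eq_nsmul]
      · intro u _ hu
        rw [← Finset.sum_smul, show ∑ w : W, b (u⁻¹ : W) w = 0 from sum_hom_units_eq_zero (β u⁻¹) fun e => hu ?_,
          zero_smul]
        exact inv_eq_one.1 (Subtype.ext (ndl _ (Subtype.prop _) fun w hw => DFunLike.congr_fun e ⟨w, hw⟩))
      · simp
    rw [← Submodule.smul_mem_iff _ hcard, ← h2]
    exact Submodule.sum_mem _ fun w _ => Submodule.mem_iSup_of_mem w (h1 w)
  obtain ⟨e1, e2⟩ := graded (fun w => wt θ W (l w)) ((wt_indep θ W).comp hl) htop (m := finrank K (wt θ W (l 1)))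
    (fun w => le_antisymm (by have := hle w⁻¹ w; rwa [inv_mul_cancel] at this) (by have := hle w 1; rwa [mul_one] at this))
    (MulAut.toPerm W (MulAut.conjNormal (x : G ⧸ center G))) (θ x)
    (fun w φ hφ => wt_map _ (fun y => bcj _ _ y.2 _ w.2) hφ) (p := p)
    (by rw [← map_pow, ← map_pow, ← QuotientGroup.mk_pow, hx, QuotientGroup.mk_one, map_one, map_one])
  have e3 := jbound h5 hq hx hn hW1 hc hWq hmin hE
  have e4 := sq_lt ρ (x := x) fun e => hx1 (hf (e.trans (map_one ρ).symm))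
  change _ ≤ _ * (_ + (p - 1) * Nat.card {w : W // MulAut.conjNormal (x : G ⧸ center G) w = w}) at e2
  obtain ⟨D, e4, e2⟩ : ∃ D, finrank K (LinearMap.ker (ρ x - LinearMap.id)) ^ 2 < D ∧ p * D ≤ _ := ⟨_, e4, e2⟩
  rw [Module.finrank_linearMap] at e1
  generalize finrank K (LinearMap.ker (ρ x - LinearMap.id)) = c at *
  generalize finrank K (wt θ W (l 1)) = m at *
  generalize Nat.card W + (p - 1) * Nat.card {w : W // MulAut.conjNormal (x : G ⧸ center G) w = w} = f at *
  generalize finrank K V = d at *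
  have a1 : p * (4 * D) ≤ p * (d * d) := by
    calc p * (4 * D) = 4 * (p * D) := by ring
      _ ≤ 4 * (m * f) := Nat.mul_le_mul_left _ e2
      _ = m * (4 * f) := by ring
      _ ≤ m * (p * Nat.card W) := Nat.mul_le_mul_left _ e3
      _ = _ := by rw [e1]; ring
  have a2 := Nat.le_of_mul_le_mul_left a1 hp.out.pos
  by_contra h
  push Not at h
  nlinarith [Nat.mul_le_mul h h]

theorem core [IsAlgClosed K] [FiniteDimensional K V] [Nontrivial V] [Finite G] [Group.IsSolvable G]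
    (ℓ : ℕ) [hℓ : Fact ℓ.Prime] [CharP K ℓ]
    {ρ : Representation K G V} (hi : Irr ρ) (hf : Function.Injective ρ) {p : ℕ} [hp : Fact p.Prime] (h5 : 5 ≤ p)
    {x : G} (hx : x ^ p = 1) (hx1 : x ≠ 1) (hn : normalClosure {x} = ⊤) :
    2 * finrank K (LinearMap.ker (ρ x - LinearMap.id)) < finrank K V := by
  by_cases hz : x ∈ center G
  · obtain ⟨c, hc⟩ := hi.scalar hz
    have h1 : LinearMap.ker (ρ x - LinearMap.id) = ⊥ := by
      refine eq_bot_iff.2 fun v hv => ?_
      have h2 : (c - 1) • v = 0 := by simpa [hc, sub_smul] using hv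
      refine (smul_eq_zero.1 h2).resolve_left fun e => hx1 (hf ?_)
      rw [hc, sub_eq_zero.1 e, one_smul, map_one]
    rw [h1, finrank_bot]
    exact finrank_pos
  have : Nontrivial (G ⧸ center G) := ⟨x, 1, fun e => hz ((QuotientGroup.eq_one_iff _).1 e)⟩
  by_cases hA : ∀ A : Subgroup G, A.Normal → IsMulCommutative A → A ≤ center G
  · exact case2 ℓ hi hf h5 hx hx1 hn hA
  · push Not at hA
    obtain ⟨A, _, h1, h2⟩ := hA
    exact case1 hi hf h5 hx hn A h1 h2

end H27.Fx
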