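import Cfsg.Agent.H27.Fx3
import Cfsg.Agent.H16.PermModule
import Mathlib.FieldTheory.IsAlgClosed.AlgebraicClosure
import Mathlib.RingTheory.Flat.Basic

/-! Flavell's bound: if a solvable group is generated by the conjugates of an element `x` of prime order
`p ≥ 5` and acts irreducibly and nontrivially on `V` in positive characteristic then `2 dim C_V(x) < dim V`
(`half`). -/

namespace H27.Fx

open Subgroup Module
open scoped TensorProduct

universe v

variable {K : Type*} [Field K] {V : Type*} [AddCommGroup V] [Module K V] {G : Type*} [Group G]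

/-- The faithful quotient representation. -/
def fq (ρ : Representation K G V) : Representation K (G ⧸ MonoidHom.ker ρ) V :=
  QuotientGroup.lift (MonoidHom.ker ρ) ρ fun _ h => h

theorem fq_inj (ρ : Representation K G V) : Function.Injective (fq ρ) := fun a b h => by
  obtain ⟨a, rfl⟩ := QuotientGroup.mk_surjective a
  obtain ⟨b, rfl⟩ := QuotientGroup.mk_surjective b
  rw [QuotientGroup.eq, MonoidHom.mem_ker, map_mul, ← show ρ a = ρ b from h, ← map_mul, inv_mul_cancel, map_one]

theorem Irr.fq {ρ : Representation K G V} (h : Irr ρ) : Irr (fq ρ) := fun U hU => h U fun g => hU g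

theorem triv {ρ : Representation K G V} {x : G} (hn : normalClosure {x} = ⊤) (h : ρ x = 1) (g : G) : ρ g = 1 :=
  (eq_top_of_nc hn (MonoidHom.normal_ker ρ) h).ge (mem_top g)

theorem ker_le [FiniteDimensional K V] (ρ : Representation K G V) (U : Submodule K V)
    (hU : ∀ g, U ≤ U.comap (ρ g)) (x : G) : finrank K (LinearMap.ker (ρ x - LinearMap.id)) ≤
      finrank K (LinearMap.ker (ρ.subrepresentation U hU x - LinearMap.id)) +
        finrank K (LinearMap.ker (ρ.quotient U hU x - LinearMap.id)) := by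
  let f : LinearMap.ker (ρ x - LinearMap.id) →ₗ[K] V ⧸ U := U.mkQ ∘ₗ Submodule.subtype _
  rw [← f.finrank_range_add_finrank_ker, add_comm]
  refine add_le_add ?_ (Submodule.finrank_mono ?_)
  · let φ : LinearMap.ker f →ₗ[K] LinearMap.ker (ρ.subrepresentation U hU x - LinearMap.id) :=
      { toFun := fun v => ⟨⟨v.1.1, (Submodule.Quotient.mk_eq_zero U).1 v.2⟩, Subtype.ext v.1.2⟩
        map_add' := fun _ _ => rfl
        map_smul' := fun _ _ => rfl }
    exact LinearMap.finrank_le_finrank_of_injective (f := φ) fun a b h =>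
      Subtype.ext (Subtype.ext (congrArg (·.1.1) h))
  · rintro _ ⟨v, rfl⟩
    have hv : ρ x v = v := sub_eq_zero.1 v.2
    rw [LinearMap.mem_ker, LinearMap.sub_apply, sub_eq_zero]
    exact congrArg U.mkQ hv

variable [Finite G] [Group.IsSolvable G] (ℓ : ℕ) [hℓ : Fact ℓ.Prime] [CharP K ℓ] {p : ℕ} [hp : Fact p.Prime]

include ℓ hℓ

theorem gen [IsAlgClosed K] (h5 : 5 ≤ p) {x : G} (hx : x ^ p = 1) (hn : normalClosure {x} = ⊤) (S : Finset G)
    (hS : (S.card : K) ≠ 0) (n : ℕ) : ∀ (V : Type v) [AddCommGroup V] [Module K V] [FiniteDimensional K V]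
      [Nontrivial V] (ρ : Representation K G V), finrank K V = n → ∑ s ∈ S, ρ s = 0 →
      2 * finrank K (LinearMap.ker (ρ x - LinearMap.id)) < finrank K V := by
  induction n using Nat.strong_induction_on with | _ n ih => ?_
  intro V _ _ _ _ ρ hd h0
  by_cases hi : Irr ρ
  · refine core ℓ hi.fq (fq_inj ρ) h5 (x := QuotientGroup.mk x) (by rw [← QuotientGroup.mk_pow, hx]; rfl)
      (fun e => hS ?_) (nc_map hn (QuotientGroup.mk' _) (QuotientGroup.mk'_surjective _))
    simp only [triv hn ((QuotientGroup.eq_one_iff _).1 e), Finset.sum_const] at h0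
    rw [← Nat.cast_smul_eq_nsmul K] at h0
    exact (smul_eq_zero.1 h0).resolve_right one_ne_zero
  · simp only [Irr, not_forall, not_or] at hi
    obtain ⟨U, hU, h1, h2⟩ := hi
    have : Nontrivial U := Submodule.nontrivial_iff_ne_bot.2 h1
    have : Nontrivial (V ⧸ U) := Submodule.Quotient.nontrivial_iff.2 h2
    have e := U.finrank_quotient_add_finrank
    have p1 : 0 < finrank K U := finrank_pos
    have p2 : 0 < finrank K (V ⧸ U) := finrank_pos
    have a1 := ih _ (by omega) U (ρ.subrepresentation U hU) rfl (by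
      ext v
      have := LinearMap.congr_fun h0 v
      simpa [LinearMap.sum_apply] using this)
    have a2 := ih _ (by omega) (V ⧸ U) (ρ.quotient U hU) rfl (by
      ext v
      have := congrArg U.mkQ (LinearMap.congr_fun h0 v)
      simpa [LinearMap.sum_apply] using this)
    have a3 := ker_le ρ U hU x
    omega

theorem half_faith [FiniteDimensional K V] [Nontrivial V] {ρ : Representation K G V} (hi : Irr ρ)
    (hf : Function.Injective ρ) (h5 : 5 ≤ p) {x : G} (hx : x ^ p = 1) (hx1 : x ≠ 1) (hn : normalClosure {x} = ⊤) :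
    2 * finrank K (LinearMap.ker (ρ x - LinearMap.id)) < finrank K V := by
  classical
  have : Nontrivial G := ⟨x, 1, hx1⟩
  obtain ⟨N, q, hN, hN1, hq, -, -, hNq, -⟩ := H1.exists_normal_elementary G
  have := Fintype.ofFinite N
  have hfix : (⨅ n : N, LinearMap.ker (ρ n - LinearMap.id)) = ⊥ := by
    refine (hi _ fun g v hv => ?_).resolve_right fun e => hN1 (eq_bot_iff.2 fun n hn => hf ?_)
    · simp only [Submodule.mem_iInf, LinearMap.mem_ker, LinearMap.sub_apply, sub_eq_zero, LinearMap.id_apply] at hv ⊢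
      intro n
      conv_rhs => rw [← hv ⟨_, hN.conj_mem' _ n.2 g⟩]
      rw [← Module.End.mul_apply, ← Module.End.mul_apply, ← map_mul, ← map_mul]
      congr 2
      group
    · ext v
      have := (Submodule.mem_iInf _).1 (e.ge (Submodule.mem_top (x := v))) ⟨n, hn⟩
      simpa [sub_eq_zero] using this
  have h0 : ∑ s ∈ Finset.univ.map ⟨Subtype.val, Subtype.val_injective⟩, ρ s = ∑ n : N, ρ n := Finset.sum_map _ _ _
  have h1 : ∑ n : N, ρ n = 0 := by
    ext v
    rw [LinearMap.zero_apply, ← Submodule.mem_bot K, ← hfix, Submodule.mem_iInf]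
    intro m
    rw [LinearMap.mem_ker, LinearMap.sub_apply, sub_eq_zero, LinearMap.id_apply, ← Module.End.mul_apply,
      Finset.mul_sum]
    congr 1
    exact Fintype.sum_equiv (Equiv.mulLeft m) _ _ fun n => (map_mul ρ _ _).symm
  have hql : q ≠ ℓ := by
    rintro rfl
    obtain ⟨w, -, hw, hw2⟩ := H16.exists_fixed_vector hNq (ρ.comp N.subtype) ⊤ (fun _ _ _ => trivial) top_ne_bot
    refine hw ?_
    rw [← Submodule.mem_bot K, ← hfix, Submodule.mem_iInf]
    exact fun m => sub_eq_zero.2 (hw2 m)
  let L := AlgebraicClosure K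
  let ρ' : Representation L G (L ⊗[K] V) := (Module.End.baseChangeHom K L V).toMonoidHom.comp ρ
  have hd : finrank L (L ⊗[K] V) = finrank K V := Module.finrank_baseChange
  have : Nontrivial (L ⊗[K] V) := Module.nontrivial_of_finrank_pos (R := L) (hd ▸ finrank_pos)
  have h2 := gen (K := L) ℓ h5 hx hn (Finset.univ.map ⟨Subtype.val, Subtype.val_injective (p := (· ∈ N))⟩) (by
    have := Fact.mk hq
    obtain ⟨n, hn⟩ := hNq.exists_card_eq
    rw [Finset.card_map, Finset.card_univ, ← Nat.card_eq_fintype_card, hn, Ne, CharP.cast_eq_zero_iff L ℓ]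
    exact fun h => hql ((Nat.prime_dvd_prime_iff_eq hℓ.out hq).1 (hℓ.out.dvd_of_dvd_pow h)).symm) _ _ ρ' rfl (by
    have := congrArg (Module.End.baseChangeHom K L V) (h0.trans h1)
    rwa [map_sum, map_zero] at this)
  rw [hd] at h2
  refine lt_of_le_of_lt (Nat.mul_le_mul_left _ ?_) h2
  set U := LinearMap.ker (ρ x - LinearMap.id)
  rw [← Module.finrank_baseChange (R := L)]
  refine LinearMap.finrank_le_finrank_of_injective (f := LinearMap.codRestrict _ (U.subtype.baseChange L) fun t => ?_)
    fun a b h => Module.Flat.lTensor_preserves_injective_linearMap (M := L) U.subtype U.injective_subtype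
      (congrArg Subtype.val h)
  rw [LinearMap.mem_ker, LinearMap.sub_apply, sub_eq_zero]
  have h3 : ρ x ∘ₗ U.subtype = U.subtype := LinearMap.ext fun u => sub_eq_zero.1 u.2
  change ((ρ x).baseChange L ∘ₗ U.subtype.baseChange L) t = _
  rw [← LinearMap.baseChange_comp, h3]
  rfl

theorem half [FiniteDimensional K V] [Nontrivial V] {ρ : Representation K G V} (hi : Irr ρ)
    (h5 : 5 ≤ p) {x : G} (hx : x ^ p = 1) (hx1 : ρ x ≠ 1) (hn : normalClosure {x} = ⊤) :
    2 * finrank K (LinearMap.ker (ρ x - LinearMap.id)) < finrank K V :=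
  half_faith ℓ hi.fq (fq_inj ρ) h5 (x := QuotientGroup.mk x) (by rw [← QuotientGroup.mk_pow, hx]; rfl)
    (fun e => hx1 ((QuotientGroup.eq_one_iff _).1 e)) (nc_map hn (QuotientGroup.mk' _) (QuotientGroup.mk'_surjective _))

end H27.Fx
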