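import Cfsg.Agent.H9.Lf0
import Cfsg.Agent.S1946
import Cfsg.Agent.H17.Coprime
import Cfsg.Agent.H3.Frobenius

/-! Piece `PR` of S3297: under `HA ⊤ P`, `HB p P`, `O_{p'}(G) = 1` and `P` not normal, every nontrivial
normal subgroup contains `P` and controls its own fusion in `N(P)`, and `N(P)` moves `Ω₁ Z(P)`. -/

set_option autoImplicit false

open Cfsg Subgroup H3 H9.Lf

namespace H27.LfR

universe u

variable {G : Type u} [Group G] [Finite G] {p : ℕ} [Fact p.Prime]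

/-- `Ω₁ Z(P) ⊓ M` -/
def ZZ (p : ℕ) (P M : Subgroup G) : Subgroup G where
  carrier := {x | Zs p P x ∧ x ∈ M}
  one_mem' := ⟨⟨P.one_mem, one_pow _, fun y _ => by simp⟩, M.one_mem⟩
  mul_mem' := by
    rintro a b ⟨⟨a1, a2, a3⟩, a4⟩ ⟨⟨b1, b2, b3⟩, b4⟩
    refine ⟨⟨P.mul_mem a1 b1, ?_, fun y hy => ?_⟩, M.mul_mem a4 b4⟩
    · have : Commute a b := a3 b b1
      rw [this.mul_pow, a2, b2, one_mul]
    · rw [mul_assoc, b3 y hy, ← mul_assoc, a3 y hy, mul_assoc]
  inv_mem' := by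
    rintro a ⟨⟨a1, a2, a3⟩, a4⟩
    refine ⟨⟨P.inv_mem a1, by rw [inv_pow, a2, inv_one], fun y hy => ?_⟩, M.inv_mem a4⟩
    have : Commute a y := a3 y hy
    exact this.inv_left

omit [Finite G] [Fact p.Prime] in
theorem mem_ZZ {P M : Subgroup G} {x : G} : x ∈ ZZ p P M ↔ Zs p P x ∧ x ∈ M := Iff.rfl

omit [Finite G] [Fact p.Prime] in
theorem ZZ_le {P M : Subgroup G} : ZZ p P M ≤ P := fun _ h => h.1.1

omit [Finite G] [Fact p.Prime] in
theorem le_cent {P M : Subgroup G} : P ≤ centralizer (ZZ p P M : Set G) := fun y hy =>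
  mem_centralizer_iff.2 fun z hz => hz.1.2.2 y hy

omit [Finite G] [Fact p.Prime] in
theorem zs_conj {P : Subgroup G} {n z : G} (hn : n ∈ normalizer (P : Set G)) (hz : Zs p P z) :
    Zs p P (n * z * n⁻¹) := by
  refine ⟨conj_mem_of_mem_normalizer hn hz.1, by rw [conj_pow, hz.2.1]; simp, fun y hy => ?_⟩
  have := hz.2.2 _ (inv_conj_mem_of_mem_normalizer hn hy)
  calc n * z * n⁻¹ * y = n * (z * (n⁻¹ * y * n)) * n⁻¹ := by group
    _ = n * ((n⁻¹ * y * n) * z) * n⁻¹ := by rw [this]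
    _ = y * (n * z * n⁻¹) := by group

omit [Finite G] [Fact p.Prime] in
theorem strong {P M : Subgroup G} [hM : M.Normal] (hA : HA ⊤ P) {z g : G} (hz : z ∈ ZZ p P M)
    (hg : g * z * g⁻¹ ∈ P) : g * z * g⁻¹ ∈ ZZ p P M := by
  refine ⟨?_, hM.conj_mem _ hz.2 g⟩
  obtain ⟨n, -, hn, e⟩ := hA z hz.1.1 _ hg ⟨g, mem_top g, rfl⟩
  rw [← e]
  exact zs_conj hn hz.1

omit [Fact p.Prime] in
theorem weak {P M : Subgroup G} [M.Normal] (hA : HA ⊤ P) : IsWeaklyClosed (ZZ p P M) P :=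
  isWeaklyClosed_iff.2 ⟨ZZ_le, fun _ hg =>
    mem_normalizer_of_forall_conj_mem fun x hx => strong hA hx (hg x hx)⟩

theorem exists_order {x : G} (hx : x ≠ 1) (hp : ∃ k, x ^ p ^ k = 1) :
    ∃ j : ℕ, orderOf (x ^ j) = p := by
  obtain ⟨k, hk⟩ := hp
  have h1 : orderOf x ∣ p ^ k := orderOf_dvd_of_pow_eq_one hk
  have h2 : p ∣ orderOf x := by
    obtain ⟨i, -, hi⟩ := (Nat.dvd_prime_pow Fact.out).1 h1
    rcases i with _ | i
    · exact absurd (orderOf_eq_one_iff.1 (by simpa using hi)) hx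
    · rw [hi]; exact dvd_pow_self p (by omega)
  exact ⟨orderOf x / p, orderOf_pow_orderOf_div (orderOf_pos x).ne' h2⟩

theorem ZZ_ne (P : Sylow p G) {M : Subgroup G} [M.Normal] (h : (P : Subgroup G) ⊓ M ≠ ⊥) :
    ZZ p (P : Subgroup G) M ≠ ⊥ := by
  have h1 := H17.inf_centralizer_ne_bot (P.isPGroup'.to_le (inf_le_left (b := M))) P.isPGroup'
    (le_normalizer_of_forall_conj_mem fun g hg x hx =>
      ⟨(P : Subgroup G).mul_mem ((P : Subgroup G).mul_mem hg hx.1) ((P : Subgroup G).inv_mem hg),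
        Normal.conj_mem ‹_› _ hx.2 g⟩) h
  obtain ⟨x, hx, hx1⟩ := (bot_or_exists_ne_one _).resolve_left h1
  obtain ⟨j, hj⟩ := exists_order (p := p) hx1 (isPGroup_iff_forall_mem.1 P.isPGroup' x hx.1.1)
  intro e
  have hm : x ^ j ∈ ZZ p (P : Subgroup G) M :=
    ⟨⟨pow_mem hx.1.1 j, by rw [← hj, pow_orderOf_eq_one], fun y hy =>
      ((show Commute y x from mem_centralizer_iff.1 hx.2 y hy).symm.pow_left j)⟩, pow_mem hx.1.2 j⟩
  rw [e, mem_bot] at hm
  rw [hm, orderOf_one] at hj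
  exact (Fact.out : p.Prime).one_lt.ne hj

theorem cent_pn {P M : Subgroup G} (hB : HB p P) (h : ZZ p P M ≠ ⊥) :
    HasNormalPComplement p (centralizer (ZZ p P M : Set G)) := by
  obtain ⟨x, hx, hx1⟩ := (bot_or_exists_ne_one _).resolve_left h
  refine hasNormalPComplement_of_le (centralizer_le (by simpa using hx))
    (hB x hx.1.1 (orderOf_eq_prime hx.1.2.1 hx1))

theorem le_core {N : Subgroup G} [hN : N.Normal] (hc : pPrimeCore p G = ⊥) (h : ¬ p ∣ Nat.card N) :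
    N = ⊥ := by
  rw [eq_bot_iff, ← hc]
  exact le_sSup ⟨hN, ((Nat.Prime.coprime_iff_not_dvd Fact.out).2 h).symm⟩

theorem pgroup_of_pn {N : Subgroup G} [N.Normal] (hc : pPrimeCore p G = ⊥)
    (h : HasNormalPComplement p N) : IsPGroup p N := by
  have := le_core hc (hasNormalPComplement_subgroup_iff_not_dvd.1 h)
  rw [← pResidual_eq_bot_iff]
  exact (map_eq_bot_iff_of_injective _ N.subtype_injective).1 this

theorem bot_of_pgroup (P : Sylow p G) (hc : pPrimeCore p G = ⊥) (hn : ¬ (P : Subgroup G).Normal)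
    (hA : HA ⊤ (P : Subgroup G)) (hB : HB p (P : Subgroup G)) {M : Subgroup G} [hM : M.Normal]
    (h : IsPGroup p M) : M = ⊥ := by
  by_contra h0
  have hMP : M ≤ P := h.le_sylow_of_normal P
  have hZ := ZZ_ne P (M := M) (by rwa [inf_eq_right.2 hMP])
  haveI : (ZZ p (P : Subgroup G) M).Normal :=
    ⟨fun z hz g => strong hA hz (hMP (hM.conj_mem _ hz.2 g))⟩
  have h1 := pgroup_of_pn hc (cent_pn hB hZ)
  have h2 := P.is_maximal' h1 le_cent
  exact hn (h2 ▸ inferInstance)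

/-- fusion in a `p`-nilpotent subgroup -/
theorem pn_fusion {H S : Subgroup G} (h : HasNormalPComplement p H) (hS : IsSylowIn p S H) {x c : G}
    (hx : x ∈ S) (hc : c ∈ H) (hy : c * x * c⁻¹ ∈ S) : ∃ u ∈ S, u * x * u⁻¹ = c * x * c⁻¹ := by
  obtain ⟨k, hk, u, hu, rfl⟩ := exists_map_subtype_pResidual_mul hS.not_dvd hc
  refine ⟨u, hu.1, ?_⟩
  have h1 : u * x * u⁻¹ ∈ S := S.mul_mem (S.mul_mem hu.1 hx) (S.inv_mem hu.1)
  have h2 := inf_eq_bot_of_not_dvd_card (hasNormalPComplement_subgroup_iff_not_dvd.1 h) hS.isPGroup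
  have h3 : k * u * x * (k * u)⁻¹ * (u * x * u⁻¹)⁻¹ ∈ (pResidual p H).map H.subtype ⊓ S := by
    refine ⟨?_, S.mul_mem hy (S.inv_mem h1)⟩
    have := conj_mem_of_mem_normalizer (normalizer_le_normalizer_map_subtype_pResidual (p := p) H
      (le_normalizer (hS.le h1))) (inv_mem hk)
    have e : k * u * x * (k * u)⁻¹ * (u * x * u⁻¹)⁻¹ = k * (u * x * u⁻¹ * k⁻¹ * (u * x * u⁻¹)⁻¹) := by
      group
    rw [e]
    exact mul_mem hk this
  rw [h2, mem_bot, mul_inv_eq_one] at h3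
  exact h3.symm

theorem fus_norm (P : Sylow p G) (hA : HA ⊤ (P : Subgroup G)) {M : Subgroup G} [hM : M.Normal]
    {x g : G} (hx : x ∈ (P : Subgroup G)) (hg : g ∈ M) (hy : g * x * g⁻¹ ∈ (P : Subgroup G)) :
    ∃ n ∈ M, n ∈ normalizer (ZZ p (P : Subgroup G) M : Set G) ∧ n * x * n⁻¹ = g * x * g⁻¹ := by
  obtain ⟨n, hn, h, hh, rfl⟩ := exists_normalizer_mul_of_weaklyClosed P (weak (M := M) hA)
    (H := centralizer {x} ⊓ M) (g := g)
    (fun z hz => ⟨mem_centralizer_singleton_iff.2 (hz.1.2.2 x hx), hz.2⟩)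
    (fun z hz => ⟨mem_centralizer_singleton_iff.2 (by
      have := hz.1.2.2 _ hy
      calc g⁻¹ * z * g * x = g⁻¹ * (z * (g * x * g⁻¹)) * g := by group
        _ = g⁻¹ * ((g * x * g⁻¹) * z) * g := by rw [this]
        _ = x * (g⁻¹ * z * g) := by group), hM.conj_mem' _ hz.2 g⟩)
  refine ⟨n, by simpa using M.mul_mem hg (M.inv_mem hh.2), hn, ?_⟩
  have := mem_centralizer_singleton_iff.1 hh.1
  calc n * x * n⁻¹ = n * (x * h) * (n * h)⁻¹ := by group
    _ = n * h * x * (n * h)⁻¹ := by rw [← this]; group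

theorem moves (P : Sylow p G) (hc : pPrimeCore p G = ⊥) (hn : ¬ (P : Subgroup G).Normal)
    (hA : HA ⊤ (P : Subgroup G)) (hB : HB p (P : Subgroup G)) {M : Subgroup G} [hM : M.Normal]
    (h0 : M ≠ ⊥) : ZZ p (P : Subgroup G) M ≠ ⊥ ∧ ∃ g ∈ M,
      g ∈ normalizer (ZZ p (P : Subgroup G) M : Set G) ∧
      ∃ z ∈ ZZ p (P : Subgroup G) M, g * z * g⁻¹ ≠ z := by
  have hS := isSylowIn_inf_normal P M
  have hZ : ZZ p (P : Subgroup G) M ≠ ⊥ :=
    ZZ_ne P fun e => h0 (le_core hc (IsSylowIn.not_dvd_card_of_eq_bot (e ▸ hS)))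
  refine ⟨hZ, ?_⟩
  by_contra hcon
  push Not at hcon
  apply h0
  refine bot_of_pgroup P hc hn hA hB (pgroup_of_pn hc ?_)
  obtain ⟨T, hT⟩ := hS.exists_sylow
  refine (Cfsg.Agent.S1946.result T).2 fun a ha _ g hg => ?_
  rw [hT, mem_subgroupOf] at ha hg
  obtain ⟨n, hnM, hnN, e⟩ := fus_norm P hA ha.1 g.2 hg.1
  have hnC : n ∈ centralizer (ZZ p (P : Subgroup G) M : Set G) ⊓ M :=
    ⟨mem_centralizer_iff.2 fun z hz => (mul_inv_eq_iff_eq_mul.1 (hcon n hnM hnN z hz)).symm, hnM⟩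
  obtain ⟨u, hu, e2⟩ := pn_fusion (hasNormalPComplement_of_le inf_le_left (cent_pn hB hZ))
    (hS.of_le (inf_le_inf_right _ le_cent) inf_le_right) ha hnC (by rw [e]; exact hg)
  refine ⟨⟨u, hu.2⟩, by rw [hT, mem_subgroupOf]; exact hu, Subtype.ext ?_⟩
  simp only [coe_mul, coe_inv]
  rw [e2, e]

omit [Finite G] [Fact p.Prime] in
theorem norm_cent {W : Subgroup G} {g : G} (hg : g ∈ normalizer (W : Set G)) :
    g ∈ normalizer (centralizer (W : Set G) : Set G) := by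
  rw [mem_normalizer_iff]
  intro c
  simp only [mem_centralizer_iff, SetLike.mem_coe]
  constructor
  · intro h w hw
    have := h _ (inv_conj_mem_of_mem_normalizer hg hw)
    calc w * (g * c * g⁻¹) = g * ((g⁻¹ * w * g) * c) * g⁻¹ := by group
      _ = g * (c * (g⁻¹ * w * g)) * g⁻¹ := by rw [this]
      _ = g * c * g⁻¹ * w := by group
  · intro h w hw
    have := h _ (conj_mem_of_mem_normalizer hg hw)
    calc w * c = g⁻¹ * ((g * w * g⁻¹) * (g * c * g⁻¹)) * g := by group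
      _ = g⁻¹ * ((g * c * g⁻¹) * (g * w * g⁻¹)) * g := by rw [this]
      _ = c * w := by group

/-- a `p'`-element of `N(P)` fixing a nontrivial element of `P` centralizes `P` -/
theorem fpf (P : Sylow p G) (hB : HB p (P : Subgroup G)) {b u : G}
    (hb : b ∈ normalizer ((P : Subgroup G) : Set G)) (hbc : (orderOf b).Coprime p)
    (hu : u ∈ (P : Subgroup G)) (hu1 : u ≠ 1) (hc : Commute b u) :
    b ∈ centralizer ((P : Subgroup G) : Set G) := by
  obtain ⟨j, hj⟩ := exists_order (p := p) hu1 (isPGroup_iff_forall_mem.1 P.isPGroup' u hu)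
  have hv : u ^ j ∈ (P : Subgroup G) := pow_mem hu j
  have hcv : Commute b (u ^ j) := hc.pow_right j
  set v := u ^ j
  have hbC : b ∈ centralizer (zpowers v : Set G) := by
    refine mem_centralizer_iff.2 ?_
    rintro _ ⟨i, rfl⟩
    exact (hcv.zpow_right i).symm
  have hle : centralizer (zpowers v : Set G) ≤ centralizer {v} :=
    centralizer_le (by simp)
  refine zpowers_le.1 (H17.thompson_AxB (A := zpowers v) (B := zpowers b) P.isPGroup'
    (P.isPGroup'.to_le (zpowers_le.2 hv)) ?_ ((zpowers_le.2 hv).trans le_normalizer)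
    (zpowers_le.2 hb) (zpowers_le.2 hbC) ?_)
  · rw [Nat.card_zpowers]
    exact (Nat.Prime.coprime_iff_not_dvd Fact.out).1 hbc.symm
  · rw [le_centralizer_iff, zpowers_le]
    refine mem_centralizer_of_hasNormalPComplement_subgroup (hB v hv hj) (inf_le_right.trans hle)
      (P.isPGroup'.to_le inf_le_left) (hle hbC) ?_ hbc
    refine mem_normalizer_of_forall_conj_mem fun x hx => ⟨conj_mem_of_mem_normalizer hb hx.1, ?_⟩
    exact Subgroup.mul_mem _ (Subgroup.mul_mem _ hbC hx.2) (Subgroup.inv_mem _ hbC)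

theorem main (P : Sylow p G) (hc : pPrimeCore p G = ⊥) (hn : ¬ (P : Subgroup G).Normal)
    (hA : HA ⊤ (P : Subgroup G)) (hB : HB p (P : Subgroup G)) {M : Subgroup G} [hM : M.Normal]
    (h0 : M ≠ ⊥) : (P : Subgroup G) ≤ M ∧ ∃ n ∈ normalizer ((P : Subgroup G) : Set G), ∃ z,
      Zs p (P : Subgroup G) z ∧ n * z * n⁻¹ ≠ z := by
  obtain ⟨hZ, g, hgM, hgN, z, hz, hgz⟩ := moves P hc hn hA hB h0
  set C := centralizer (ZZ p (P : Subgroup G) M : Set G) with hC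
  have hS : IsSylowIn p (P : Subgroup G) C := isSylowIn_of_le P le_cent
  obtain ⟨c, hcC, t, ht, rfl⟩ := hS.frattini (norm_cent hgN)
  obtain ⟨k, hk, u, hu, rfl⟩ := exists_map_subtype_pResidual_mul hS.not_dvd hcC
  have hn' : u * t ∈ normalizer ((P : Subgroup G) : Set G) := mul_mem (le_normalizer hu.1) ht
  have hkC : k ∈ C := map_subtype_le _ hk
  have hmv : u * t * z * (u * t)⁻¹ ≠ z := fun e => hgz (by
    have := mem_centralizer_iff.1 hkC z hz
    calc k * u * t * z * (k * u * t)⁻¹ = k * (u * t * z * (u * t)⁻¹) * k⁻¹ := by group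
      _ = z := by rw [e, ← this]; group)
  refine ⟨?_, u * t, hn', z, hz.1, hmv⟩
  have hgM' : k * (u * t) ∈ M := by rwa [← mul_assoc]
  generalize u * t = n at hn' hmv hgM'
  obtain ⟨a, b, ha, hb, hap, hbc, e, -⟩ := exists_p_part (p := p) n (orderOf_pos n).ne'
  have haN := zpowers_le.2 hn' ha
  have hbN := zpowers_le.2 hn' hb
  have haP : a ∈ (P : Subgroup G) := by
    have h1 : IsPGroup p (zpowers a) := isPGroup_iff_forall_mem.2 (by
      rintro _ ⟨i, rfl⟩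
      obtain ⟨j, hj⟩ := hap
      exact ⟨j, by rw [← zpow_natCast, ← zpow_mul, mul_comm, zpow_mul, zpow_natCast, hj, one_zpow]⟩)
    have h2 := h1.inf_normalizer_sylow P
    exact (h2 ▸ (show a ∈ zpowers a ⊓ normalizer ((P : Subgroup G) : Set G) from
      ⟨mem_zpowers a, haN⟩)).2
  have hbz : b ∉ centralizer ((P : Subgroup G) : Set G) := fun h => hmv (by
    have h1 := mem_centralizer_iff.1 h z hz.1.1
    have h2 := hz.1.2.2 a haP
    calc n * z * n⁻¹ = a * (b * z) * n⁻¹ := by rw [e]; group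
      _ = (a * z) * b * n⁻¹ := by rw [← h1]; group
      _ = z := by rw [← h2, e]; group)
  let f : ↥(P : Subgroup G) → ↥(P : Subgroup G) := fun y =>
    ⟨b * y * b⁻¹ * (y : G)⁻¹, mul_mem (conj_mem_of_mem_normalizer hbN y.2) (inv_mem y.2)⟩
  have hf : Function.Injective f := by
    intro y y' h
    have h1 : b * y * b⁻¹ * (y : G)⁻¹ = b * y' * b⁻¹ * (y' : G)⁻¹ := congrArg Subtype.val h
    by_contra hne
    refine hbz (fpf P hB (u := (y' : G)⁻¹ * y) hbN hbc (mul_mem (inv_mem y'.2) y.2)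
      (fun e => hne (Subtype.ext (inv_mul_eq_one.1 e).symm)) ?_)
    show b * ((y' : G)⁻¹ * y) = (y' : G)⁻¹ * y * b
    calc b * ((y' : G)⁻¹ * y) = b * (y' : G)⁻¹ * b⁻¹ * (b * y * b⁻¹ * (y : G)⁻¹) * y * b := by group
      _ = b * (y' : G)⁻¹ * b⁻¹ * (b * y' * b⁻¹ * (y' : G)⁻¹) * y * b := by rw [h1]
      _ = (y' : G)⁻¹ * y * b := by group
  intro w hw
  obtain ⟨y, hy⟩ := Finite.surjective_of_injective hf ⟨w, hw⟩
  have hw' : w = b * y * b⁻¹ * (y : G)⁻¹ := (congrArg Subtype.val hy).symm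
  obtain ⟨i, rfl⟩ := hb
  let π := QuotientGroup.mk' M
  have hπ : π n = π k⁻¹ := by
    have : π (k * n) = 1 := (QuotientGroup.eq_one_iff _).2 hgM'
    rw [map_mul] at this
    rw [map_inv]
    exact eq_inv_of_mul_eq_one_right this
  have hs : k⁻¹ ^ i * y * (k⁻¹ ^ i)⁻¹ * (y : G)⁻¹ ∈ (pResidual p C).map C.subtype := by
    have h1 := zpow_mem (inv_mem hk) i
    have := conj_mem_of_mem_normalizer (normalizer_le_normalizer_map_subtype_pResidual (p := p) C
      (le_normalizer (hS.le y.2))) (inv_mem h1)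
    have e : k⁻¹ ^ i * y * (k⁻¹ ^ i)⁻¹ * (y : G)⁻¹ = k⁻¹ ^ i * (y * (k⁻¹ ^ i)⁻¹ * (y : G)⁻¹) := by
      group
    rw [e]
    exact mul_mem h1 this
  have hs' := coprime_orderOf_of_mem_of_not_dvd_card
    (hasNormalPComplement_subgroup_iff_not_dvd.1 (cent_pn hB hZ)) hs
  have e2 : π w = π (k⁻¹ ^ i * y * (k⁻¹ ^ i)⁻¹ * (y : G)⁻¹) := by
    rw [hw']
    simp only [map_mul, map_inv, map_zpow, hπ]
  obtain ⟨j, hj⟩ := isPGroup_iff_forall_mem.1 P.isPGroup' w hw
  have d1 : orderOf (π w) ∣ p ^ j := orderOf_dvd_of_pow_eq_one (by rw [← map_pow, hj, map_one])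
  have d2 : orderOf (π w) ∣ orderOf (k⁻¹ ^ i * y * (k⁻¹ ^ i)⁻¹ * (y : G)⁻¹) := by
    rw [e2]; exact orderOf_map_dvd _ _
  have d3 : orderOf (π w) = 1 := Nat.eq_one_of_dvd_coprimes (hs'.pow_right j) d2 d1
  exact (QuotientGroup.eq_one_iff _).1 (orderOf_eq_one_iff.1 d3)

theorem ha (P : Sylow p G) (hA : HA ⊤ (P : Subgroup G)) (hB : HB p (P : Subgroup G))
    {M : Subgroup G} [hM : M.Normal] (hZ : ZZ p (P : Subgroup G) M ≠ ⊥) (hPM : (P : Subgroup G) ≤ M) :
    HA M (P : Subgroup G) := by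
  rintro x hx _ hy ⟨g, hg, rfl⟩
  obtain ⟨n, hnM, hnN, e⟩ := fus_norm P hA hx hg hy
  have hS : IsSylowIn p (P : Subgroup G) (centralizer (ZZ p (P : Subgroup G) M : Set G) ⊓ M) :=
    isSylowIn_of_le P (le_inf le_cent hPM)
  obtain ⟨c, hc, t, ht, rfl⟩ := hS.frattini (g := n) (mem_normalizer_of_forall_conj_mem fun w hw =>
    ⟨conj_mem_of_mem_normalizer (norm_cent hnN) hw.1, hM.conj_mem _ hw.2 n⟩)
  have e1 : c * (t * x * t⁻¹) * c⁻¹ = g * x * g⁻¹ := by rw [← e]; group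
  obtain ⟨u, hu, e2⟩ := pn_fusion (hasNormalPComplement_of_le inf_le_left (cent_pn hB hZ)) hS
    (conj_mem_of_mem_normalizer ht hx) hc (e1 ▸ hy)
  refine ⟨u * t, mul_mem (hPM hu) (by simpa using M.mul_mem (M.inv_mem hc.2) hnM),
    mul_mem (le_normalizer hu) ht, ?_⟩
  rw [← e1, ← e2]; group

theorem pR : H9.Lf.PR.{u} := by
  intro G _ _ p _ P hc hn hA hB
  refine ⟨fun M hM h0 => ?_, (main P hc hn hA hB (M := ⊤) fun e => hn ?_).2⟩
  · have h1 := (main P hc hn hA hB h0).1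
    exact ⟨h1, ha P hA hB (moves P hc hn hA hB h0).1 h1⟩
  · rw [eq_bot_iff.2 (le_top.trans e.le : (P : Subgroup G) ≤ ⊥)]
    infer_instance

end H27.LfR
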