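import Cfsg.Agent.H18.KpX

/-! Piece `C` of S4930: with a normal complement, restriction is injective on characters of `p'`-degree. -/
open H5 Cfsg
namespace H27.OdC

theorem pC {G : Type*} [Group G] [Finite G] (p : ℕ) [Fact p.Prime] (P : Sylow p G) (N K : Subgroup G) [K.Normal]
    (h1 : K ⊓ Subgroup.centralizer ((P : Subgroup G) : Set G) = ⊥) (h2 : K ⊔ N = ⊤) :
    (∑ᶠ χ : {χ : IrrCharacter G // ¬ p ∣ charDegree χ.1}, charDegree χ.1.1 ^ 2) ≤
      ∑ᶠ η : {η : IrrCharacter N // ¬ p ∣ charDegree η.1}, charDegree η.1.1 ^ 2 := by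
  classical
  have hdec : ∀ g : G, ∃ k ∈ K, ∃ n ∈ N, k * n = g := fun g => by
    have : g ∈ ((K ⊔ N : Subgroup G) : Set G) := by rw [h2]; trivial
    rw [Subgroup.normal_mul] at this
    exact this
  have hk : ∀ χ : {χ : IrrCharacter G // ¬ p ∣ charDegree χ.1}, K ≤ charKer χ.1.1 := fun χ =>
    H118.KpX.le_ker p P K h1 _ χ.1.2 χ.2
  have hirr : ∀ χ : {χ : IrrCharacter G // ¬ p ∣ charDegree χ.1}, IsIrrCharacter N fun x => χ.1.1 x := fun χ => by
    obtain ⟨ψ, hψ, e⟩ := χ.1.2.exists_deflate K (hk χ)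
    have := hψ.comp_surjective ((QuotientGroup.mk' K).comp N.subtype) (fun q => by
      obtain ⟨g, rfl⟩ := QuotientGroup.mk_surjective q
      obtain ⟨k, hk, n, hn, rfl⟩ := hdec g
      refine ⟨⟨n, hn⟩, ?_⟩
      show (n : G ⧸ K) = _
      rw [QuotientGroup.mk_mul, (QuotientGroup.eq_one_iff k).2 hk, one_mul])
    convert this using 2 with x
    exact (e x).symm
  have hdeg : ∀ χ : {χ : IrrCharacter G // ¬ p ∣ charDegree χ.1},
      charDegree (fun x : N => χ.1.1 x) = charDegree χ.1.1 := fun χ => by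
    unfold charDegree; rfl
  let r : {χ : IrrCharacter G // ¬ p ∣ charDegree χ.1} → {η : IrrCharacter N // ¬ p ∣ charDegree η.1} :=
    fun χ => ⟨⟨_, hirr χ⟩, by rw [hdeg]; exact χ.2⟩
  have hr : Function.Injective r := fun χ ψ e => Subtype.ext (Subtype.ext (funext fun g => by
    obtain ⟨k, hk', n, hn, rfl⟩ := hdec g
    rw [hk χ hk' n, hk ψ hk' n]
    exact congrFun (congrArg (fun η => η.1.1) e) ⟨n, hn⟩))
  haveI := Fintype.ofFinite {χ : IrrCharacter G // ¬ p ∣ charDegree χ.1}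
  haveI := Fintype.ofFinite {η : IrrCharacter N // ¬ p ∣ charDegree η.1}
  rw [finsum_eq_sum_of_fintype, finsum_eq_sum_of_fintype]
  calc _ = ∑ χ, charDegree (r χ).1.1 ^ 2 := Finset.sum_congr rfl fun χ _ => by rw [← hdeg]
    _ = ∑ η ∈ Finset.univ.image r, charDegree η.1.1 ^ 2 := by
      rw [Finset.sum_image fun a _ b _ e => hr e]
    _ ≤ _ := Finset.sum_le_sum_of_subset (Finset.subset_univ _)

end H27.OdC
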