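import Cfsg.Agent.H27.Tor
import Cfsg.Agent.H18.PC5

/-! Reduction of a minimal parabolic group in which neither `Z(S)` nor `J(S)` is normal to a rank one group with Sylow
subgroup `C_S(Z(J(S)))` (`pm_rk`, `exists_rk`, `exists_r0`). -/

set_option autoImplicit false

namespace H27

open Subgroup H26 Cfsg H4 H118
open scoped commutatorElement

variable {G : Type*} [Group G] [Finite G] {p q : ℕ} [hp : Fact p.Prime] {V P S T M A D R X : Subgroup G}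
  {𝒟 : Set (Subgroup G)}

local notation "𝐘" => Cfsg.centerThompsonOf 0

theorem exists_mo_ab (hV : IsElementaryAbelian p V) (hP : P ≤ 𝐍 V) (hf : P ⊓ 𝐂 V = ⊥) (hX : X ≤ P)
    (hp' : IsPGroup p X) (h1 : X ≤ 𝐂 X) (h2 : X ≠ ⊥) (h3 : Nat.card V ≤ Nat.card X * Nat.card ↥(V ⊓ 𝐂 X)) :
    ∃ A ≤ X, MO p V P A := by
  obtain ⟨B, ⟨h4, h5⟩, h6⟩ := Set.exists_max_image {B | B ≤ X ∧ B ≠ ⊥}
    (fun B => Nat.card B * Nat.card ↥(V ⊓ 𝐂 B)) (Set.toFinite _) ⟨X, le_rfl, h2⟩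
  have h7 := h3.trans (h6 X ⟨le_rfl, h2⟩)
  have BV := (h4.trans hX).trans hP
  have BB : B ≤ 𝐂 B := le_centralizer_of_le_comm (isMulCommutative_iff'.2 h1) h4 h4
  obtain ⟨e1, e2⟩ := replacement_eq hV.1 BV ((commutator_eq_bot_iff'.2 BB).trans_le bot_le) (fun C hC => by
    by_cases e : C = ⊥
    · rwa [e, centralizer_bot', inf_top_eq, card_bot, one_mul]
    · exact h6 C ⟨hC.trans h4, e⟩) le_rfl
  have l : B ⊓ 𝐂 ⁅V, B⁆ ≤ X := inf_le_left.trans h4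
  have q : ⁅⁅V, B ⊓ 𝐂 ⁅V, B⁆⁆, B ⊓ 𝐂 ⁅V, B⁆⁆ = ⊥ := commutator_eq_bot_iff'.2
    (inf_le_right.trans (centralizer_anti (commutator_mono le_rfl inf_le_left)))
  have ne : B ⊓ 𝐂 ⁅V, B⁆ ≠ ⊥ := fun e => h5 (by
    have VB := commutator_le_of_le_normalizer BV
    rw [e, centralizer_bot', inf_top_eq] at e1
    refine eq_bot_iff.2 (hf ▸ le_inf (h4.trans hX) (commutator_eq_bot_iff'.1 (eq_bot_of_le_commutator'
      ((isPGroup_of_isElementaryAbelian hV).to_le VB) (le_normalizer_commutator_right _ _) (fun a ha =>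
        (isPGroup_iff_mem.1 hp' a (h4 ha)).imp fun k hk => by rw [hk]; exact one_mem _) ?_)))
    conv_lhs => rw [e1]
    rw [commutator_sup_eq_of_comm hV.1 BV VB inf_le_left,
      commutator_eq_bot_iff_le_centralizer.2 (inf_le_right : V ⊓ 𝐂 B ≤ 𝐂 B), sup_bot_eq])
  obtain ⟨A, h8, h9, -⟩ := exists_mo (p := p) (V := V) (l.trans hX) ⟨comm_mono (isMulCommutative_iff'.2 h1) l,
    fun a ha => mem_bot.1 (hf.le ⟨pow_mem (hX (l ha)) p, quadratic_pow_mem hV.2 (inf_le_left.trans BV) q ha⟩)⟩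
    ne (h7.trans e2.le)
  exact ⟨A, h8.trans l, h9⟩

section pm
variable (h : PM p V P T M) (k : Geo p V P 𝒟 q {γ | ∃ g ∈ P, cj g M = γ})
include h k

theorem pm_le_JJ (hX : X ≤ T) (h1 : X ≤ 𝐂 X) (h2 : Nat.card V ≤ Nat.card X * Nat.card ↥(V ⊓ 𝐂 X))
    (h3 : ∀ A, MO p V P A → A ∈ 𝒟) : X ≤ JJ 𝒟 T := by
  induction X using subgroup_card_induction with | _ X _ ih
  by_cases h0 : X = ⊥
  · exact h0 ▸ bot_le
  have c := isMulCommutative_iff'.2 h1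
  obtain ⟨A, h4, hA⟩ := exists_mo_ab h.ea h.nm h.fa (hX.trans h.syl.le) (h.syl.isP.to_le hX) h1 h0 h2
  replace hA := h3 A hA
  obtain ⟨B, hB, h8, h9⟩ := h.exists_not_comm k hA
  have h10 := hX.trans h.um.le
  obtain ⟨N, k1, k2, k3, -, k5⟩ := k.decomp PM.mem_pts hA hB h8 h9 (h.syl.isP.to_le hX) h4 h10
    (le_centralizer_of_le_comm c le_rfl h4)
  have gd := k.good PM.mem_pts hA (h4.trans h10) hB h8 h9
  refine k2.trans (sup_le (le_JJ hA (h4.trans hX)) (ih N (k1.lt_of_ne fun e => k.ne_bot hA (by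
    rwa [e, inf_eq_left.2 h4] at k3)) (k1.trans hX) (le_centralizer_of_le_comm c k1 k1) (h2.trans ?_)))
  have e1 := card_sup_comm c h4 k1
  rw [(sup_le h4 k1).antisymm k2, k3, card_bot, mul_one, k.card A hA] at e1
  have hU := k.comm_le (sup_le (k.le A hA) (k.le _ hB))
  have e2 := card_sup_comm h.ea.1 hU (inf_le_left : V ⊓ 𝐂 X ≤ V)
  have e3 := card_sup_comm h.ea.1 hU (inf_le_left : V ⊓ 𝐂 A ≤ V)
  rw [(sup_le hU inf_le_left).antisymm (gd.le_comm.trans (sup_le_sup_left (inf_le_inf_left _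
    (centralizer_anti le_sup_left)) _)), ← k.val A hA, mul_right_comm, mul_left_inj' Nat.card_pos.ne'] at e3
  rw [e1, mul_comm q, mul_assoc]
  refine Nat.mul_le_mul_left _ (Nat.le_of_mul_le_mul_right ?_ (card_pos' (⁅V, A ⊔ B⁆ ⊓ (V ⊓ 𝐂 A))))
  rw [mul_right_comm, e3, ← e2]
  exact Nat.mul_le_mul (card_le_of_le (sup_le (le_inf hU (le_centralizer_iff.1 k5)) (inf_le_inf_left _
    (centralizer_anti k1)))) (card_le_of_le (inf_le_inf_left _ (inf_le_inf_left _ (centralizer_anti h4))))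

theorem pm_quad (hX : X ≤ T) (h1 : X ≤ 𝐂 (V ⊓ 𝐂 (JJ 𝒟 T))) : ⁅V, X⁆ ≤ 𝐂 (JJ 𝒟 T) := by
  refine le_centralizer_iff.1 (JJ_le_iff.2 fun A hA hAT => le_centralizer_iff.1 ?_)
  have XP := hX.trans h.syl.le
  have c : X ≤ 𝐂 ⁅V, A⁆ := h1.trans (centralizer_anti (le_inf (k.comm_le (k.le A hA))
    (k.comm_le_JJ h.syl.isP hA hAT)))
  obtain ⟨B, hB, h8, h9⟩ := h.exists_not_comm k hA
  have n : X ≤ 𝐍 A := fun x hx => by
    have hC := k.conj A hA x (XP hx)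
    have l := cj_le_of_mem hAT (hX hx)
    refine cj_eq_iff.1 (k.uniq PM.mem_pts hA (hAT.trans h.um.le) hC (l.trans h.um.le)
      (k.comm_of_isP h.syl.isP hA hC hAT l) hB h8 h9 fun e => h9 (k.comm_of_comm_le hA hB ?_))
    rw [← cj_eq_of_mem_centralizer (c hx), cj_commutator, cj_eq_of_mem_normalizer (h.nm (XP hx))]
    exact k.comm_le_of_comm hC hB e
  obtain ⟨a, ha, a1⟩ := SetLike.exists_of_lt (bot_lt_iff_ne_bot.2
    (inf_centralizer_ne_bot (k.isP hA) (h.syl.isP.to_le hX) n (k.ne_bot hA)))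
  have t : ⁅V, X⁆ ≤ 𝐂 (zpowers a) := by
    rw [commutator_comm]
    refine three_subgroups_centralizer ((commutator_mono le_rfl (zpowers_le.2 ha.1)).trans (le_centralizer_iff.1 c)) ?_
    rw [commutator_eq_bot_iff_le_centralizer.2 (zpowers_le.2 ha.2)]
    exact bot_le
  exact fun v hv => k.fix A hA a ha.1 a1 v (k.comm_le XP hv) (comm_eq_one (t hv) (mem_zpowers a))

end pm

theorem pm_rk (h : PM p V P T M) (hA : MO p V P A) : ∃ J ≤ T, (∀ X ≤ T, X ≤ 𝐂 X →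
    Nat.card V ≤ Nat.card X * Nat.card ↥(V ⊓ 𝐂 X) → X ≤ J) ∧ IsElementaryAbelian p (T ⊓ 𝐂 (V ⊓ 𝐂 J)) ∧
    ∃ D ≤ P, ¬ D ≤ M ∧ IsSyl p (T ⊓ 𝐂 (V ⊓ 𝐂 J)) D := by
  have k := h.geo hA
  set X := T ⊓ 𝐂 (V ⊓ 𝐂 (JJ {A | MO p V P A} T))
  have XP : X ≤ P := inf_le_left.trans h.syl.le
  have ea : IsElementaryAbelian p X := k.elemAb XP ((le_inf (k.comm_le XP) (pm_quad h k inf_le_left inf_le_right)).trans
    (le_centralizer_iff.1 inf_le_right))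
  refine ⟨_, JJ_le, fun X h1 h2 h3 => pm_le_JJ h k h1 h2 h3 fun _ h => h, ea, ?_⟩
  obtain ⟨g, hg, h1⟩ := h.syl.exists_cj_le (isPGroup_of_isElementaryAbelian hA.ea) hA.le
  have hC := k.conj A hA g hg
  generalize cj g A = C at h1 hC
  have CX : C ≤ X := (le_JJ hC h1).trans (le_inf JJ_le (le_centralizer_iff.1 inf_le_right))
  obtain ⟨B, hB, h8, h9⟩ := h.exists_not_comm k hC
  have XM : X ≤ M := inf_le_left.trans h.um.le
  have pX := isPGroup_of_isElementaryAbelian ea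
  obtain ⟨N, k1, k2, -, k4, -⟩ := k.decomp PM.mem_pts hC hB h8 h9 pX CX XM (le_centralizer_of_le_comm ea.1 le_rfl CX)
  have s := ((k.good PM.mem_pts hC (CX.trans XM) hB h8 h9).std k.toFam hC le_sup_left).1
  refine ⟨X ⊔ (C ⊔ B), sup_le XP (sup_le (k.le C hC) (k.le B hB)), fun e => h8 (le_sup_right.trans
    (le_sup_right.trans e)), isSyl_sup_of_inf pX (k2.trans (sup_le (le_sup_left.trans le_normalizer)
      (le_normalizer_of_le_centralizer k4))) ?_⟩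
  rwa [s.eq_of_le pX.to_inf_left (le_inf CX le_sup_left) inf_le_right]

theorem exists_rk (hc : CharPOf p (⊤ : Subgroup G)) (hS : IsSyl p S ⊤) (hu : UMax S M ⊤) (hZ : 𝐂 (ZZ S) ≤ M)
    (hJ : ¬ 𝐉𝐉 0 S ≤ 𝐎 p ⊤) : ∃ T D : Subgroup G, S ⊓ 𝐂 (𝐘 S) ≤ T ∧ T ≤ S ∧ 𝐎 p ⊤ ≤ T ∧ IsSyl p T D ∧ ¬ D ≤ M ∧
      ⁅T, T⁆ ≤ 𝐎 p ⊤ ∧ ∀ t ∈ T, t ^ p ∈ 𝐎 p (⊤ : Subgroup G) := by
  have hJ' : ¬ ⊤ ≤ 𝐍 (𝐉𝐉 0 S) := fun e => hJ (le_pCoreOf (hS.isP.to_le (thompsonOf_le _ _)) le_top e)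
  have dec := fun v => center_dec (v := v) hc hS hu le_rfl hJ'
  set W := omegaOneCenter p (pCoreOf p (⊤ : Subgroup G))
  have ea : IsElementaryAbelian p W := oc_ea _ _
  have WN : ∀ {A : Subgroup G}, A ≤ 𝐍 W := fun {_} => le_top.trans (le_n_oc (le_normalizer_pCoreOf _ _))
  have WS : W ≤ S := (oc_le _ _).trans hS.pCoreOf_le
  have c : ⊤ ⊓ 𝐂 (W ⊓ 𝐂 S) ≤ M := inf_le_right.trans (le_trans (fun g hg => mem_centralizer_iff'.2 fun v hv => by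
    obtain ⟨w, h1, z, h3, rfl⟩ := dec v hv
    rw [← conj_mul, mem_centralizer_iff'.1 hg w h1, mem_center_iff.1 h3 g, mul_inv_cancel_right]) hZ)
  have h := pm_mF ea WN hS hu (fun e => hJ' (e.trans (normalizer_le_normalizer_thompsonOf _ _))) (le_c_oc _ _) c
  have e := inf_cen_eq WN hS hu (le_c_oc _ _) ((inf_le_inf_left ⊤ (centralizer_anti inf_le_left)).trans c)
  have off : ∀ A ∈ MaxEA 0 S, mF W A ≤ 𝐂 (mF W A) ∧
      Nat.card (mI W W) ≤ Nat.card (mF W A) * Nat.card ↥(mI W W ⊓ 𝐂 (mF W A)) := fun A hA => by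
    have := (best_mF WN (MaxEA.isBestOffenderOn hA WS (elemAb_zero.2 ea.1))).1 ⊥ bot_le
    rw [card_bot, one_mul, centralizer_bot', inf_top_eq] at this
    refine ⟨commutator_eq_bot_iff'.1 ?_, this⟩
    rw [← mF_commutator WN WN, commutator_self_eq_bot_iff.2 (MaxEA.comm hA), mF_bot]
  obtain ⟨A, hA, h1⟩ : ∃ A ∈ MaxEA 0 S, ¬ A ≤ 𝐂 W := by
    by_contra! k
    exact hJ ((le_inf (thompsonOf_le _ _) (thompsonOf_le_iff.2 k)).trans e.le)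
  have l := mF_mono (V := W) (MaxEA.le hA)
  obtain ⟨C, -, hC⟩ := exists_mo_ab h.ea h.nm h.fa (l.trans h.syl.le) (h.syl.isP.to_le l) (off A hA).1
    (mt (mF_eq_bot WN).1 h1) (off A hA).2
  obtain ⟨J, -, h2, h3, D, h4, h5, h6⟩ := pm_rk h hC
  have h7 : mF W (𝐉𝐉 0 S) ≤ J := (mF_le_iff WN).2 (thompsonOf_le_iff.2 fun A hA => (mF_le_iff WN).1
    (h2 _ (mF_mono (MaxEA.le hA)) (off A hA).1 (off A hA).2))
  set X := mF W S ⊓ 𝐂 (mI W W ⊓ 𝐂 J)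
  have m : mF W (pbk W S X) = X := mF_pbk inf_le_left
  have s : IsSyl p (pbk W S X) (pbk W S X ⊔ 𝐂 W) := isSyl_sup_of_inf (hS.isP.to_le pbk_le)
    (WN.trans (le_normalizer_centralizer le_rfl)) (by
      rw [le_antisymm (inf_le_inf_right _ pbk_le) (le_inf cen_le_pbk inf_le_right)]
      exact hS.inf_of_normal (WN.trans (le_normalizer_centralizer le_rfl)) le_top)
  refine ⟨pbk W S X, pbk W ⊤ D, (le_pbk WN).2 ⟨inf_le_left, le_inf (mF_mono inf_le_left) (le_trans ?_ (centralizer_anti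
    ((inf_le_inf_left _ (centralizer_anti h7)).trans (mI_inf_centralizer le_rfl WN).ge)))⟩, pbk_le,
    e.ge.trans cen_le_pbk, ⟨(le_pbk WN).2 ⟨le_top, m.trans_le h6.le⟩, s.isP, fun Q a b c => s.max Q a b
      ((mF_le_mF WN WN).1 ((h6.max _ ((a.comap_subtype (K := 𝐍 W)).map _) (m.ge.trans (mF_mono b))
        ((le_pbk WN).1 c).2).trans m.ge))⟩, fun k => h5 ((mF_pbk h4).ge.trans (mF_mono k)),
    (le_inf ((commutator_le_self _).trans pbk_le) ((mF_eq_bot WN).1 ?_)).trans e.le,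
    fun t ht => e.le ⟨pow_mem (pbk_le ht) p, ?_⟩⟩
  · refine (mF_le_centralizer inf_le_left WN).2 (inf_le_right.trans (centralizer_anti fun x hx => ⟨?_, hx.2⟩))
    exact mem_thompsonOf_of_centralizes (WS hx.1) hx.2 (pow_zero x)
  · rw [mF_commutator WN WN, m, commutator_self_eq_bot_iff.2 h3.1]
  · refine (SetLike.ext_iff.1 aF_ker ((⟨t, WN (mem_top t)⟩ : 𝐍 W) ^ p)).1 ?_
    rw [MonoidHom.mem_ker, map_pow]
    exact h3.2 _ (m.le (aF_mem_mF ht))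

omit hp in
theorem r0_min (hT : IsSyl p T D) (h1 : ¬ D ≤ M) (h2 : 𝐍 T ≤ M) (hR : R ≤ T) (hn : D ≤ 𝐍 R) (hc : D ⊓ 𝐂 R ≤ R)
    (h3 : ⁅T, T⁆ ≤ R) (h4 : ∀ t ∈ T, t ^ p ∈ R) :
    ∃ H ≤ D, ¬ H ≤ M ∧ R0 p H T ∧ UMax T (H ⊓ M) H ∧ R ≤ 𝐎 p H := by
  obtain ⟨H, a1, ⟨a2, a3⟩, a4⟩ := exists_minimal_le (Q := fun H => T ≤ H ∧ ¬ H ≤ M) D ⟨hT.le, h1⟩
  have u : UMax T (H ⊓ M) H := ⟨le_inf a2 (le_normalizer.trans h2), inf_lt_left.2 a3, fun X b1 b2 =>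
    le_inf b2.le (by_contra fun k => b2.ne (a4 X b2.le ⟨b1, k⟩))⟩
  have r := le_pCoreOf (hT.isP.to_le hR) (hR.trans a2) (a1.trans hn)
  exact ⟨H, a1, a3, ⟨charPOf_of_centralizer_le (hT.isP.to_le hR) (hR.trans a2) (a1.trans hn)
    ((inf_le_inf_right _ a1).trans hc), hT.mono a2 a1, ⟨_, u⟩, h3.trans r, fun t ht => r (h4 t ht),
    fun e => a3 (e.trans h2)⟩, u, r⟩

omit hp in
theorem jt_eq (h1 : S ⊓ 𝐂 (𝐘 S) ≤ T) (h2 : T ≤ S) : T ⊓ 𝐂 (𝐘 T) = S ⊓ 𝐂 (𝐘 S) := by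
  rw [centerThompsonOf_eq_of_le ((le_inf (thompsonOf_le _ _) (le_centralizer_iff.1 inf_le_right)).trans h1) h2]
  exact le_antisymm (inf_le_inf_right _ h2) (le_inf h1 inf_le_right)

omit hp [Finite G] in
theorem n_jt : 𝐍 T ≤ 𝐍 (T ⊓ 𝐂 (𝐘 T)) :=
  le_normalizer_inf le_rfl (le_normalizer_centralizer (normalizer_le_normalizer_centerThompsonOf _ _))

theorem exists_r0 (hc : CharPOf p (⊤ : Subgroup G)) (hS : IsSyl p S ⊤) (hu : UMax S M ⊤) (hZ : 𝐂 (ZZ S) ≤ M)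
    (hB : 𝐍 (S ⊓ 𝐂 (𝐘 S)) ≤ M) : ∃ H : Subgroup G, ¬ H ≤ M ∧ R0 p H (S ⊓ 𝐂 (𝐘 S)) ∧
      UMax (S ⊓ 𝐂 (𝐘 S)) (H ⊓ M) H ∧ ⁅𝐎 p (⊤ : Subgroup G), H⁆ ≤ 𝐎 p H := by
  have QS := hS.pCoreOf_le
  have nQ := le_normalizer_pCoreOf p (⊤ : Subgroup G)
  have hJ : ¬ 𝐉𝐉 0 S ≤ 𝐎 p ⊤ := fun j => by
    have n : ⊤ ≤ 𝐍 (𝐘 S) := by
      rw [← centerThompsonOf_eq_of_le j QS]; exact nQ.trans (normalizer_le_normalizer_centerThompsonOf _ _)
    have n' := le_normalizer_centralizer n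
    have := hu.le_normalizer_inf hS ((centralizer_anti (zS_le_Y S)).trans hZ) n'
    exact hu.lt.not_ge (this.trans hB)
  obtain ⟨T, D, a1, a2, a3, a4, a5, a6, a7⟩ := exists_rk hc hS hu hZ hJ
  have e := jt_eq a1 a2
  obtain ⟨H, -, b1, b2, b3, b4⟩ := r0_min a4 a5 (n_jt.trans (e ▸ hB)) a3 (le_top.trans nQ)
    ((inf_le_inf_right _ le_top).trans hc) a6 a7
  obtain k | k | ⟨k, j⟩ := b2.tri
  · exact absurd (k.trans ((centralizer_anti (le_inf ((hc.center_le hS).trans (inf_le_left.trans a3))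
      (inf_le_right.trans (centralizer_anti a2)))).trans hZ)) b1
  · exact absurd (k.trans (e ▸ hB)) b1
  have s := k.sylY j
  have jB : 𝐉𝐉 0 T ≤ T ⊓ 𝐂 (𝐘 T) := le_inf (thompsonOf_le _ _) (le_centralizer_iff.1 inf_le_right)
  rw [e] at s jB
  set B := S ⊓ 𝐂 (𝐘 S)
  have LH : ncl B H ≤ H := ncl_le_self (a1.trans b2.syl.le)
  have nL := le_normalizer_ncl B H
  have l : 𝐎 p H ⊓ ncl B H ≤ 𝐎 p (ncl B H) := inf_comm (𝐎 p H) _ ▸ inf_pCoreOf_le' LH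
  obtain ⟨L, c1, c2, c3, c4, c5⟩ := r0_min (M := M) s (fun e => b1 (b2.syl.le_of_pResidualOf_le ((b2.res_le nL
    fun e => j ((le_inf (thompsonOf_le _ _) (jB.trans s.le)).trans e)).trans e) (a2.trans hu.le))) hB s.pCoreOf_le
    (le_normalizer_pCoreOf _ _) (b2.cp.of_normal LH nL) ((le_inf ((commutator_mono a1 a1).trans b2.ab)
      ((commutator_le_self _).trans s.le)).trans l) fun t ht => l ⟨b2.pw t (a1 ht), pow_mem (s.le ht) p⟩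
  exact ⟨L, c2, c3, c4, (le_inf ((commutator_mono b4 (c1.trans LH)).trans (commutator_le_of_le_normalizer b2.nQ))
    ((commutator_mono (b4.trans b2.QG) c1).trans (commutator_le_of_le_normalizer' nL))).trans (l.trans c5)⟩

end H27
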