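import Cfsg.Agent.H27.P3A
import Cfsg.Agent.H27.SecTr

/-! Glauberman's pair `Z(S)`, `K(S)` of characteristic subgroups controls transfer for odd `p` (`famTr_ZK`,
`inf_comm_le_ZK`). -/

set_option autoImplicit false

namespace H27

open Subgroup H26 Cfsg H4 H118
open scoped commutatorElement

universe u

local notation "𝐘" => Cfsg.centerThompsonOf 0

open Classical in
/-- `S_Φ`, or the whole group if that is trivial -/
noncomputable def phiFun (p : ℕ) (Q : Type u) [Group Q] : Subgroup Q :=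
  if frattiniOfMinimalCLJoin p Q = ⊥ then ⊤ else frattiniOfMinimalCLJoin p Q

/-- `phiFun` of `C_S(Z(J(S)))` -/
noncomputable def kFun (p : ℕ) (Q : Type u) [Group Q] : Subgroup Q := inducedFunctor (phiFun p) (JT Q)

/-- the centre -/
def cFun (Q : Type u) [Group Q] : Subgroup Q := center Q

variable {G : Type u} [Group G] [Finite G] {p : ℕ} [hp : Fact p.Prime] {H S M R K Z B : Subgroup G}

theorem cpf_phi : IsCharPFunctor.{u} p (phiFun p) :=
  ⟨fun Q _ _ _ _ => by unfold phiFun; split_ifs with h; exacts [top_ne_bot, h], fun Q R _ _ _ hQ φ => by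
    have : Finite R := Finite.of_equiv Q φ.toEquiv
    unfold phiFun
    rw [← map_pjoin hQ φ, map_eq_bot_iff_of_injective _ φ.injective]
    split_ifs
    exacts [map_top_of_surjective _ φ.surjective, rfl]⟩

omit hp [Finite G] in
theorem map_JT {Q : Type u} [Group Q] [Finite Q] {τ : Q →* G} (hτ : Function.Injective τ) :
    (JT Q).map τ = map τ ⊤ ⊓ 𝐂 (𝐘 (map τ ⊤)) := by
  rw [JT, zj_eq, ← top_inf_eq (𝐂 _), map_inf_centralizer hτ, map_centerThompsonOf hτ]

theorem cpf_k : IsCharPFunctor.{u} p (kFun p) :=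
  ⟨fun Q _ _ hQ _ => mt (map_eq_bot_iff_of_injective _ (subtype_injective _)).1 (cpf_phi.1 _ (hQ.to_subgroup _)
    ((nontrivial_iff_ne_bot _).2 fun e => cen_ne hQ (le_bot_iff.1 (cen_le_jt.trans e.le)))), fun Q R _ _ _ hQ φ => by
    have : Finite R := Finite.of_equiv Q φ.toEquiv
    rw [kFun, map_inducedFunctor cpf_phi (hQ.to_subgroup _) φ.injective, map_JT φ.injective,
      map_top_of_surjective _ φ.surjective, top_inf_eq, ← zj_eq, kFun]⟩

theorem cpf_c : IsCharPFunctor.{u} p cFun := isCharPFunctor_of_map (fun _ _ => le_rfl) fun _ _ _ _ φ => by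
  ext y
  obtain ⟨x, rfl⟩ := φ.surjective y
  exact (mem_map_iff_mem φ.injective).trans (MulEquivClass.apply_mem_center_iff φ).symm

theorem induced_k (hS : IsPGroup p S) : inducedFunctor (kFun p) S = inducedFunctor (phiFun p) (S ⊓ 𝐂 (𝐘 S)) := by
  rw [inducedFunctor, kFun, map_inducedFunctor cpf_phi (hS.to_subgroup _) S.subtype_injective,
    map_JT S.subtype_injective, map_subtype_top]

theorem sc_of_phi (hB : IsPGroup p B) (h1 : B ≤ 𝐂 (𝐘 B)) (h2 : frattiniOfMinimalCLJoin p B = ⊥) : SC p B := by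
  have j : JT B = ⊤ := map_injective B.subtype_injective (by
    rw [map_JT B.subtype_injective, map_subtype_top, inf_eq_left.2 h1])
  obtain ⟨Q, hQ, q⟩ := phi_bot hB h2
  have m := maxAb_of_cl hQ.1 q.1
  obtain ⟨a, b⟩ := cl_sup_thompsonA hQ.1
  rw [sup_eq_right.2 (le_thompsonA m)] at a b
  have e := top_le_iff.1 (j.ge.trans b)
  have k : SC p (⊤ : Subgroup B) := ⟨elemAb_mono q ((inf_le_right.trans (centralizer_anti le_top)).trans
    (centralizer_eq_of_maxAb m).le), cd_top.2 (e ▸ (cl_iff.1 a).1), fun A hA => cd_top.2 (cl_iff.1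
      ((mcl_iff_maxAb hQ q.1).2 (by rwa [maxEA_top, maxElementaryAbelianSubgroups_zero] at hA)).1).1, by
      rw [thompsonOf_top, ← thompsonSubgroupA_eq, e]⟩
  have := k.map B.subtype_injective
  rwa [map_subtype_top] at this

omit hp [Finite G] in
theorem comm_subgroupOf_le {A C : Subgroup G} {A' C' : Subgroup H} (h : ⁅A, C⁆ ≤ K) (h1 : A' ≤ A.subgroupOf H)
    (h2 : C' ≤ C.subgroupOf H) : ⁅A', C'⁆ ≤ K.subgroupOf H :=
  map_le_iff_le_comap.1 (by
    rw [map_commutator]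
    exact (commutator_mono (map_le_iff_le_comap.2 h1) (map_le_iff_le_comap.2 h2)).trans h)

theorem commutator_le_of_quad (hp2 : p ≠ 2) (hS : IsSyl p S H) (hu : UMax S M H) {g : G} (hg : g ∈ S)
    (hg' : g ∉ 𝐎 p H) (hR : IsPGroup p R) (RH : R ≤ H) (nR : H ≤ 𝐍 R) (ZH : Z ≤ H) (nZ : H ≤ 𝐍 Z) (hK : ⁅R, M⁆ ≤ K)
    (h1 : ⁅⁅R, zpowers g⁆, zpowers g⁆ ≤ Z) (h2 : ⁅⁅Z, zpowers g⁆, zpowers g⁆ ≤ ⊥) : ⁅R, H⁆ ≤ K := by
  have := (normal_subgroupOf_iff_le_normalizer RH).2 nR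
  have := (normal_subgroupOf_iff_le_normalizer ZH).2 nZ
  have u : UMax (S.subgroupOf H) (M.subgroupOf H) ⊤ := UMax.of_map H.subtype_injective (by
    rwa [map_subgroupOf_eq_of_le hS.le, map_subgroupOf_eq_of_le hu.lt.le, map_subtype_top])
  have z : zpowers (⟨g, hS.le hg⟩ : H) ≤ (zpowers g).subgroupOf H := zpowers_le.2 (mem_zpowers g)
  have q : ∀ {A C : Subgroup G}, ⁅⁅A, zpowers g⁆, zpowers g⁆ ≤ C →
      iterCommutator (A.subgroupOf H) (zpowers (⟨g, hS.le hg⟩ : H)) 2 ≤ C.subgroupOf H := fun h =>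
    comm_subgroupOf_le h (comm_subgroupOf_le le_rfl le_rfl z) z
  have k := commutator_top_le_of_engel (R := R.subgroupOf H) (K := K.subgroupOf H) (isSyl_top hS.sylow) u.le
    (fun X a b => u.all X a (lt_top_iff_ne_top.2 b)) (g := ⟨g, hS.le hg⟩) hg
    (by rw [pCore_eq_subgroupOf]; exact hg') (hR.comap_subtype (K := H)) (comm_subgroupOf_le hK le_rfl le_rfl)
    fun U V a b => by
      have := a.2.2.1
      refine ic_le_of_le le_normalizer_of_normal (by have := hp.out.two_le; omega : 2 ≤ p - 1) (by_contra fun c => c ?_)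
      have d := chief_cover_step a (q h2) c (chief_cover_step a (q h1) c (le_sup_of_le_right (le_inf le_rfl b)))
      rw [bot_subgroupOf, inf_bot_eq, sup_bot_eq] at d
      exact absurd d a.1.not_ge
  have := map_mono (f := H.subtype) k
  rw [map_commutator, map_subgroupOf_eq_of_le RH, map_subtype_top] at this
  exact this.trans (map_comap_le _ _)

theorem loc_ZK (hp2 : p ≠ 2) (hc : CharPOf p (⊤ : Subgroup G)) (hS : IsSyl p S ⊤) (hu : UMax S M ⊤)
    (h1 : K ≤ 𝐎 p ⊤) (h2 : 𝐍 K ≤ M) (h3 : ⁅𝐎 p (⊤ : Subgroup G), M⁆ ≤ K) (hZ : 𝐍 (ZZ S) ≤ M)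
    (hK : 𝐍 (inducedFunctor (kFun p) S) ≤ M) : False := by
  rw [induced_k hS.isP] at hK
  have pB : IsPGroup p ↥(S ⊓ 𝐂 (𝐘 S)) := hS.isP.to_inf_left
  have hZ' := (centralizer_le_normalizer _).trans hZ
  obtain ⟨H, a1, a2, a3, a4⟩ := exists_r0 hc hS hu hZ'
    ((cf_normalizer (isConjugacyFunctor_induced cpf_phi) pB).trans hK)
  have e := jt_eq (T := S ⊓ 𝐂 (𝐘 S)) le_rfl inf_le_left
  have z : ZZ S ≤ ZZ (S ⊓ 𝐂 (𝐘 S)) := le_inf (le_inf inf_le_left (inf_le_right.trans (centralizer_anti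
    (centerThompsonOf_le _ _)))) (inf_le_right.trans (centralizer_anti inf_le_left))
  have BM : S ⊓ 𝐂 (𝐘 S) ≤ M := inf_le_left.trans hu.le
  generalize S ⊓ 𝐂 (𝐘 S) = B at *
  have c : ¬ H ≤ 𝐂 (ZZ B) := fun k => a1 (k.trans ((centralizer_anti z).trans hZ'))
  by_cases k : frattiniOfMinimalCLJoin p B = ⊥
  swap
  · rw [inducedFunctor, phiFun, if_neg k] at hK
    exact a1 ((a2.ra c).nPhi.trans hK)
  obtain ⟨N, A, h⟩ := exists_co a2 (sc_of_phi pB (inf_eq_left.1 e) k) c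
  obtain ⟨a, ha, b⟩ := h.exists_a
  have za := zpowers_le.2 ha
  have nQ : H ≤ 𝐍 (𝐎 p ⊤) := le_top.trans (le_normalizer_pCoreOf p ⊤)
  have r := commutator_commutator_pResidualOf (isPGroup_pCoreOf p ⊤) nQ
  have l : ⁅𝐎 p ⊤, pResidualOf p H⁆ ≤ 𝐎 p H := (commutator_mono le_rfl h.EG).trans a4
  have l' := commutator_le_of_le_normalizer (h.EG.trans nQ)
  have := commutator_le_of_quad hp2 a2.syl a3 (h.AS ha) b ((isPGroup_pCoreOf p H).to_le l) (l.trans h.QG)
    (le_normalizer_commutator nQ h.nE) (inf_le_left.trans h.QG) h.nZ ((commutator_mono l' inf_le_right).trans h3)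
    ((commutator_mono ((commutator_mono (r.ge.trans ((commutator_mono l le_rfl).trans le_sup_right)) za).trans h.quad)
      za).trans h.stA) ((commutator_mono ((commutator_mono le_rfl (za.trans h.AS)).trans h.ZS_le) (za.trans h.AS)).trans
        (commutator_eq_bot_iff_le_centralizer.2 inf_le_right).le)
  exact a1 (a2.syl.le_of_pResidualOf_le ((le_normalizer_of_commutator_le' (r.ge.trans
    ((commutator_mono le_rfl h.EG).trans this)) h1).trans h2) BM)

theorem famTr_ZK (hp2 : p ≠ 2) (hS : IsSyl p S ⊤) :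
    S ⊓ ⁅(⊤ : Subgroup G), ⊤⁆ ≤ S ⊓ ⁅𝐍 (ZZ S), 𝐍 (ZZ S)⁆ ⊔
      S ⊓ ⁅𝐍 (inducedFunctor (kFun p) S), 𝐍 (inducedFunctor (kFun p) S)⁆ := by
  have w : ∀ V ∈ ({cFun, kFun p} : Set (∀ (Q : Type u) [Group Q], Subgroup Q)), IsCharPFunctor p V := by
    rintro V (rfl | rfl)
    exacts [cpf_c, cpf_k]
  have := (famTr_iff (IF_cf w) hS).1 (famCT_of_step w (fun K R _ S IH1 IH2 => by_contra fun hG => ?_) G
    (involves_refl G))
  · rw [FamTr, famHat_IF, iSup_insert, iSup_singleton, top_inf_eq, top_inf_eq] at this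
    rwa [ZZ, ← map_subtype_center]
  obtain ⟨h1, ⟨h2, h3⟩, ⟨h4, h5⟩, -⟩ := famTr_failure w ⟨_, Set.mem_insert _ _⟩ (isSyl_top S) IH1 IH2 hG rfl rfl
  have n : ∀ V ∈ ({cFun, kFun p} : Set (∀ (Q : Type u) [Group Q], Subgroup Q)),
      𝐍 (inducedFunctor V (S : Subgroup (K ⧸ R.subgroupOf K))) ≤ _ := fun V hV =>
    h3 _ (cf_le_normalizer (isConjugacyFunctor_induced (w V hV)) S.isPGroup') fun e =>
      have := normal_of_le_normalizer e.ge
      hG (famTr_of_normal (V := inducedFunctor V) (Set.mem_image_of_mem _ hV))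
  refine loc_ZK hp2 (charPOf_top.2 h1) (isSyl_top S) ⟨(cf_le_normalizer (isConjugacyFunctor_induced cpf_c)
    S.isPGroup').trans (n _ (Set.mem_insert _ _)), lt_top_iff_ne_top.2 h2, fun X a b => h3 X a b.ne⟩
    (inf_le_right.trans (pCoreOf_top _ _).ge) le_rfl (by rw [pCoreOf_top]; exact h4.trans (h5.trans (inf_comm _ _).le)) ?_
    (n _ (Set.mem_insert_of_mem _ rfl))
  rw [ZZ, ← map_subtype_center]
  exact n _ (Set.mem_insert _ _)

theorem inf_comm_le_ZK (hp2 : p ≠ 2) (hS : IsSyl p S ⊤) :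
    S ⊓ ⁅(⊤ : Subgroup G), ⊤⁆ ≤ S ⊓ ⁅𝐂 (ZZ S), 𝐂 (ZZ S)⁆ ⊔
      S ⊓ ⁅𝐍 (inducedFunctor (kFun p) S), 𝐍 (inducedFunctor (kFun p) S)⁆ := by
  have c : S ≤ 𝐂 (ZZ S) := le_centralizer_iff.1 inf_le_right
  have n := cf_normalizer (isConjugacyFunctor_induced (G := G) cpf_k) hS.isP
  refine (famTr_ZK hp2 hS).trans (sup_le (focal_le (hS.mono (c.trans (centralizer_le_normalizer _)) le_top)
    fun a ha g hg h => ?_) le_sup_right)
  obtain ⟨x, hx, k⟩ := (hS.mono c le_top).frattini_mem (normalizer_le_normalizer_centralizer _ hg)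
  have m := conj_mem_of_mem_normalizer k ha
  rw [show a⁻¹ * (g * a * g⁻¹) = ⁅a⁻¹, x * g⁆ * ⁅x, (g * a * g⁻¹)⁻¹⁆ by simp only [commutatorElement_def]; group]
  have e : (x * g * a * (x * g)⁻¹)⁻¹ * (g * a * g⁻¹) = ⁅x, (g * a * g⁻¹)⁻¹⁆ := by
    simp only [commutatorElement_def]; group
  have e' : a⁻¹ * (x * g * a * (x * g)⁻¹) = ⁅a⁻¹, x * g⁆ := by simp only [commutatorElement_def]; group
  exact mul_mem (mem_sup_right (mem_inf.2 ⟨e' ▸ mul_mem (inv_mem ha) m, commutator_mem_commutator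
    (n (le_normalizer (inv_mem ha))) (n k)⟩)) (mem_sup_left (mem_inf.2 ⟨e ▸ mul_mem (inv_mem m) h,
      commutator_mem_commutator hx (c (inv_mem h))⟩))

end H27
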