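import Cfsg.Agent.H3.PGrpBasic
import Cfsg.Agent.H1.Fitting
import Mathlib.GroupTheory.SpecificGroups.Dihedral

/-! Generic tools for `2`-groups with a long upper central chain of index `2`: centralizers modulo a normal
subgroup (`Cm`, `cenN`), index-two subgroups (`idx_two`, `exists_half`), the embedding of an elementary abelian
section with simple socle in a permutation module (`Lam`, `th`, `Lam.card_le`). -/

namespace H27.Ru

open Subgroup
open scoped commutatorElement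

variable {T : Type*} [Group T]

theorem two_mul_le [Finite T] {A B : Subgroup T} (h : A < B) : 2 * Nat.card A ≤ Nat.card B := by
  obtain ⟨k, hk⟩ := card_dvd_of_le h.le
  have h1 : k ≠ 1 := by
    rintro rfl
    exact h.ne (eq_of_le_of_card_ge h.le (by omega))
  have h0 : k ≠ 0 := by
    rintro rfl
    exact Nat.card_pos.ne' hk
  rw [hk, mul_comm]
  exact Nat.mul_le_mul_left _ (by omega)

theorem card_rel {L H : Subgroup T} (h : L ≤ H) : Nat.card L * L.relIndex H = Nat.card H := by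
  rw [relIndex, ← (L.subgroupOf H).card_mul_index, Nat.card_congr (subgroupOfEquivOfLe h).toEquiv]

theorem idx_two [Finite T] {L H : Subgroup T} (h : L ≤ H) (hc : Nat.card H ≤ 2 * Nat.card L) {x y : T} (hx : x ∈ H)
    (hy : y ∈ H) (hx' : x ∉ L) (hy' : y ∉ L) : x * y ∈ L := by
  have h1 := card_rel h
  have h0 : L.relIndex H ≠ 0 := index_ne_zero_of_finite
  have h2 : L.relIndex H ≠ 1 := fun e => hx' (relIndex_eq_one.1 e hx)
  have h3 : L.relIndex H ≤ 2 := by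
    rw [← h1, mul_comm 2] at hc
    exact Nat.le_of_mul_le_mul_left hc Nat.card_pos
  exact (mul_mem_iff_of_index_two (H := L.subgroupOf H) (by change L.relIndex H = 2; omega) (a := ⟨x, hx⟩)
    (b := ⟨y, hy⟩)).2 (iff_of_false hx' hy')

open Classical in
/-- Indicator of the complement. -/
noncomputable def ind (L : Subgroup T) (x : T) : ZMod 2 := if x ∈ L then 0 else 1

theorem ind_eq_zero {L : Subgroup T} {x : T} : ind L x = 0 ↔ x ∈ L := by
  unfold ind; split_ifs with h <;> simp [h]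

theorem ind_mul [Finite T] {L H : Subgroup T} (h : L ≤ H) (hc : Nat.card H ≤ 2 * Nat.card L) {x y : T} (hx : x ∈ H)
    (hy : y ∈ H) : ind L (x * y) = ind L x + ind L y := by
  unfold ind
  by_cases a : x ∈ L <;> by_cases b : y ∈ L
  · simp [a, b, L.mul_mem a b]
  · simp [a, b, L.mul_mem_cancel_left a]
  · simp [a, b, L.mul_mem_cancel_right b]
  · simp only [a, b, idx_two h hc hx hy a b, if_true, if_false]; rfl

theorem ker_half [Finite T] (H : Subgroup T) (F : T → ZMod 2) (hF : ∀ x ∈ H, ∀ y ∈ H, F (x * y) = F x + F y) :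
    ∃ K ≤ H, Nat.card H ≤ 2 * Nat.card K ∧ ∀ x ∈ H, x ∈ K ↔ F x = 0 := by
  let φ : H →* Multiplicative (ZMod 2) := MonoidHom.mk' (fun x => Multiplicative.ofAdd (F x)) fun a b => by
    rw [← ofAdd_add, ← hF _ a.2 _ b.2]; rfl
  refine ⟨φ.ker.map H.subtype, map_subtype_le _, ?_, fun x hx => ⟨?_, fun h => ⟨⟨x, hx⟩, h, rfl⟩⟩⟩
  · rw [card_map_of_injective H.subtype_injective, ← φ.ker.card_mul_index, index_ker, mul_comm]
    exact Nat.mul_le_mul_right _ ((card_le_card_group _).trans (by simp))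
  · rintro ⟨y, hy, rfl⟩
    exact hy

theorem sq_comm {H N : Subgroup T} (hs : ∀ x ∈ H, x * x ∈ N) {x y : T} (hx : x ∈ H) (hy : y ∈ H) :
    x * y * x⁻¹ * y⁻¹ ∈ N := by
  have : x * y * x⁻¹ * y⁻¹ = (x * x) * ((x⁻¹ * y) * (x⁻¹ * y)) * (y⁻¹ * y⁻¹) := by group
  rw [this]
  exact N.mul_mem (N.mul_mem (hs _ hx) (hs _ (H.mul_mem (H.inv_mem hx) hy))) (hs _ (H.inv_mem hy))

theorem exists_half [Finite T] {H N : Subgroup T} (h : N ≤ H) (hs : ∀ x ∈ H, x * x ∈ N) {b : T} (hb : b ∈ H)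
    (hbN : b ∉ N) : ∃ U, N ≤ U ∧ U ≤ H ∧ b ∉ U ∧ Nat.card H ≤ 2 * Nat.card U := by
  obtain ⟨U, ⟨h1, h2, h3⟩, hmax⟩ := exists_maximal_of_wellFoundedGT (fun U : Subgroup T => N ≤ U ∧ U ≤ H ∧ b ∉ U)
    ⟨N, le_rfl, h, hbN⟩
  refine ⟨U, h1, h2, h3, ?_⟩
  have key : ∀ x ∈ H, x ∉ U → x⁻¹ * b ∈ U := fun x hx hxU => by
    have hc : ∀ u ∈ U, x * u * x⁻¹ ∈ U := fun u hu => by
      simpa using U.mul_mem (h1 (sq_comm hs hx (h2 hu))) hu
    have hxx := h1 (hs x hx)
    have hc' : ∀ u ∈ U, x⁻¹ * u * x ∈ U := fun u hu => by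
      simpa using U.mul_mem (h1 (sq_comm hs (H.inv_mem hx) (h2 hu))) hu
    let U' : Subgroup T :=
      { carrier := {y | y ∈ U ∨ x⁻¹ * y ∈ U}
        one_mem' := Or.inl U.one_mem
        mul_mem' := by
          rintro y z (a | a) (c | c)
          · exact Or.inl (U.mul_mem a c)
          · exact Or.inr (by simpa [mul_assoc] using U.mul_mem (hc' _ a) c)
          · exact Or.inr (by simpa [mul_assoc] using U.mul_mem a c)
          · exact Or.inl (by simpa [mul_assoc] using U.mul_mem (U.mul_mem (hc _ a) hxx) c)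
        inv_mem' := by
          rintro y (a | a)
          · exact Or.inl (U.inv_mem a)
          · exact Or.inr (by simpa [mul_assoc] using U.mul_mem (hc' _ (U.inv_mem a)) (U.inv_mem hxx)) }
    by_contra hn
    refine hxU (hmax (y := U') ⟨fun y hy => Or.inl (h1 hy), ?_, fun e => e.elim h3 hn⟩ (fun y hy => Or.inl hy)
      (Or.inr (by simp)))
    rintro y (a | a)
    · exact h2 a
    · simpa using H.mul_mem hx (h2 a)
  have h4 : U.relIndex H = 2 := index_eq_two_iff.2 ⟨⟨b, hb⟩, fun y => by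
    by_cases hy : (y : T) ∈ U
    · exact Or.inr ⟨hy, fun e => h3 ((U.mul_mem_cancel_left hy).1 e)⟩
    · exact Or.inl ⟨show (y : T) * b ∈ U by simpa using key _ (H.inv_mem y.2) (by simpa using hy), hy⟩⟩
  rw [← card_rel h2, h4, mul_comm]

theorem card_map_mk [Finite T] {N H : Subgroup T} [N.Normal] (h : N ≤ H) :
    Nat.card (H.map (QuotientGroup.mk' N)) * Nat.card N = Nat.card H := by
  rw [← card_rel h, mul_comm, ← relIndex_ker, QuotientGroup.ker_mk']

/-- Centralizer of `x` modulo `N`. -/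
def Cm (x : T) (N : Subgroup T) [N.Normal] : Subgroup T :=
  (centralizer {(x : T ⧸ N)}).comap (QuotientGroup.mk' N)

theorem mem_Cm {x g : T} {N : Subgroup T} [N.Normal] : g ∈ Cm x N ↔ ⁅x, g⁆ ∈ N := by
  rw [Cm, mem_comap, mem_centralizer_singleton_iff, ← QuotientGroup.eq_one_iff, eq_comm,
    ← commutatorElement_eq_one_iff_mul_comm]
  rfl

theorem cen0 [Finite T] (H L : Subgroup T) (x : T) (h : ∀ g ∈ H, ⁅x, g⁆ ∈ L) :
    Nat.card H ≤ Nat.card (H ⊓ centralizer {x} : Subgroup T) * Nat.card L := by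
  rw [← card_rel (inf_le_left : H ⊓ centralizer {x} ≤ H)]
  refine Nat.mul_le_mul_left _ (Nat.card_le_card_of_injective
    (fun q : H ⧸ (H ⊓ centralizer {x}).subgroupOf H => (⟨⁅x, q.out⁆, h _ q.out.2⟩ : L)) fun a b e => ?_)
  rw [← a.out_eq', ← b.out_eq', QuotientGroup.eq]
  refine ⟨(a.out⁻¹ * b.out).2, mem_centralizer_singleton_iff.2 ?_⟩
  have e1 : ⁅x, (a.out : T)⁆ = ⁅x, (b.out : T)⁆ := congrArg Subtype.val e
  simp only [commutatorElement_def, mul_assoc, mul_right_inj] at e1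
  change (a.out : T)⁻¹ * b.out * x = x * ((a.out : T)⁻¹ * b.out)
  calc (a.out : T)⁻¹ * b.out * x = x * ((a.out : T)⁻¹ * (a.out * (x⁻¹ * (a.out : T)⁻¹)) * b.out * x) := by group
    _ = _ := by rw [e1]; group

theorem cenN [Finite T] {H L N : Subgroup T} [N.Normal] (h1 : N ≤ H) (h2 : N ≤ L) (x : T) (h : ∀ g ∈ H, ⁅x, g⁆ ∈ L) :
    Nat.card H * Nat.card N ≤ Nat.card (H ⊓ Cm x N : Subgroup T) * Nat.card L := by
  have a := cen0 (H.map (QuotientGroup.mk' N)) (L.map (QuotientGroup.mk' N)) (x : T ⧸ N) (by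
    rintro _ ⟨g, hg, rfl⟩
    exact ⟨_, h g hg, rfl⟩)
  have b : N ≤ H ⊓ Cm x N := fun n hn => ⟨h1 hn, mem_Cm.2 (by
    simpa [commutatorElement_def] using N.mul_mem (‹N.Normal›.conj_mem n hn x) (N.inv_mem hn))⟩
  have c : (H ⊓ (centralizer {(x : T ⧸ N)}).comap (QuotientGroup.mk' N)).map (QuotientGroup.mk' N) =
      H.map (QuotientGroup.mk' N) ⊓ centralizer {(x : T ⧸ N)} := by
    ext y
    exact ⟨fun ⟨g, hg, e⟩ => ⟨⟨g, hg.1, e⟩, e ▸ hg.2⟩, fun ⟨⟨g, hg, e⟩, h2⟩ => ⟨g, ⟨hg, by rwa [← e] at h2⟩, e⟩⟩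
  rw [← card_map_mk h1, ← card_map_mk h2, ← card_map_mk b, Cm, c]
  calc _ ≤ _ * Nat.card N * Nat.card N := Nat.mul_le_mul_right _ (Nat.mul_le_mul_right _ a)
    _ = _ := by ring

theorem comm_le_iff {A B N : Subgroup T} [N.Normal] :
    ⁅A, B⁆ ≤ N ↔ A ≤ (centralizer (B.map (QuotientGroup.mk' N) : Set (T ⧸ N))).comap (QuotientGroup.mk' N) := by
  rw [← map_le_iff_le_comap, ← commutator_eq_bot_iff_le_centralizer, ← map_commutator, Subgroup.map_eq_bot_iff,
    QuotientGroup.ker_mk']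

theorem comm_sup_l {A A' B N : Subgroup T} [N.Normal] (h : ⁅A, B⁆ ≤ N) (h' : ⁅A', B⁆ ≤ N) : ⁅A ⊔ A', B⁆ ≤ N :=
  comm_le_iff.2 (sup_le (comm_le_iff.1 h) (comm_le_iff.1 h'))

theorem comm_sup_r {A A' B N : Subgroup T} [N.Normal] (h : ⁅B, A⁆ ≤ N) (h' : ⁅B, A'⁆ ≤ N) : ⁅B, A ⊔ A'⁆ ≤ N := by
  rw [commutator_comm] at *
  exact comm_sup_l h h'

/-- A separating linear functional on the section `X / N`. -/
structure Lam (N X : Subgroup T) (l : T → ZMod 2) : Prop where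
  nX : X.Normal
  add : ∀ x ∈ X, ∀ y ∈ X, l (x * y) = l x + l y
  zero : ∀ x ∈ N, l x = 0
  le : N ≤ X
  sep : ∀ x ∈ X, (∀ g, l (g * x * g⁻¹) = 0) → x ∈ N

theorem exists_lam [Finite T] {N X M : Subgroup T} (hX : X.Normal) (h : N ≤ X) (hs : ∀ x ∈ X, x * x ∈ N)
    (hM : ¬ M ≤ N) (hL : ∀ L : Subgroup T, L.Normal → L ≤ N ∨ M ≤ L) : ∃ l, Lam N X l := by
  rcases hL X hX with h1 | h1
  · exact ⟨fun _ => 0, hX, by simp, by simp, h, fun x hx _ => h1 hx⟩
  obtain ⟨b, hb, hbN⟩ := SetLike.not_le_iff_exists.1 hM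
  obtain ⟨U, a1, a2, a3, a4⟩ := exists_half h hs (h1 hb) hbN
  refine ⟨ind U, hX, fun x hx y hy => ind_mul a2 a4 hx hy, fun x hx => ind_eq_zero.2 (a1 hx), h, fun x hx h0 => ?_⟩
  exact (hL U.normalCore inferInstance).resolve_right (fun e => a3 (normalCore_le U (e hb))) fun g => ind_eq_zero.1 (h0 g)

/-- The embedding in the permutation module. -/
noncomputable def th (l : T → ZMod 2) (B : Subgroup T) (y : T) : T ⧸ B → ZMod 2 := fun q => l (q.out * y * q.out⁻¹)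

variable {N X B Y : Subgroup T} {l : T → ZMod 2}

theorem Lam.th_mk [hN : N.Normal] (h : Lam N X l) {y : T} (hy : y ∈ X) (hB : ∀ b ∈ B, ⁅y, b⁆ ∈ N) (g : T) :
    th l B y g = l (g * y * g⁻¹) := by
  obtain ⟨b, hb⟩ := QuotientGroup.mk_out_eq_mul B g
  have h1 := hN.conj_mem _ (N.inv_mem (hB b b.2)) g
  rw [th, hb, show g * b * y * (g * b)⁻¹ = g * ⁅y, (b : T)⁆⁻¹ * g⁻¹ * (g * y * g⁻¹) by
    simp only [commutatorElement_def]; group, h.add _ (h.le h1) _ (h.nX.conj_mem _ hy g), h.zero _ h1, zero_add]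

theorem Lam.th_mul (h : Lam N X l) {x y : T} (hx : x ∈ X) (hy : y ∈ X) : th l B (x * y) = th l B x + th l B y := by
  funext q
  rw [Pi.add_apply, th, th, th, ← h.add _ (h.nX.conj_mem _ hx _) _ (h.nX.conj_mem _ hy _)]
  congr 1; group

theorem Lam.th_eq_zero [hN : N.Normal] (h : Lam N X l) {y : T} (hy : y ∈ X) (hB : ∀ b ∈ B, ⁅y, b⁆ ∈ N) :
    th l B y = 0 ↔ y ∈ N :=
  ⟨fun e => h.sep y hy fun g => by rw [← h.th_mk hy hB, e]; rfl, fun e => funext fun _ => h.zero _ (hN.conj_mem _ e _)⟩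

/-- `th` as a homomorphism. -/
noncomputable def Lam.hom (h : Lam N X l) (B : Subgroup T) (hY : Y ≤ X) : Y →* Multiplicative (T ⧸ B → ZMod 2) :=
  MonoidHom.mk' (fun y => Multiplicative.ofAdd (th l B y)) fun a b => by
    rw [← ofAdd_add, ← h.th_mul (hY a.2) (hY b.2)]; rfl

theorem Lam.card_range [Finite T] [N.Normal] (h : Lam N X l) (hY : Y ≤ X) (hB : ⁅Y, B⁆ ≤ N) :
    Nat.card Y ≤ Nat.card N * Nat.card (h.hom B hY).range := by
  rw [← (h.hom B hY).ker.card_mul_index, index_ker]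
  refine Nat.mul_le_mul_right _ (Nat.card_le_card_of_injective (fun y => ⟨y.1.1, ?_⟩) fun a b e =>
    Subtype.ext (Subtype.ext (congrArg (·.1) e)))
  exact (h.th_eq_zero (hY y.1.2) fun b hb => hB (commutator_mem_commutator y.1.2 hb)).1 y.2

theorem card_fun [Finite T] (B : Subgroup T) : Nat.card (Multiplicative (T ⧸ B → ZMod 2)) = 2 ^ B.index := by
  rw [Nat.card_congr Multiplicative.toAdd, Nat.card_fun, Nat.card_zmod, index]

theorem Lam.card_le [Finite T] [N.Normal] (h : Lam N X l) (hY : Y ≤ X) (hB : ⁅Y, B⁆ ≤ N) :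
    Nat.card Y ≤ Nat.card N * 2 ^ B.index :=
  (h.card_range hY hB).trans (Nat.mul_le_mul_left _ ((card_le_card_group _).trans (card_fun B).le))

theorem Lam.surj [Finite T] [N.Normal] (h : Lam N X l) (hY : Y ≤ X) (hB : ⁅Y, B⁆ ≤ N)
    (hc : Nat.card N * 2 ^ B.index ≤ Nat.card Y) (c : T ⧸ B → ZMod 2) : ∃ y ∈ Y, th l B y = c := by
  have h1 := Nat.le_of_mul_le_mul_left (hc.trans (h.card_range hY hB)) Nat.card_pos
  rw [← card_fun] at h1
  obtain ⟨y, hy⟩ := (eq_top_of_le_card _ h1).ge (mem_top (Multiplicative.ofAdd c))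
  exact ⟨y, y.2, hy⟩

end H27.Ru
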