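import Cfsg.Agent.H27.Ru1
import Cfsg.Agent.H2.Syl
import Cfsg.Agent.S3157

/-! `2`-groups of Rudvalis type: `|T| ≥ 2^14`, `|Z₄(T)| = 16`, `W = C_T(Z₃(T))` with small Frattini subgroup
contained in all subgroups of index at most `16` (`Hyp`): orders, `W' = Φ(W) = Z(W) = Z₃`, `T/W ≅ D₈`. -/

namespace H27.Ru

open Subgroup DihedralGroup
open scoped commutatorElement

local notation "Z[" T "," n "]" => Subgroup.upperCentralSeries T n

/-- Table function. -/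
def mkf (a b c d e f g h : ZMod 2) : DihedralGroup 4 → ZMod 2
  | r i => if i = 0 then a else if i = 1 then b else if i = 2 then c else d
  | sr i => if i = 0 then e else if i = 1 then f else if i = 2 then g else h

/-- Reduced form. -/
def M2 (φ : DihedralGroup 4 → ZMod 2) (e0 d e : DihedralGroup 4) : ZMod 2 :=
  φ (d * e⁻¹) + φ d * φ (e * e0⁻¹) + φ (d * e0⁻¹) * φ e

theorem comp0 : ∀ b c e f g h : ZMod 2, (f = 0 ∧ h = 0 ∨ e = 0 ∧ g = 0) → c + e + f + g + h = 0 →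
    ∃ e0 d1 e1 : DihedralGroup 4, ∀ d e' : DihedralGroup 4, M2 (mkf 0 b c b e f g h) e0 d e' =
      M2 (mkf 0 b c b e f g h) e0 d d1 * M2 (mkf 0 b c b e f g h) e0 e' e1 +
      M2 (mkf 0 b c b e f g h) e0 d e1 * M2 (mkf 0 b c b e f g h) e0 e' d1 := by
  decide +kernel

theorem sum_d4 (φ : DihedralGroup 4 → ZMod 2) : ∑ x, φ x =
    φ (r 0) + φ (r 1) + φ (r 2) + φ (r 3) + φ (sr 0) + φ (sr 1) + φ (sr 2) + φ (sr 3) := by
  rw [show (Finset.univ : Finset (DihedralGroup 4)) = {r 0, r 1, r 2, r 3, sr 0, sr 1, sr 2, sr 3} by decide]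
  repeat rw [Finset.sum_insert (by decide)]
  rw [Finset.sum_singleton]; ring

theorem comp (φ : DihedralGroup 4 → ZMod 2) (h1 : φ 1 = 0) (hs : ∀ x, φ x⁻¹ = φ x)
    (ht : φ (sr 1) = 0 ∧ φ (sr 3) = 0 ∨ φ (sr 0) = 0 ∧ φ (sr 2) = 0) (hsum : ∑ x, φ x = 0) :
    ∃ l1 l2 m1 m2 : DihedralGroup 4 → ZMod 2, ∀ d e, φ (d * e⁻¹) = l1 d * m1 e + m1 d * l1 e + (l2 d * m2 e + m2 d * l2 e) := by
  have h3 : φ (r 3) = φ (r 1) := hs (r 1)
  have h0 : φ (r 0) = 0 := h1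
  have e : φ = mkf 0 (φ (r 1)) (φ (r 2)) (φ (r 1)) (φ (sr 0)) (φ (sr 1)) (φ (sr 2)) (φ (sr 3)) := by
    funext x
    rcases x with i | i <;> fin_cases i <;> first | rfl | exact h0 | exact h3
  obtain ⟨e0, d1, e1, h⟩ := comp0 (φ (r 1)) (φ (r 2)) (φ (sr 0)) (φ (sr 1)) (φ (sr 2)) (φ (sr 3)) ht (by
    rw [sum_d4, h0, h3] at hsum
    linear_combination hsum - φ (r 1) * (by decide : (2 : ZMod 2) = 0))
  rw [← e] at h
  refine ⟨φ, fun d => M2 φ e0 d d1, fun d => φ (d * e0⁻¹), fun d => M2 φ e0 d e1, fun d e' => ?_⟩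
  rw [← h d e', M2]
  linear_combination (-(φ d * φ (e' * e0⁻¹)) - φ (d * e0⁻¹) * φ e') * (by decide : (2 : ZMod 2) = 0)

theorem q8 : ∀ u v : QuaternionGroup 2, u * u = 1 → v * v = 1 → u * v = v * u := by decide

variable {T : Type*} [Group T] [Finite T]

/-- The hypotheses. -/
structure Hyp (W : Subgroup T) : Prop where
  p2 : IsPGroup 2 T
  big : 2 ^ 14 ≤ Nat.card T
  z4 : Nat.card Z[T, 4] = 16
  w : W = centralizer (Z[T, 3] : Set T)
  c : Nat.card (frattini W) ≤ 8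
  d : ∀ U : Subgroup W, U.index ≤ 16 → frattini W ≤ U

variable {W : Subgroup T}

omit [Finite T] in
theorem zle (i : ℕ) : Z[T, i] ≤ Z[T, i + 1] := Subgroup.upperCentralSeries_mono T (Nat.le_succ i)

theorem exists_z (h : IsPGroup 2 T) {N : Subgroup T} [N.Normal] {i : ℕ} (hN : ¬ N ≤ Z[T, i]) :
    ∃ y ∈ N, y ∈ Z[T, i + 1] ∧ y ∉ Z[T, i] := by
  have := h.isNilpotent
  have h1 := H1.normal_inf_center_ne_bot (N.map (QuotientGroup.mk' Z[T, i]))
    (by rwa [Ne, Subgroup.map_eq_bot_iff, QuotientGroup.ker_mk'])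
  obtain ⟨⟨_, ⟨y, hy, rfl⟩, h2⟩, h3⟩ := ne_bot_iff_exists_ne_one.1 h1
  refine ⟨y, hy, Subgroup.mem_upperCentralSeries_succ_iff.2 fun g => (QuotientGroup.eq_one_iff _).1 ?_,
    fun e => h3 (Subtype.ext ((QuotientGroup.eq_one_iff _).2 e))⟩
  exact commutatorElement_eq_one_iff_mul_comm.2 (mem_center_iff.1 h2 g).symm

theorem Hyp.cards (h : Hyp W) : Nat.card Z[T, 0] = 1 ∧ Nat.card Z[T, 1] = 2 ∧ Nat.card Z[T, 2] = 4 ∧
    Nat.card Z[T, 3] = 8 := by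
  have hlt : ∀ i ≤ 3, 2 * Nat.card Z[T, i] ≤ Nat.card Z[T, i + 1] := fun i hi => by
    obtain ⟨y, -, h1, h2⟩ := exists_z h.p2 (N := ⊤) (i := i) fun e => by
      have := card_le_of_le (e.trans (Subgroup.upperCentralSeries_mono T (show i ≤ 4 by omega)))
      rw [h.z4, card_top] at this
      have := h.big
      omega
    exact two_mul_le (lt_of_le_of_ne (zle i) fun e => h2 (e ▸ h1))
  have h0 : Nat.card Z[T, 0] = 1 := card_bot
  have := hlt 0 (by omega); have := hlt 1 (by omega); have := hlt 2 (by omega); have := hlt 3 (by omega)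
  have := h.z4
  simp only [Nat.reduceAdd] at *
  omega

theorem Hyp.dbl (h : Hyp W) {i : ℕ} (hi : i ≤ 3) : Nat.card Z[T, i + 1] = 2 * Nat.card Z[T, i] := by
  obtain ⟨a, b, c, d⟩ := h.cards
  have := h.z4
  interval_cases i <;> simp only [Nat.reduceAdd] <;> omega

theorem Hyp.gen (h : Hyp W) {i : ℕ} (hi : i ≤ 3) {L : Subgroup T} (h1 : Z[T, i] ≤ L) {y : T} (hy : y ∈ L)
    (h2 : y ∈ Z[T, i + 1]) (h3 : y ∉ Z[T, i]) : Z[T, i + 1] ≤ L := by
  have := two_mul_le (lt_of_le_of_ne (le_inf h1 (zle i)) fun e => h3 (e ▸ ⟨hy, h2⟩))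
  exact inf_eq_right.1 (eq_of_le_of_card_ge inf_le_right (h.dbl hi ▸ this))

theorem Hyp.nrm (h : Hyp W) {i : ℕ} (hi : i ≤ 3) (N : Subgroup T) (hN : N.Normal) : N ≤ Z[T, i] ∨ Z[T, i + 1] ≤ N := by
  induction i with
  | zero =>
    refine or_iff_not_imp_left.2 fun e => ?_
    obtain ⟨y, a, b, c⟩ := exists_z h.p2 e
    exact h.gen hi bot_le a b c
  | succ i ih =>
    refine or_iff_not_imp_left.2 fun e => ?_
    obtain ⟨y, a, b, c⟩ := exists_z h.p2 e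
    exact h.gen hi ((ih (by omega)).resolve_left fun e2 => e (e2.trans (zle i))) a b c

theorem Hyp.nle (h : Hyp W) {i : ℕ} (hi : i ≤ 3) : ¬ Z[T, i + 1] ≤ Z[T, i] := fun e => by
  have := card_le_of_le e
  have := Nat.card_pos (α := Z[T, i])
  have := h.dbl hi
  omega

theorem Hyp.mul (h : Hyp W) {i : ℕ} (hi : i ≤ 3) {x y : T} (hx : x ∈ Z[T, i + 1]) (hy : y ∈ Z[T, i + 1])
    (hx' : x ∉ Z[T, i]) (hy' : y ∉ Z[T, i]) : x * y ∈ Z[T, i] := idx_two (zle i) (h.dbl hi).le hx hy hx' hy'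

theorem Hyp.sq (h : Hyp W) {i : ℕ} (hi : i ≤ 3) {x : T} (hx : x ∈ Z[T, i + 1]) : x * x ∈ Z[T, i] := by
  by_cases e : x ∈ Z[T, i]
  · exact mul_mem e e
  · exact h.mul hi hx hx e e

theorem Hyp.lam (h : Hyp W) {i : ℕ} (hi : i ≤ 3) {X : Subgroup T} (hX : X.Normal) (h1 : Z[T, i] ≤ X)
    (hs : ∀ x ∈ X, x * x ∈ Z[T, i]) : ∃ l, Lam Z[T, i] X l := exists_lam hX h1 hs (h.nle hi) (h.nrm hi)

omit [Finite T] in
theorem Hyp.nW (h : Hyp W) : W.Normal := h.w ▸ inferInstance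

theorem Hyp.memW (h : Hyp W) {a b g : T} (ha : a ∈ Z[T, 2]) (ha' : a ∉ Z[T, 1]) (hb : b ∈ Z[T, 3]) (hb' : b ∉ Z[T, 2])
    (h1 : ⁅a, g⁆ = 1) (h2 : ⁅b, g⁆ = 1) : g ∈ W := by
  rw [commutatorElement_eq_one_iff_mul_comm, ← mem_centralizer_singleton_iff] at h1 h2
  have := h.gen (i := 2) (by omega) (h.gen (i := 1) (by omega) (by
    rw [Subgroup.upperCentralSeries_one]; exact center_le_centralizer _) h1 ha ha') h2 hb hb'
  rw [h.w]
  exact fun y hy => mem_centralizer_singleton_iff.1 (this hy)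

theorem Hyp.phi (h : Hyp W) : (frattini W).map W.subtype ≤ Z[T, 3] := by
  have := h.nW
  refine (h.nrm le_rfl _ inferInstance).resolve_right fun e => ?_
  have := card_le_of_le e
  rw [card_map_of_injective W.subtype_injective, h.z4] at this
  have := h.c
  omega

theorem Hyp.sqW (h : Hyp W) {x : T} (hx : x ∈ W) : x * x ∈ Z[T, 3] :=
  h.phi (pow_two x ▸ H3.pow_mem_map_subtype_frattini (h.p2.to_subgroup W) hx)

theorem Hyp.main (h : Hyp W) : Nat.card T = 2 ^ 14 ∧ Nat.card W = 2 ^ 11 ∧ W.index = 8 ∧ Z[T, 3] ≤ W := by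
  have := h.nW
  obtain ⟨c0, c1, c2, c3⟩ := h.cards
  obtain ⟨a, ha, ha'⟩ := SetLike.not_le_iff_exists.1 (h.nle (i := 1) (by omega))
  obtain ⟨b, hb, hb'⟩ := SetLike.not_le_iff_exists.1 (h.nle (i := 2) (by omega))
  have h1 := cen0 ⊤ Z[T, 1] a fun g _ => Subgroup.mem_upperCentralSeries_succ_iff.1 ha g
  have h2 := cen0 (⊤ ⊓ centralizer {a}) Z[T, 2] b fun g _ => Subgroup.mem_upperCentralSeries_succ_iff.1 hb g
  have h3 : Nat.card (⊤ ⊓ centralizer {a} ⊓ centralizer {b} : Subgroup T) ≤ Nat.card W := card_le_of_le fun g hg =>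
    h.memW ha ha' hb hb' (commutatorElement_eq_one_iff_mul_comm.2 (mem_centralizer_singleton_iff.1 hg.1.2).symm)
      (commutatorElement_eq_one_iff_mul_comm.2 (mem_centralizer_singleton_iff.1 hg.2).symm)
  rw [card_top, c1] at h1
  rw [c2] at h2
  have h4 := W.card_mul_index
  have h5 : W.index ≤ 8 := Nat.le_of_mul_le_mul_left (by omega) (Nat.card_pos (α := W))
  have hs : ∀ x ∈ W ⊔ Z[T, 3], x * x ∈ Z[T, 3] := fun x hx => by
    obtain ⟨w, hw, y, hy, rfl⟩ := mem_sup_of_normal_right.1 hx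
    rw [show w * y * (w * y) = w * w * (w⁻¹ * y * w * y) by group]
    exact mul_mem (h.sqW hw) (mul_mem (Normal.conj_mem' inferInstance _ hy w) hy)
  obtain ⟨l, hl⟩ := h.lam le_rfl inferInstance le_sup_right hs
  have h6 := hl.card_le (B := W ⊔ Z[T, 3]) le_rfl (commutator_le.2 fun x hx y hy => sq_comm hs hx hy)
  have h7 := (W ⊔ Z[T, 3]).card_mul_index
  have h8 : (W ⊔ Z[T, 3]).index ≤ W.index := index_antitone le_sup_left
  have h9 := h.big
  have h10 : Nat.card W ≤ Nat.card (W ⊔ Z[T, 3] : Subgroup T) := card_le_of_le le_sup_left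
  rw [c3] at h6
  have h11 : (W ⊔ Z[T, 3]).index = 8 := by
    generalize (W ⊔ Z[T, 3]).index = s at *
    have : s ≤ 8 := by omega
    interval_cases s <;> omega
  rw [h11] at h6 h7 h8
  have h12 : W.index = 8 := by omega
  rw [h12] at h4
  refine ⟨by omega, by omega, h12, ?_⟩
  exact le_sup_right.trans (eq_of_le_of_card_ge le_sup_left (by omega)).ge

theorem Hyp.phi_eq (h : Hyp W) : (frattini W).map W.subtype = Z[T, 3] := by
  have := h.nW
  obtain ⟨-, h1, h2, h3⟩ := h.main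
  refine le_antisymm h.phi ((h.nrm (i := 2) (by omega) _ inferInstance).resolve_left fun e => ?_)
  have hs : ∀ x ∈ W, x * x ∈ Z[T, 2] := fun x hx => e (pow_two x ▸ H3.pow_mem_map_subtype_frattini (h.p2.to_subgroup W) hx)
  obtain ⟨l, hl⟩ := h.lam (by omega) this ((zle 2).trans h3) hs
  have := hl.card_le (B := W) le_rfl (commutator_le.2 fun x hx y hy => sq_comm hs hx hy)
  rw [h1, h2, h.cards.2.2.1] at this
  omega

theorem Hyp.small (h : Hyp W) {U : Subgroup T} (h1 : U.relIndex W ≤ 16) : Z[T, 3] ≤ U := by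
  rw [← h.phi_eq, map_le_iff_le_comap]
  exact h.d _ h1

omit [Finite T] in
theorem Hyp.cen (h : Hyp W) {y w : T} (hy : y ∈ Z[T, 3]) (hw : w ∈ W) : y * w = w * y := (h.w ▸ hw) y hy

theorem Hyp.cm (h : Hyp W) {x y : T} (hx : x ∈ W) (hy : y ∈ W) : ⁅x, y⁆ ∈ Z[T, 3] :=
  sq_comm (fun _ => h.sqW) hx hy

theorem Hyp.cmr (h : Hyp W) {x y z : T} (hx : x ∈ W) (hy : y ∈ W) (hz : z ∈ W) : ⁅x, y * z⁆ = ⁅x, y⁆ * ⁅x, z⁆ := by
  calc ⁅x, y * z⁆ = ⁅x, y⁆ * (y * ⁅x, z⁆) * y⁻¹ := by simp only [commutatorElement_def]; group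
    _ = _ := by rw [← h.cen (h.cm hx hz) hy]; group

theorem Hyp.cml (h : Hyp W) {x y z : T} (hx : x ∈ W) (hy : y ∈ W) (hz : z ∈ W) : ⁅x * y, z⁆ = ⁅x, z⁆ * ⁅y, z⁆ := by
  calc ⁅x * y, z⁆ = (x * ⁅y, z⁆) * x⁻¹ * ⁅x, z⁆ := by simp only [commutatorElement_def]; group
    _ = ⁅y, z⁆ * ⁅x, z⁆ := by rw [← h.cen (h.cm hy hz) hx]; group
    _ = _ := h.cen (h.cm hy hz) (h.main.2.2.2 (h.cm hx hz))

theorem Hyp.fin (h : Hyp W) {A : Subgroup T} (h1 : A ≤ W) (h2 : Nat.card W ≤ 4 * Nat.card A) (h3 : Z[T, 3] ≤ A)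
    (h4 : ∀ u ∈ A, ∀ v ∈ A, ⁅u, v⁆ ∈ Z[T, 2]) : False := by
  have hd := (h.dbl (i := 2) (by omega)).le
  obtain ⟨O, a1, a2, a3⟩ := ker_half A (fun x => ind Z[T, 2] (x * x)) fun x hx y hy => by
    have e : x * y * (x * y) = x * x * (⁅x⁻¹, y⁆ * (y * y)) := by
      rw [h.cen (h.cm (W.inv_mem (h1 hx)) (h1 hy)), show x * y * (x * y) = x * x * (⁅x⁻¹, y⁆ * y) * y by
        simp only [commutatorElement_def]; group, h.cen (h.cm (W.inv_mem (h1 hx)) (h1 hy)) (h1 hy),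
        mul_assoc, mul_assoc, mul_assoc, h.cen (h.cm (W.inv_mem (h1 hx)) (h1 hy)) (h1 hy)]
      · group
      · exact W.mul_mem (h1 hy) (h1 hy)
    have b1 := h4 _ (A.inv_mem hx) _ hy
    rw [e, ind_mul (zle 2) hd (h.sqW (h1 hx)) (mul_mem (zle 2 b1) (h.sqW (h1 hy))),
      ind_mul (zle 2) hd (zle 2 b1) (h.sqW (h1 hy)), ind_eq_zero.2 b1, zero_add]
  have hO : Z[T, 3] ≤ O := fun y hy => (a3 y (h3 hy)).2 (ind_eq_zero.2 (h.sq (by omega) hy))
  obtain ⟨b, hb, hb'⟩ := SetLike.not_le_iff_exists.1 (h.nle (i := 2) (by omega))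
  obtain ⟨U, b1, b2, b3, b4⟩ := exists_half ((zle 2).trans hO) (fun x hx => ind_eq_zero.1 ((a3 x (a1 hx)).1 hx))
    (hO hb) hb'
  refine b3 (h.small ?_ hb)
  have b5 := card_rel (b2.trans (a1.trans h1))
  exact Nat.le_of_mul_le_mul_left (by omega) (Nat.card_pos (α := U))

theorem Hyp.comm_eq (h : Hyp W) : ⁅W, W⁆ = Z[T, 3] := by
  have := h.nW
  refine le_antisymm (commutator_le.2 fun x hx y hy => h.cm hx hy)
    ((h.nrm (i := 2) (by omega) _ inferInstance).resolve_left fun e => ?_)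
  exact h.fin le_rfl (by omega) h.main.2.2.2 fun u hu v hv => e (commutator_mem_commutator hu hv)

theorem Hyp.elem (h : Hyp W) {y : T} (hy : y ∈ Z[T, 3]) : y * y = 1 := by
  let L : Subgroup T :=
    { carrier := {y | y ∈ Z[T, 3] ∧ y * y = 1}
      one_mem' := ⟨one_mem _, by simp⟩
      mul_mem' := fun {a b} ha hb => ⟨mul_mem ha.1 hb.1, by
        rw [mul_assoc, ← mul_assoc b, h.cen hb.1 (h.main.2.2.2 ha.1), mul_assoc, hb.2, mul_one, ha.2]⟩
      inv_mem' := fun {a} ha => ⟨inv_mem ha.1, by rw [← mul_inv_rev, ha.2, inv_one]⟩ }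
  refine (show Z[T, 3] ≤ L from h.comm_eq.ge.trans (commutator_le.2 fun a ha b hb => ⟨h.cm ha hb, ?_⟩)) hy |>.2
  rw [← h.cml ha ha hb, commutatorElement_eq_one_iff_mul_comm, h.cen (h.sqW ha) hb]

end H27.Ru
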