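import Cfsg.Agent.H27.Ru2

/-! `2`-groups of Rudvalis type, part 2: `T/W ≅ D₈` (`Hyp.d8`), nondegeneracy (`Hyp.key`), `Z(W) = Z₃`,
no odd automorphisms (`Hyp.aut`), uniqueness of `W` (`Hyp.wc`). -/

namespace H27.Ru

open Subgroup DihedralGroup
open scoped commutatorElement

local notation "Z[" T "," n "]" => Subgroup.upperCentralSeries T n

variable {T : Type*} [Group T] [Finite T] {W : Subgroup T}

omit [Finite T] in
theorem zs {i : ℕ} {x : T} (hx : x ∈ Z[T, i + 1]) (g : T) : ⁅x, g⁆ ∈ Z[T, i] :=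
  Subgroup.mem_upperCentralSeries_succ_iff.1 hx g

omit [Finite T] in
theorem z1 {x : T} (hx : x ∈ Z[T, 1]) (g : T) : g * x = x * g :=
  (commutatorElement_eq_one_iff_mul_comm.1 (mem_bot.1 (zs hx g))).symm

omit [Finite T] in
theorem cm_sq {y g : T} (h1 : g * ⁅y, g⁆ = ⁅y, g⁆ * g) (h2 : ⁅y, g⁆ * ⁅y, g⁆ = 1) : ⁅y, g * g⁆ = 1 := by
  calc ⁅y, g * g⁆ = ⁅y, g⁆ * (g * ⁅y, g⁆) * g⁻¹ := by simp only [commutatorElement_def]; group
    _ = 1 := by rw [h1, ← mul_assoc, h2]; group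

theorem Hyp.z2 (h : Hyp W) {a g : T} (ha : a ∈ Z[T, 2]) (ha' : a ∉ Z[T, 1]) (hg : a * g = g * a) {c : T}
    (hc : c ∈ Z[T, 2]) : c * g = g * c :=
  mem_centralizer_singleton_iff.1 (h.gen (i := 1) (by omega) (L := centralizer {g})
    (fun _ hx => mem_centralizer_singleton_iff.2 (z1 hx g).symm) (mem_centralizer_singleton_iff.2 hg) ha ha' hc)

theorem Hyp.sqK (h : Hyp W) {b g : T} (hb : b ∈ Z[T, 3]) (hb' : b ∉ Z[T, 2]) (hg : ⁅b, g⁆ ∈ Z[T, 1]) : g * g ∈ W := by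
  obtain ⟨a, ha, ha'⟩ := SetLike.not_le_iff_exists.1 (h.nle (i := 1) (by omega))
  exact h.memW ha ha' hb hb' (cm_sq (z1 (zs ha g) g) (h.elem (zle 2 (zle 1 (zs ha g)))))
    (cm_sq (z1 hg g) (h.elem (zle 2 (zle 1 hg))))

theorem Hyp.st (h : Hyp W) : ∃ s t, s * s ∈ W ∧ t * t ∈ W ∧ ⁅s, t⁆ ∉ W := by
  obtain ⟨c0, c1, c2, c3⟩ := h.cards
  obtain ⟨m1, m2, m3, m4⟩ := h.main
  obtain ⟨a, ha, ha'⟩ := SetLike.not_le_iff_exists.1 (h.nle (i := 1) (by omega))
  obtain ⟨b, hb, hb'⟩ := SetLike.not_le_iff_exists.1 (h.nle (i := 2) (by omega))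
  have h1 := cen0 ⊤ Z[T, 1] a fun g _ => zs ha g
  have h2 := cenN (H := ⊤) le_top (zle 1) b fun g _ => zs hb g
  have h3 := cen0 (centralizer {a} ⊓ Cm b Z[T, 1]) Z[T, 1] b fun g hg => mem_Cm.1 hg.2
  have h4 : Nat.card (centralizer {a} ⊓ Cm b Z[T, 1] ⊓ centralizer {b} : Subgroup T) ≤ Nat.card W := card_le_of_le fun g hg =>
    h.memW ha ha' hb hb' (commutatorElement_eq_one_iff_mul_comm.2 (mem_centralizer_singleton_iff.1 hg.1.1).symm)
      (commutatorElement_eq_one_iff_mul_comm.2 (mem_centralizer_singleton_iff.1 hg.2).symm)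
  rw [card_top, top_inf_eq, c1] at h1 h2
  rw [c1] at h3
  rw [c2] at h2
  obtain ⟨s, hs, hs'⟩ := SetLike.not_le_iff_exists.1 (show ¬ Cm b Z[T, 1] ≤ centralizer {a} from fun e => by
    rw [inf_eq_right.2 e] at h3 h4; omega)
  obtain ⟨t, ht, ht'⟩ := SetLike.not_le_iff_exists.1 (show ¬ centralizer {a} ≤ Cm b Z[T, 1] from fun e => by
    rw [inf_eq_left.2 e] at h3 h4; omega)
  rw [mem_Cm] at hs ht'
  rw [mem_centralizer_singleton_iff] at hs' ht
  refine ⟨s, t, h.sqK hb hb' hs, h.memW ha ha' hb hb' (by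
    rw [commutatorElement_eq_one_iff_mul_comm, ← mul_assoc, ← ht, mul_assoc, ← ht, mul_assoc])
    (cm_sq (h.z2 ha ha' ht.symm (zs hb t)).symm (h.elem (zle 2 (zs hb t)))), fun e => hs' ?_⟩
  refine (h.z2 (zs hb t) ht' ?_ ha).symm
  have a1 := h.cen (Normal.conj_mem inferInstance _ (inv_mem hb) (t * s)) e
  have a2 := z1 hs
  have a3 : s * b⁻¹ * s⁻¹ = b⁻¹ * ⁅b, s⁆ := by simp only [commutatorElement_def]; group
  have a4 : t * b⁻¹ * t⁻¹ = b⁻¹ * ⁅b, t⁆ := by simp only [commutatorElement_def]; group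
  have a5 : s * (t * b⁻¹ * t⁻¹) * s⁻¹ = t * (s * b⁻¹ * s⁻¹) * t⁻¹ := by
    calc s * (t * b⁻¹ * t⁻¹) * s⁻¹ = ⁅s, t⁆ * (t * s * b⁻¹ * (t * s)⁻¹) * ⁅s, t⁆⁻¹ := by
          simp only [commutatorElement_def]; group
      _ = _ := by rw [← a1]; group
  have a6 : b⁻¹ * ⁅b, s⁆ * (s * ⁅b, t⁆ * s⁻¹) = b⁻¹ * ⁅b, s⁆ * ⁅b, t⁆ := by
    calc b⁻¹ * ⁅b, s⁆ * (s * ⁅b, t⁆ * s⁻¹) = s * (b⁻¹ * ⁅b, t⁆) * s⁻¹ := by rw [← a3]; group
      _ = t * b⁻¹ * (⁅b, s⁆ * t⁻¹) := by rw [← a4, a5, a3]; group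
      _ = t * b⁻¹ * t⁻¹ * ⁅b, s⁆ := by rw [← a2]; group
      _ = _ := by rw [a4, mul_assoc, a2, mul_assoc]
  exact (mul_inv_eq_iff_eq_mul.1 (mul_left_cancel a6)).symm

theorem Hyp.d8 (h : Hyp W) [W.Normal] : Nonempty (T ⧸ W ≃* DihedralGroup 4) := by
  obtain ⟨s, t, h1, h2, h3⟩ := h.st
  have h4 : (s : T ⧸ W) * t ≠ t * s := fun e =>
    h3 ((QuotientGroup.eq_one_iff _).1 (commutatorElement_eq_one_iff_mul_comm.2 e))
  refine (Cfsg.Agent.S3157.d8q8 h.main.2.2.1 h4).resolve_right fun ⟨e⟩ => h4 (e.injective ?_)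
  rw [map_mul, map_mul]
  refine q8 _ _ ?_ ?_ <;> rw [← map_mul, ← QuotientGroup.mk_mul, (QuotientGroup.eq_one_iff _).2 ‹_›, map_one]

theorem Hyp.key (h : Hyp W) {y : T} (hy : y ∈ Z[T, 4]) (hy' : y ∉ Z[T, 3]) : ∃ w ∈ W, ⁅y, w⁆ ∉ Z[T, 2] := by
  classical
  by_contra hcon
  push Not at hcon
  have hn := h.nW
  obtain ⟨m1, m2, m3, m4⟩ := h.main
  obtain ⟨c0, c1, c2, c3⟩ := h.cards
  have hyW : y ∈ W := (h.nrm le_rfl W hn).resolve_left (fun e => by have := card_le_of_le e; omega) hy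
  obtain ⟨e⟩ := h.d8
  have := Fintype.ofFinite (T ⧸ W)
  obtain ⟨l, hl⟩ := h.lam le_rfl hn m4 fun _ => h.sqW
  have hmk : ∀ u ∈ W, ∀ g : T, th l W u g = l (g * u * g⁻¹) := fun u hu => hl.th_mk hu fun _ => h.cm hu
  have hcj : ∀ u ∈ W, ∀ (g : T) (q : T ⧸ W), th l W (g * u * g⁻¹) q = th l W u (q * g) := fun u hu g q => by
    obtain ⟨x, rfl⟩ := QuotientGroup.mk_surjective q
    rw [← QuotientGroup.mk_mul, hmk _ (hn.conj_mem _ hu g), hmk _ hu]
    congr 1; group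
  obtain ⟨w0, hw0, hw⟩ := hl.surj (B := W) le_rfl h.comm_eq.le (by rw [c3, m3, m2]; rfl) (Pi.single 1 1)
  let w : T ⧸ W → T := fun q => q.out⁻¹ * w0 * q.out⁻¹⁻¹
  have hwW : ∀ q, w q ∈ W := fun q => hn.conj_mem _ hw0 _
  have hwq : ∀ q x, th l W (w q) x = if x = q then 1 else 0 := fun q x => by
    rw [hcj _ hw0, hw, Pi.single_apply]
    simp [mul_inv_eq_one]
  have hexp : ∀ F : T → ZMod 2, (∀ u ∈ W, ∀ v ∈ W, F (u * v) = F u + F v) → (∀ u ∈ Z[T, 3], F u = 0) →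
      ∀ u ∈ W, F u = ∑ q, th l W u q * F (w q) := fun F h1 h2 => by
    suffices ∀ S : Finset (T ⧸ W), ∀ u ∈ W, (∀ q ∉ S, th l W u q = 0) → F u = ∑ q ∈ S, th l W u q * F (w q) from
      fun u hu => this _ u hu (by simp)
    intro S
    induction S using Finset.induction_on with
    | empty => exact fun u hu h0 => h2 u ((hl.th_eq_zero hu fun _ => h.cm hu).1 (funext fun q => h0 q (by simp)))
    | insert d S hd ih =>
      intro u hu h0
      rw [Finset.sum_insert hd]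
      rcases (by decide : ∀ c : ZMod 2, c = 0 ∨ c = 1) (th l W u d) with h3 | h3
      · rw [h3, zero_mul, zero_add]
        exact ih u hu fun q hq => if e : q = d then e ▸ h3 else h0 q (by simp [e, hq])
      · have h4 := ih (u * w d) (W.mul_mem hu (hwW d)) fun q hq => by
          rw [hl.th_mul hu (hwW d), Pi.add_apply, hwq]
          split_ifs with e
          · rw [e, h3]; rfl
          · rw [h0 q (by simp [e, hq]), add_zero]
        rw [h1 _ hu _ (hwW d), Finset.sum_congr rfl (g := fun q => th l W u q * F (w q)) fun q hq => by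
          rw [hl.th_mul hu (hwW d), Pi.add_apply, hwq, if_neg (by rintro rfl; exact hd hq), add_zero]] at h4
        rw [h3, ← h4]
        linear_combination (-F (w d)) * (by decide : (2 : ZMod 2) = 0)
  let f : T → T → ZMod 2 := fun u v => ind Z[T, 2] ⁅u, v⁆
  have hd := (h.dbl (i := 2) (by omega)).le
  have fl : ∀ v ∈ W, ∀ u ∈ W, f u v = ∑ q, th l W u q * f (w q) v := fun v hv => hexp (f · v)
    (fun a ha b hb => by
      simp only [f]; rw [h.cml ha hb hv, ind_mul (zle 2) hd (h.cm ha hv) (h.cm hb hv)])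
    fun u hu => ind_eq_zero.2 (by rw [commutatorElement_eq_one_iff_mul_comm.2 (h.cen hu hv)]; exact one_mem _)
  have fs : ∀ u v, f u v = f v u := fun u v => by
    simp only [f, ind]; rw [← commutatorElement_inv, inv_mem_iff]
  have fc : ∀ g u v, f (g * u * g⁻¹) (g * v * g⁻¹) = f u v := fun g u v => by
    simp only [f, ind]
    rw [show ⁅g * u * g⁻¹, g * v * g⁻¹⁆ = g * ⁅u, v⁆ * g⁻¹ by simp only [commutatorElement_def]; group,
      Normal.mem_comm_iff inferInstance, inv_mul_cancel_left]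
  have fw : ∀ d q, f (w d) (w q) = f (w (d * q⁻¹)) w0 := fun d q => by
    rw [← fc q.out, show q.out * w q * q.out⁻¹ = w0 by simp only [w]; group, fl _ hw0 _ (hn.conj_mem _ (hwW d) _),
      fl _ hw0 _ (hwW _)]
    refine Finset.sum_congr rfl fun x _ => ?_
    rw [hcj _ (hwW d), hwq, hwq]
    simp [eq_mul_inv_iff_mul_eq]
  obtain ⟨b, hb, hb'⟩ := SetLike.not_le_iff_exists.1 (h.nle (i := 2) (by omega))
  have ft : ∀ q : T ⧸ W, q * q = 1 → ⁅b, q.out⁆ ∉ Z[T, 1] → f (w q) w0 = 0 := fun q hq hK => by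
    refine ind_eq_zero.2 (by_contra fun hc => hK ?_)
    have h1 : q.out * q.out ∈ W := (QuotientGroup.eq_one_iff _).1 (by simpa using hq)
    have h2 : ⁅w q, w0⁆ ∈ Z[T, 3] := h.cm (hwW q) hw0
    have h3 : q.out⁻¹ * ⁅w q, w0⁆ * q.out = ⁅w q, w0⁆ := by
      have a1 : q.out⁻¹ * ⁅w q, w0⁆ * q.out = ⁅⁅(q.out * q.out)⁻¹, w0⁆ * w0, w q⁆ := by
        simp only [commutatorElement_def, w]; group
      rw [a1, h.cml (m4 (h.cm (W.inv_mem h1) hw0)) hw0 (hwW q),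
        commutatorElement_eq_one_iff_mul_comm.2 (h.cen (h.cm (W.inv_mem h1) hw0) (hwW q)), one_mul,
        ← commutatorElement_inv, inv_eq_of_mul_eq_one_right (h.elem h2)]
    have h4 := h.gen (i := 2) (by omega) (L := (centralizer {(q.out : T ⧸ Z[T, 1])}).comap (QuotientGroup.mk' _))
      (fun c hc => mem_centralizer_singleton_iff.2
        (commutatorElement_eq_one_iff_mul_comm.1 ((QuotientGroup.eq_one_iff _).2 (zs hc q.out))))
      (mem_centralizer_singleton_iff.2 (congrArg (QuotientGroup.mk' _) (a₁ := ⁅w q, w0⁆ * q.out) (a₂ := q.out * ⁅w q, w0⁆)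
        (by rw [← mul_inv_cancel_left q.out (⁅w q, w0⁆ * q.out), ← mul_assoc q.out⁻¹, h3]))) h2 hc hb
    exact (QuotientGroup.eq_one_iff _).1 (commutatorElement_eq_one_iff_mul_comm.2 (mem_centralizer_singleton_iff.1 h4))
  have hK : ∀ i j : ZMod 4, ⁅b, (e.symm (sr i)).out⁆ ∈ Z[T, 1] → ⁅b, (e.symm (sr j)).out⁆ ∈ Z[T, 1] →
      sr i * sr j * (sr i * sr j) = 1 := fun i j hi hj => by
    have := (QuotientGroup.eq_one_iff _).2 (h.sqK hb hb' (mem_Cm.1 (mul_mem (mem_Cm.2 hi) (mem_Cm.2 hj))))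
    simpa using congrArg e this
  have ft' : ∀ i : ZMod 4, ⁅b, (e.symm (sr i)).out⁆ ∉ Z[T, 1] → f (w (e.symm (sr i))) w0 = 0 := fun i =>
    ft _ (by rw [← map_mul, sr_mul_self, map_one])
  have f1 : ∀ u ∈ W, f u (w 1) = f u w0 := fun u hu => by
    rw [fs, fs u, fl _ hu _ (hwW 1), fl _ hu _ hw0]
    refine Finset.sum_congr rfl fun x _ => ?_
    rw [hwq, hw, Pi.single_apply]
  obtain ⟨l1, l2, n1, n2, hc⟩ := comp (fun d => f (w (e.symm d)) w0)
    (by rw [map_one, ← f1 _ (hwW 1)]; exact ind_eq_zero.2 (by simp))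
    (fun x => by rw [← f1 _ (hwW (e.symm x)), fs (w (e.symm x)), fw, one_mul, map_inv])
    (by
      by_cases a1 : ⁅b, (e.symm (sr 1)).out⁆ ∈ Z[T, 1]
      · exact Or.inr ⟨ft' _ fun a => absurd (hK _ _ a1 a) (by decide), ft' _ fun a => absurd (hK _ _ a1 a) (by decide)⟩
      by_cases a3 : ⁅b, (e.symm (sr 3)).out⁆ ∈ Z[T, 1]
      · exact Or.inr ⟨ft' _ fun a => absurd (hK _ _ a3 a) (by decide), ft' _ fun a => absurd (hK _ _ a3 a) (by decide)⟩
      exact Or.inl ⟨ft' _ a1, ft' _ a3⟩)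
    (by
      have a1 : ∀ q, th l W y q = l y := fun q => by
        obtain ⟨g, rfl⟩ := QuotientGroup.mk_surjective q
        have a := inv_mem (zs hy g)
        rw [hmk _ hyW, show g * y * g⁻¹ = ⁅y, g⁆⁻¹ * y by simp only [commutatorElement_def]; group,
          hl.add _ (m4 a) _ hyW, hl.zero _ a, zero_add]
      have a2 : l y = 1 := ((by decide : ∀ c : ZMod 2, c = 0 ∨ c = 1) (l y)).resolve_left fun e =>
        hy' ((hl.th_eq_zero hyW fun _ => h.cm hyW).1 (funext fun q => (a1 q).trans e))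
      have a3 := fl _ hw0 _ hyW
      simp only [a1, a2, one_mul] at a3
      exact ((Equiv.sum_comp e.symm.toEquiv (fun q => f (w q) w0)).trans a3.symm).trans (ind_eq_zero.2 (hcon _ hw0)))
  have hlin : ∀ m : DihedralGroup 4 → ZMod 2, ∀ u ∈ W, ∀ v ∈ W, ∑ q, th l W (u * v) q * m (e q) =
      ∑ q, th l W u q * m (e q) + ∑ q, th l W v q * m (e q) := fun m u hu v hv => by
    simp only [hl.th_mul hu hv, Pi.add_apply, add_mul, Finset.sum_add_distrib]
  obtain ⟨A1, a1, a2, a3⟩ := ker_half W (fun u => ∑ q, th l W u q * l1 (e q)) (hlin l1)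
  obtain ⟨A2, b1, b2, b3⟩ := ker_half A1 (fun u => ∑ q, th l W u q * l2 (e q)) fun u hu v hv => hlin l2 u (a1 hu) v (a1 hv)
  have h0 : ∀ m : DihedralGroup 4 → ZMod 2, ∀ u ∈ Z[T, 3], ∑ q, th l W u q * m (e q) = 0 := fun m u hu => by
    simp [(hl.th_eq_zero (m4 hu) fun _ => h.cm (m4 hu)).2 hu]
  have h3 : Z[T, 3] ≤ A1 := fun u hu => (a3 u (m4 hu)).2 (h0 _ u hu)
  refine h.fin (b1.trans a1) (by omega) (fun u hu => (b3 u (h3 hu)).2 (h0 _ u hu)) fun u hu v hv => ind_eq_zero.1 ?_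
  have hu1 := (a3 u (a1 (b1 hu))).1 (b1 hu)
  have hv1 := (a3 v (a1 (b1 hv))).1 (b1 hv)
  have hu2 := (b3 u (b1 hu)).1 hu
  have hv2 := (b3 v (b1 hv)).1 hv
  have h5 : ∀ d, f (w d) v = l1 (e d) * ∑ q, th l W v q * n1 (e q) + l2 (e d) * ∑ q, th l W v q * n2 (e q) := fun d => by
    rw [fs, fl _ (hwW d) _ (a1 (b1 hv)), Finset.sum_congr rfl (g := fun q => l1 (e d) * (th l W v q * n1 (e q)) +
      n1 (e d) * (th l W v q * l1 (e q)) + (l2 (e d) * (th l W v q * n2 (e q)) + n2 (e d) * (th l W v q * l2 (e q))))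
      fun q _ => by
        have := hc (e d) (e q)
        simp only [← map_inv, ← map_mul, MulEquiv.symm_apply_apply] at this
        rw [fs, fw, this]; ring]
    simp only [Finset.sum_add_distrib, ← Finset.mul_sum, hv1, hv2, mul_zero, add_zero]
  change f u v = 0
  rw [fl _ (a1 (b1 hv)) _ (a1 (b1 hu))]
  simp only [h5, mul_add, ← mul_assoc, Finset.sum_add_distrib, ← Finset.sum_mul, hu1, hu2, zero_mul, add_zero]

theorem Hyp.center_eq (h : Hyp W) : (center W).map W.subtype = Z[T, 3] := by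
  have := h.nW
  refine le_antisymm ((h.nrm le_rfl _ inferInstance).resolve_right fun e => ?_) fun y hy =>
    ⟨⟨y, h.main.2.2.2 hy⟩, mem_center_iff.2 fun g => Subtype.ext (h.cen hy g.2).symm, rfl⟩
  obtain ⟨y, hy, hy'⟩ := SetLike.not_le_iff_exists.1 (h.nle le_rfl)
  obtain ⟨w, hw, h1⟩ := h.key hy hy'
  obtain ⟨y, h2, rfl⟩ := e hy
  refine h1 ?_
  exact (commutatorElement_eq_one_iff_mul_comm.2 (congrArg Subtype.val (mem_center_iff.1 h2 ⟨w, hw⟩)).symm).symm ▸ one_mem _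

omit [Finite T] in
theorem step (h : IsPGroup 2 T) {α : MulAut T} {n : ℕ} (hn : Odd n) (hα : α ^ n = 1) (N : Subgroup T) [N.Normal]
    (hN : ∀ x ∈ N, α x ∈ N) (w : T) (hd : (w⁻¹ * α w)⁻¹ * α (w⁻¹ * α w) ∈ N) : w⁻¹ * α w ∈ N := by
  set d := w⁻¹ * α w with hdd
  have hf : ∀ x y : T, (x : T ⧸ N) = y → (α x : T ⧸ N) = α y := fun x y e =>
    QuotientGroup.eq.2 (by simpa using hN _ (QuotientGroup.eq.1 e))
  have h1 : ∀ k : ℕ, ((α (d ^ k) : T) : T ⧸ N) = (d ^ k : T) := fun k => by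
    rw [map_pow, QuotientGroup.mk_pow, QuotientGroup.mk_pow, ← QuotientGroup.eq.2 hd]
  have h2 : ∀ k : ℕ, (((α ^ k) w : T) : T ⧸ N) = (w * d ^ k : T) := fun k => by
    induction k with
    | zero => simp
    | succ k ih =>
      rw [pow_succ', MulAut.mul_apply, hf _ _ ih, map_mul, QuotientGroup.mk_mul, h1, ← QuotientGroup.mk_mul,
        pow_succ' d, ← mul_assoc, hdd, mul_inv_cancel_left]
  have h3 := h2 n
  rw [hα, MulAut.one_apply, QuotientGroup.mk_mul, left_eq_mul, QuotientGroup.mk_pow] at h3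
  obtain ⟨k, hk⟩ := (h.to_quotient N) (d : T ⧸ N)
  rw [← QuotientGroup.eq_one_iff, ← orderOf_eq_one_iff]
  exact Nat.eq_one_of_dvd_coprimes (Nat.Coprime.pow_right k (Nat.coprime_two_right.2 hn))
    (orderOf_dvd_of_pow_eq_one h3) (orderOf_dvd_of_pow_eq_one hk)

theorem Hyp.aut (h : Hyp W) {α : MulAut T} {n : ℕ} (hn : Odd n) (hα : α ^ n = 1) : α = 1 := by
  have := h.nW
  have hz : ∀ i, ∀ x ∈ Z[T, i], α x ∈ Z[T, i] := fun i x hx =>
    characteristic_iff_le_comap.1 (inferInstance : Z[T, i].Characteristic) α hx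
  have hz' : ∀ i, ∀ x, α x ∈ Z[T, i] → x ∈ Z[T, i] := fun i x hx =>
    characteristic_iff_comap_le.1 (inferInstance : Z[T, i].Characteristic) α hx
  have h1 : ∀ i ≤ 3, ∀ x ∈ Z[T, i + 1], x⁻¹ * α x ∈ Z[T, i] := fun i hi x hx => by
    by_cases e : x ∈ Z[T, i]
    · exact mul_mem (inv_mem e) (hz _ _ e)
    · exact h.mul hi (inv_mem hx) (hz _ _ hx) (by simpa using e) fun e2 => e (hz' _ _ e2)
  have h2 : ∀ x, α (x⁻¹ * α x) = x⁻¹ * α x → α x = x := fun x e =>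
    (inv_mul_eq_one.1 (mem_bot.1 (step h.p2 hn hα ⊥ (by simp) x (by rw [e]; simp)))).symm
  have h3 : ∀ i ≤ 3, ∀ x ∈ Z[T, i], α x = x := fun i hi => by
    induction i with
    | zero => intro x hx; rw [mem_bot.1 hx, map_one]
    | succ i ih => exact fun x hx => h2 x (ih (by omega) _ (h1 i (by omega) x hx))
  have h4 : ∀ g, g⁻¹ * α g ∈ W := fun g => by
    rw [h.w]
    intro y hy
    have := h3 3 le_rfl _ (Normal.conj_mem inferInstance y hy g)
    rw [map_mul, map_mul, map_inv, h3 3 le_rfl y hy] at this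
    calc y * (g⁻¹ * α g) = g⁻¹ * (g * y * g⁻¹) * α g := by group
      _ = _ := by rw [← this]; group
  have h5 : ∀ i, ∀ w ∈ W, w ∈ Z[T, i] → w⁻¹ * α w ∈ Z[T, 3] := fun i => by
    induction i with
    | zero => intro x _ hx; rw [mem_bot.1 hx]; simp
    | succ i ih =>
      refine fun w hw hi => step h.p2 hn hα _ (hz 3) w (h1 3 le_rfl _ ?_)
      refine Subgroup.mem_upperCentralSeries_succ_iff.2 fun g => (QuotientGroup.eq_one_iff _).1 ?_
      have a1 := QuotientGroup.eq.2 (ih ⁅w, g⁆ (by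
        simpa [commutatorElement_def, mul_assoc] using W.mul_mem hw (this.conj_mem _ (W.inv_mem hw) g)) (zs hi g))
      have hw' : α w ∈ W := by simpa using W.mul_mem hw (h4 w)
      have a2 := commutatorElement_eq_one_iff_mul_comm.1
        (show ⁅((g⁻¹ * α g : T) : T ⧸ Z[T, 3]), (((α w)⁻¹ : T) : T ⧸ Z[T, 3])⁆ = 1 from (QuotientGroup.eq_one_iff _).2 (h.cm (h4 g) (W.inv_mem hw')))
      simp only [commutatorElement_def, map_mul, map_inv, QuotientGroup.mk_mul, QuotientGroup.mk_inv] at a1 a2 ⊢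
      generalize (w : T ⧸ Z[T, 3]) = x, (g : T ⧸ Z[T, 3]) = y, (α w : T ⧸ Z[T, 3]) = x', (α g : T ⧸ Z[T, 3]) = y' at *
      calc x⁻¹ * x' * y * (x⁻¹ * x')⁻¹ * y⁻¹ = x⁻¹ * x' * y * (x'⁻¹ * (y⁻¹ * y')) * y'⁻¹ * y * x * y⁻¹ := by group
        _ = x⁻¹ * (x' * y' * x'⁻¹ * y'⁻¹) * y * x * y⁻¹ := by rw [← a2]; group
        _ = 1 := by rw [← a1]; group
  obtain ⟨i, hi⟩ := h.p2.isNilpotent.nilpotent'
  ext g
  exact h2 g (h2 _ (h3 3 le_rfl _ (h5 i _ (h4 g) (hi.ge (mem_top _)))))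

theorem Hyp.wc (h : Hyp W) {W' : Subgroup T} (e : W ≃* W') : W' = W := by
  have hn := h.nW
  obtain ⟨m1, m2, m3, m4⟩ := h.main
  obtain ⟨c0, c1, c2, c3⟩ := h.cards
  have m2' : Nat.card W' = 2 ^ 11 := (Nat.card_congr e.toEquiv).symm.trans m2
  set Z' := (Z[T, 3].subgroupOf W).map (W'.subtype.comp e.toMonoidHom) with hZ'
  have d1 : Nat.card Z' = 8 := by
    rw [card_map_of_injective (f := W'.subtype.comp e.toMonoidHom) (W'.subtype_injective.comp e.injective),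
      Nat.card_congr (subgroupOfEquivOfLe m4).toEquiv, c3]
  have d2 : ∀ z ∈ Z', ∀ x ∈ W', z * x = x * z := by
    rintro _ ⟨z, hz, rfl⟩ x hx
    obtain ⟨x, hx⟩ := e.surjective ⟨x, hx⟩
    have := congrArg (fun a => (e a : T)) (Subtype.ext (h.cen hz x.2) : z * x = x * z)
    simpa [hx] using this
  have d3 : ∀ x ∈ W', x * x ∈ Z' := fun x hx => by
    obtain ⟨x, hx⟩ := e.surjective ⟨x, hx⟩
    exact ⟨x * x, h.sqW x.2, by simp [hx]⟩
  have d4 : ∀ U : Subgroup T, U.relIndex W' ≤ 16 → Z' ≤ U := fun U hU => by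
    have := h.d ((U.subgroupOf W').comap e.toMonoidHom) (by rwa [index_comap_of_surjective _ e.surjective])
    rintro _ ⟨z, hz, rfl⟩
    obtain ⟨z', h1, h2⟩ := h.phi_eq.ge hz
    exact this (Subtype.ext h2 ▸ h1)
  have j1 := card_rel (inf_le_right : W ⊓ W' ≤ W')
  have j2 := card_rel (inf_le_left : W ⊓ W' ≤ W)
  rw [inf_relIndex_right] at j1
  rw [inf_relIndex_left] at j2
  have j3 := H2.card_sup_mul_card_inf (N := W) (H := W') le_normalizer_of_normal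
  have j4 := (W ⊔ W').card_mul_index
  have hpos : 0 < Nat.card (W ⊓ W' : Subgroup T) := Nat.card_pos
  have j5 : W'.relIndex W = W.relIndex W' := Nat.eq_of_mul_eq_mul_left hpos (by omega)
  have j6 : Nat.card (W ⊔ W' : Subgroup T) = 2 ^ 11 * W.relIndex W' :=
    Nat.eq_of_mul_eq_mul_right hpos (by rw [j3, m2, ← j1]; ring)
  have j7 : W.relIndex W' * (W ⊔ W').index = 8 := by
    rw [j6, m1, mul_assoc] at j4; omega
  have j8 : W.relIndex W' ≤ 8 := Nat.le_of_dvd (by omega) (Dvd.intro _ j7)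
  have k1 : Z' ≤ W := d4 W (by omega)
  have k2 : Z[T, 3] ≤ W' := h.small (by omega)
  have k3 : ∀ x ∈ W', ∀ y ∈ W', ⁅x, y⁆ ∈ Z' := fun x hx y hy => sq_comm d3 hx hy
  by_contra hne
  obtain ⟨x, hx, hx'⟩ := SetLike.not_le_iff_exists.1 (show ¬ W' ≤ W from fun e => hne (eq_of_le_of_card_ge e (by omega)))
  obtain ⟨l, hl⟩ := h.lam le_rfl hn m4 fun _ => h.sqW
  have k4 : (W ⊔ W').index ≠ 1 := fun e => by
    obtain ⟨s, t, -, -, h3⟩ := h.st
    have : ⁅W ⊔ W', W ⊔ W'⁆ ≤ W := comm_sup_l (commutator_le_left _ _)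
      (comm_sup_r (commutator_le_right _ _) (commutator_le.2 fun a ha b hb => k1 (k3 a ha b hb)))
    rw [index_eq_one.1 e] at this
    exact h3 (this (commutator_mem_commutator trivial trivial))
  have k5 := cenN (H := W ⊓ W') (L := Z[T, 3] ⊔ Z') (le_inf m4 k2) le_sup_left x
    fun g hg => mem_sup_right (k3 _ hx _ hg.2)
  have k6 := hl.card_le (Y := W ⊓ W' ⊓ Cm x Z[T, 3]) (B := W ⊔ zpowers x) (inf_le_left.trans inf_le_left)
    (comm_sup_r (commutator_le.2 fun a ha b hb => h.cm ha.1.1 hb) (by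
      rw [commutator_comm, comm_le_iff, zpowers_le]
      rintro _ ⟨g, hg, rfl⟩
      exact mem_centralizer_singleton_iff.1 hg.2))
  have k7 : (W ⊔ zpowers x).index ≤ 4 := by
    have a1 := two_mul_le (lt_of_le_of_ne le_sup_left fun e => hx' (e.ge (mem_sup_right (mem_zpowers x))) :
      W < W ⊔ zpowers x)
    have a2 := (W ⊔ zpowers x).card_mul_index
    exact Nat.le_of_mul_le_mul_left (by nlinarith) (Nat.card_pos (α := (W ⊔ zpowers x : Subgroup T)))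
  have k8 := Nat.pow_le_pow_right two_pos k7
  have k9 := H2.card_sup_mul_card_inf (N := Z[T, 3]) (H := Z') le_normalizer_of_normal
  have k10 : 2 ≤ Nat.card (Z[T, 3] ⊓ Z' : Subgroup T) := (one_lt_card_iff_ne_bot _).2 fun e => hx' (by
    rw [h.w]
    intro y hy
    exact commutatorElement_eq_one_iff_mul_comm.1 (mem_bot.1 (e ▸ ⟨zle 2 (zs hy x), k3 _ (k2 hy) _ hx⟩)))
  rw [c3, d1] at k9
  rw [c3] at k5 k6
  have k11 : Nat.card (Z[T, 3] ⊔ Z' : Subgroup T) ≤ 32 := by nlinarith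
  have k12 : Nat.card (W ⊓ W' : Subgroup T) ≤ 16 * Nat.card (Z[T, 3] ⊔ Z' : Subgroup T) := by nlinarith
  have k13 : W.relIndex W' = 4 ∧ (W ⊔ W').index = 2 := by
    generalize W.relIndex W' = j at *
    interval_cases j <;> omega
  rw [k13.1] at j1 j5
  have k14 := hl.card_le (Y := Z[T, 4] ⊔ Z') (B := W ⊔ W')
    (sup_le ((h.nrm le_rfl W hn).resolve_left fun e => by have := card_le_of_le e; omega) k1)
    (comm_sup_l (commutator_le.2 fun a ha b _ => zs ha b)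
      (comm_sup_r (commutator_le.2 fun a ha b hb => h.cm (k1 ha) hb) (commutator_le.2 fun a ha b hb => by
        rw [commutatorElement_eq_one_iff_mul_comm.2 (d2 a ha b hb)]; exact one_mem _)))
  rw [k13.2, c3] at k14
  have k15 : Z[T, 4] ≤ centralizer (W ⊓ W' : Subgroup T) := le_sup_left.trans
    ((eq_of_le_of_card_ge (sup_le_sup_right (zle 3) Z') (k14.trans (by omega))).ge.trans
      (sup_le (fun a ha b hb => (h.cen ha hb.1).symm) fun a ha b hb => (d2 a ha b hb.2).symm))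
  obtain ⟨y, hy, hy'⟩ := SetLike.not_le_iff_exists.1 (h.nle le_rfl)
  have hyW : y ∈ W := (h.nrm le_rfl W hn).resolve_left (fun e => by have := card_le_of_le e; omega) hy
  obtain ⟨w, hw, hw'⟩ := h.key hy hy'
  let κ : W →* T := MonoidHom.mk' (fun w => ⁅y, (w : T)⁆) fun a b => h.cmr hyW a.2 b.2
  have n1 : κ.range.Normal := ⟨by
    rintro _ ⟨u, rfl⟩ g
    refine ⟨⟨_, hn.conj_mem _ u.2 g⟩, ?_⟩
    have a := inv_mem (zs hy g)
    have a2 := hn.conj_mem _ u.2 g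
    change ⁅y, g * u * g⁻¹⁆ = g * ⁅y, (u : T)⁆ * g⁻¹
    rw [show g * ⁅y, (u : T)⁆ * g⁻¹ = ⁅⁅y, g⁆⁻¹ * y, g * u * g⁻¹⁆ by simp only [commutatorElement_def]; group,
      h.cml (m4 a) hyW a2, commutatorElement_eq_one_iff_mul_comm.2 (h.cen a a2), one_mul]⟩
  have n2 := card_le_of_le ((h.nrm (i := 2) (by omega) _ n1).resolve_left fun e => hw' (e ⟨⟨w, hw⟩, rfl⟩))
  have n3 : κ.ker.index ≤ W'.relIndex W := index_antitone fun u hu =>
    commutatorElement_eq_one_iff_mul_comm.2 (k15 hy u ⟨u.2, hu⟩).symm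
  rw [index_ker] at n3
  simp only [Nat.reduceAdd] at n2
  omega

end H27.Ru
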