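import Cfsg.Agent.H18.BK13

/-! Pushing up against odd order automorphisms, part 1: the non-commuting graph on the images of `Ω₁Z(O₂(G))`
(`H27.St.Gd`, `H27.St.Gd.path`, `H27.St.le_of_odd`). -/

set_option autoImplicit false
set_option linter.unusedSectionVars false
namespace H27.St
open Subgroup H26 Cfsg
open scoped commutatorElement

variable {S : Type*} [Group S] {U W X Y : Subgroup S}

/-- the offender inequality for `X` on `W` -/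
def Rv (W X : Subgroup S) : Prop := Nat.card ↥(X ⊓ 𝐂 W) * Nat.card W ≤ Nat.card X * Nat.card ↥(W ⊓ 𝐂 X)

/-- the properties of `Ω₁Z(O₂(G))` inside a Sylow 2-subgroup -/
structure Gd (W : Subgroup S) : Prop where
  n : W.Normal
  ea : IsElementaryAbelian 2 W
  g1 : ∀ X, IsElementaryAbelian 2 X → Rv X W
  g2 : ∀ X Y, IsElementaryAbelian 2 X → IsElementaryAbelian 2 Y → Y.Normal → ¬ Y ≤ 𝐂 W → Rv W X → Rv W Y →
    ∀ x ∈ X, ∃ y ∈ Y, x * y ∈ 𝐂 W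
  g3 : ∀ X, IsElementaryAbelian 2 X → X.Normal → ¬ X ≤ 𝐂 W → Rv W X → ∃ j ∈ X, ∃ Z : Subgroup S,
    (∀ u ∈ 𝐂 W, u * u ∈ Z) ∧ ∀ v ∈ W, ⁅v, j⁆ ∈ Z → v ∈ 𝐂 X

theorem cm_sym {Z : Subgroup S} {a b : S} (h : ⁅a, b⁆ ∈ Z) : ⁅b, a⁆ ∈ Z := by
  rw [← commutatorElement_inv]; exact inv_mem h

theorem cm_sq {C Z : Subgroup S} (h : ∀ u ∈ C, u * u ∈ Z) {a b : S} (ha : a ∈ C) (hb : b ∈ C) : ⁅a, b⁆ ∈ Z := by
  have e : ⁅a, b⁆ = a * a * (a⁻¹ * b * (a⁻¹ * b)) * (b * b)⁻¹ := by rw [commutatorElement_def]; group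
  rw [e]
  exact mul_mem (mul_mem (h a ha) (h _ (mul_mem (inv_mem ha) hb))) (inv_mem (h b hb))

namespace Gd
variable (hW : Gd W)
include hW

theorem sq {w : S} (hw : w ∈ W) : w * w = 1 := (pow_two w).symm.trans (hW.ea.2 w hw)
theorem inv {w : S} (hw : w ∈ W) : w⁻¹ = w := inv_eq_of_mul_eq_one_left (hW.sq hw)
theorem self : W ≤ 𝐂 W := elemAb_le_centralizer hW.ea

/-- `[w, x] = [w, y]` when `x y` centralizes `W` and `y` is an involution -/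
theorem cm_eq {w x y : S} (hw : w ∈ W) (h : x * y ∈ 𝐂 W) (hy : y⁻¹ = y) : ⁅w, x⁆ = ⁅w, y⁆ := by
  have e := h _ (hW.n.conj_mem _ (inv_mem hw) y)
  have e1 : x = x * y * y := by rw [mul_assoc, ← hy, hy, show y * y = 1 from by nth_rw 1 [← hy]; exact inv_mul_cancel y, mul_one]
  generalize x * y = c at e e1
  rw [commutatorElement_def, commutatorElement_def, e1]
  calc w * (c * y) * w⁻¹ * (c * y)⁻¹ = w * (c * (y * w⁻¹ * y⁻¹)) * c⁻¹ := by group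
    _ = w * y * w⁻¹ * y⁻¹ := by rw [← e]; group

variable (hX : Gd X)
include hX

theorem l2 (hY : Gd Y) (a : ¬ Y ≤ 𝐂 W) {x : S} (hx : x ∈ X) : ∃ y ∈ Y, x * y ∈ 𝐂 W :=
  hW.g2 X Y hX.ea hY.ea hY.n a (hX.g1 W hW.ea) (hY.g1 W hW.ea) x hx

theorem l3 (a : ¬ X ≤ 𝐂 W) : ∃ j ∈ X, ∃ Z : Subgroup S, (∀ u ∈ 𝐂 W, u * u ∈ Z) ∧ ∀ v ∈ W, ⁅v, j⁆ ∈ Z → v ∈ 𝐂 X :=
  hW.g3 X hX.ea hX.n a (hX.g1 W hW.ea)

theorem cc (hY : Gd Y) (a : ¬ X ≤ 𝐂 W) {v : S} (hv : v ∈ W) (h : v ∈ 𝐂 X) : v ∈ 𝐂 Y := fun y hy => by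
  obtain ⟨x, hx, e⟩ := hW.l2 hY hX a hy
  have e1 := e v hv
  have e2 := h x hx
  calc y * v = y * (v * x) * x⁻¹ := by group
    _ = v * y := by rw [← e2, ← mul_assoc, ← e1]; group

theorem tri (hY : Gd Y) (a : ¬ X ≤ 𝐂 W) (b : ¬ Y ≤ 𝐂 W) (c : ¬ X ≤ 𝐂 Y) : False := by
  have a' := mt le_centralizer_iff.1 a
  have b' := mt le_centralizer_iff.1 b
  obtain ⟨w, hw, Z, z1, z2⟩ := hY.l3 hW b'
  obtain ⟨x, hx, e1⟩ := hY.l2 hW hX c hw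
  obtain ⟨y, hy, e2⟩ := hW.l2 hX hY b hx
  have k : ⁅w, x⁆ ∈ Z := by
    have := z1 _ e1
    rwa [commutatorElement_def, hW.inv hw, hX.inv hx, mul_assoc _ w x]
  rw [hW.cm_eq hw e2 (hY.inv hy)] at k
  have y1 := z2 y hy (cm_sym k)
  have x1 : x ∈ 𝐂 W := (mul_mem_cancel_right y1).1 e2
  have x2 := hX.cc hW hY a' hx x1
  have w1 : w ∈ 𝐂 Y := (mul_mem_cancel_right x2).1 e1
  exact b fun v hv => z2 v hv (by rw [commutatorElement_eq_one_iff_mul_comm.2 (w1 v hv)]; exact one_mem _)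

theorem path (hY : Gd Y) (hU : Gd U) (a : ¬ X ≤ 𝐂 W) (b : ¬ Y ≤ 𝐂 W) (c : ¬ U ≤ 𝐂 X) : ¬ U ≤ 𝐂 Y := fun d => by
  have a' := mt le_centralizer_iff.1 a
  have f : U ≤ 𝐂 W := by_contra fun f => hW.tri hU hX f a c
  obtain ⟨x, hx, Z, z1, z2⟩ := hW.l3 hX a
  obtain ⟨y, hy, e1⟩ := hW.l2 hX hY b hx
  obtain ⟨v, hv, v1⟩ := SetLike.not_le_iff_exists.1 c
  obtain ⟨w, hw, e2⟩ := hX.l2 hU hW a' hv
  have k := cm_sq z1 e1 (f hv)
  have e3 : ⁅x * y, v⁆ = ⁅x, v⁆ := by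
    rw [commutatorElement_def, commutatorElement_def, mul_assoc x, d hv y hy]; group
  rw [e3, hX.cm_eq hx e2 (hW.inv hw)] at k
  exact v1 ((mul_mem_cancel_right (z2 w hw (cm_sym k))).1 e2)

end Gd

theorem le_of_odd {a : MulAut S} (h : ∀ n : ℕ, Gd (W.comap (a ^ n).toMonoidHom)) (ho : Odd (orderOf a)) :
    W.comap a.toMonoidHom ≤ 𝐂 W := by_contra fun c => by
  obtain ⟨t, ht, t1⟩ := SetLike.not_le_iff_exists.1 c
  obtain ⟨s, hs, s1⟩ : ∃ s ∈ W, s * t ≠ t * s := by_contra fun k => t1 fun s hs => by_contra fun e => k ⟨s, hs, e⟩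
  have adj : ∀ n : ℕ, ¬ W.comap (a ^ (n + 1)).toMonoidHom ≤ 𝐂 (W.comap (a ^ n).toMonoidHom) := fun n k => s1 (by
    have := k (x := (a ^ n).symm t) (by
      show (a ^ (n + 1)) ((a ^ n).symm t) ∈ W
      rw [pow_succ', MulAut.mul_apply, MulEquiv.apply_symm_apply]; exact ht) ((a ^ n).symm s) (by
      show (a ^ n) ((a ^ n).symm s) ∈ W
      rwa [MulEquiv.apply_symm_apply])
    rw [← map_mul, ← map_mul] at this
    exact (a ^ n).symm.injective this)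
  have key : ∀ k : ℕ, ¬ W.comap (a ^ 0).toMonoidHom ≤ 𝐂 (W.comap (a ^ (2 * k + 1)).toMonoidHom) := fun k => by
    induction k with
    | zero => exact mt le_centralizer_iff.1 (adj 0)
    | succ k ih => exact (h (2 * k + 1 + 1)).path (h _) (h _) (h _) (mt le_centralizer_iff.1 (adj _)) (adj _) ih
  obtain ⟨k, hk⟩ := ho
  have := key k
  rw [← hk, pow_orderOf_eq_one, pow_zero] at this
  have h0 := (h 0).self
  rw [pow_zero] at h0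
  exact this h0

end H27.St
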