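import Cfsg.Agent.H27.St1

/-! Pushing up against odd order automorphisms, part 2: normal offenders of the Sylow subgroup of a minimal parabolic
(`H27.St.jj_le`, `H27.St.exists_j`) and the resulting facts `H27.St.gd` for `Ω₁Z(O₂(G))`. -/

set_option autoImplicit false
set_option linter.unusedSectionVars false
namespace H27.St
open Subgroup H26 H4 H118 H18.PU Cfsg
open scoped commutatorElement

section
variable {G : Type*} [Group G] [Finite G] {p q : ℕ} [hp : Fact p.Prime] {V P A T M X : Subgroup G} {𝒟 : Set (Subgroup G)}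

theorem jj_le (h : PM p V P T M) (k : Geo p V P 𝒟 q {γ | ∃ g ∈ P, cj g M = γ}) (h1 : T ≤ 𝐍 X) (h2 : X ≤ T)
    (hA : A ∈ 𝒟) (h3 : A ≤ X) : JJ 𝒟 T ≤ X := by
  refine JJ_le_iff.2 fun C hC c1 => by_contra fun n => k.ne_bot hC (h.eq_bot_of_cent
    (D := sSup {B | B ∈ 𝒟 ∧ ¬ B ≤ M ∧ ∃ A ∈ 𝒟, A ≤ X ∧ ¬ A ≤ 𝐂 B}) (sSup_le fun B hB => k.le B hB.1)
    (n_sSup fun g hg B hB => ?_) (fun e => ?_) (k.isP hC) (k.le C hC) (le_centralizer_iff.1 (sSup_le fun B hB => ?_)))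
  · obtain ⟨b1, b2, A, a1, a2, a3⟩ := hB
    refine ⟨k.conj B b1 g (h.syl.le hg), fun e => b2 ?_, cj g A, k.conj A a1 g (h.syl.le hg),
      cj_le_of_mem_normalizer a2 (h1 hg), fun e => a3 ?_⟩
    · rwa [← cj_eq_of_mem (h.um.le hg), cj_le_cj_iff] at e
    · rwa [← cj_centralizer, cj_le_cj_iff] at e
  · obtain ⟨B, b1, b2, b3⟩ := h.exists_not_comm k hA
    exact b2 ((le_sSup (show B ∈ {B | B ∈ 𝒟 ∧ ¬ B ≤ M ∧ ∃ A ∈ 𝒟, A ≤ X ∧ ¬ A ≤ 𝐂 B} from ⟨b1, b2, A, hA, h3, b3⟩)).trans e)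
  · obtain ⟨b1, b2, A, a1, a2, a3⟩ := hB
    exact le_centralizer_iff.1 (k.oth PM.mem_pts (h.syl.mono h.um.le h.um.lt.le) a1 (a2.trans h2) b1 b2 a3 hC c1
      fun e => n (e ▸ a2))

omit hp in
theorem exists_diag (s : Set (Subgroup G)) (h1 : ∀ A ∈ s, ∃ a ∈ A, a ≠ 1) (h2 : ∀ A ∈ s, ∀ B ∈ s, A ≤ 𝐂 B) :
    ∃ j ∈ sSup s, ∀ A ∈ s, ∃ a ∈ A, a ≠ 1 ∧ a⁻¹ * j ∈ sSup (s \ {A}) := by
  induction s, Set.toFinite s using Set.Finite.induction_on with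
  | empty => exact ⟨1, one_mem _, fun _ h => h.elim⟩
  | @insert F s hF _ ih =>
    obtain ⟨j, j1, j2⟩ := ih (fun A hA => h1 A (.inr hA)) fun A hA B hB => h2 A (.inr hA) B (.inr hB)
    obtain ⟨f, f1, f2⟩ := h1 F (.inl rfl)
    refine ⟨f * j, mul_mem (le_sSup (Set.mem_insert F s) f1) (sSup_le_sSup (Set.subset_insert F s) j1), fun A hA => ?_⟩
    rcases hA with rfl | hA
    · refine ⟨f, f1, f2, ?_⟩
      rw [inv_mul_cancel_left]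
      exact sSup_le_sSup (show s ⊆ insert A s \ {A} from fun B hB => ⟨.inr hB, fun e => hF (e ▸ hB)⟩) j1
    · obtain ⟨a, a1, a2, a3⟩ := j2 A hA
      refine ⟨a, a1, a2, ?_⟩
      rw [← mul_assoc, h2 F (.inl rfl) A (.inr hA) f1 _ (inv_mem a1), mul_assoc]
      exact mul_mem (le_sSup (show F ∈ insert F s \ {A} from ⟨.inl rfl, fun e => hF (e ▸ hA)⟩) f1)
        (sSup_le_sSup (Set.sdiff_subset_sdiff_left (Set.subset_insert F s)) a3)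

theorem exists_j (h : PM p V P T M) (k : Geo p V P 𝒟 q {γ | ∃ g ∈ P, cj g M = γ}) :
    ∃ j ∈ JJ 𝒟 T, ∀ v ∈ V, ⁅v, j⁆ ∈ 𝐂 (pResidualOf p P) → v ∈ 𝐂 (JJ 𝒟 T) := by
  obtain ⟨j, j1, j2⟩ := exists_diag {A | A ∈ 𝒟 ∧ A ≤ T} (fun A hA => k.exists_ne hA.1)
    fun A hA B hB => k.comm_of_isP h.syl.isP hA.1 hB.1 hA.2 hB.2
  refine ⟨j, j1, fun v hv c => le_centralizer_iff.1 (JJ_le_iff.2 fun A hA a0 => le_centralizer_iff.1
    (zpowers_le.2 ?_)) (mem_zpowers v)⟩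
  obtain ⟨a, a1, a2, a3⟩ := j2 A ⟨hA, a0⟩
  obtain ⟨B, b1, b2, b3⟩ := h.exists_not_comm k hA
  have g := k.good PM.mem_pts hA (a0.trans h.um.le) b1 b2 b3
  have qd := k.quad_JJ h.syl.isP
  have n1 : ⁅V, sSup ({A | A ∈ 𝒟 ∧ A ≤ T} \ {A})⁆ ≤ V ⊓ 𝐂 B := (le_commStab_iff' inf_le_left).1 (sSup_le fun C hC =>
    (le_commStab_iff' inf_le_left).2 (le_inf (k.comm_le (k.le C hC.1.1)) (k.comm_le_of_comm hC.1.1 b1
      (k.oth PM.mem_pts (h.syl.mono h.um.le h.um.lt.le) hA a0 b1 b2 b3 hC.1.1 hC.1.2 hC.2))))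
  have m1 : ⁅v, a⁻¹ * j⁆ ∈ 𝐂 B := (n1 (commutator_mem_commutator hv a3)).2
  have l0 : sSup ({A | A ∈ 𝒟 ∧ A ≤ T} \ {A}) ≤ JJ 𝒟 T := sSup_le_sSup Set.sdiff_subset
  have m2 := (qd (commutator_mem_commutator hv (l0 a3))).2 a (le_JJ hA a0 a1)
  have m3 := (qd (commutator_mem_commutator hv j1)).2
  have m4 : A ⊔ B ≤ centralizer {⁅v, j⁆} := (g.std k.toFam hA le_sup_left).1.le_of_pResidualOf_le
    (fun r hr => mem_centralizer_singleton_iff.2 (c r (pResidualOf_mono (sup_le (k.le A hA) (k.le B b1)) hr)))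
    fun r hr => mem_centralizer_singleton_iff.2 (m3 r (le_JJ hA a0 hr))
  have m5 : ⁅v, j⁆ ∈ 𝐂 B := fun r hr => mem_centralizer_singleton_iff.1 (m4 (mem_sup_right hr))
  have e : ⁅v, j⁆ = ⁅v, a⁆ * ⁅v, a⁻¹ * j⁆ := by
    calc ⁅v, j⁆ = ⁅v, a⁆ * (a * ⁅v, a⁻¹ * j⁆) * a⁻¹ := by simp only [commutatorElement_def]; group
      _ = _ := by rw [m2]; group
  rw [e, mul_mem_cancel_right m1] at m5
  exact g.inj k.toFam hA le_sup_left b1 le_sup_right (fun e => b2 (e ▸ a0.trans h.um.le)) hv a1 a2 m5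
end

variable {G : Type*} [Group G] [Finite G] {T M X Y : Subgroup G} (h : PH 2 ⊤ T M)
include h

set_option hygiene false in
local notation "𝕍" => VV 2 (⊤ : Subgroup G)

theorem res_comm : ⁅𝐎 2 (⊤ : Subgroup G), pResidualOf 2 ⊤⁆ ≤ 𝕍 := by
  obtain ⟨E, a⟩ := h.exists_ex
  have e : 𝐎 2 E = VV 2 E := by
    rcases a.blk.2.2.2.2 with ⟨F, _, _, n, -, -, -, c | c⟩ | ⟨-, m, -, -, c⟩
    exacts [c, absurd c.1 (by decide), c]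
  have l : ⁅𝐎 2 (⊤ : Subgroup G), E⁆ ≤ 𝕍 := a.OE.trans (inf_le_left.trans (a.cq.ge.trans
    ((commutator_mono e.le le_rfl).trans a.WVH)))
  have n := le_normalizer_commStab h.nQ h.nV
  have LT := h.um.eq_of_not_le (X := T ⊔ commStab (𝐎 2 (⊤ : Subgroup G) : Set G) 𝕍) le_sup_left le_top fun c =>
    a.nM (((le_commStab_iff' h.VQ).2 l).trans (le_sup_right.trans c))
  exact (le_commStab_iff' h.VQ).1 ((pResidualOf_mono LT.ge).trans (pResidualOf_sup_le h.syl.isP (le_top.trans n)))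

theorem sq_mem {u : G} (hu : u ∈ 𝐎 2 (⊤ : Subgroup G)) : u * u ∈ 𝐂 (pResidualOf 2 (⊤ : Subgroup G)) := fun r hr => by
  have m := res_comm h (commutator_mem_commutator (inv_mem hu) hr)
  have e1 := h.QV hu _ m
  have e2 : ⁅u⁻¹, r⁆ * ⁅u⁻¹, r⁆ = 1 := (pow_two _).symm.trans (h.Vea.2 _ m)
  have e3 : r * u * r⁻¹ = u * ⁅u⁻¹, r⁆ := by rw [commutatorElement_def]; group
  calc r * (u * u) = r * u * r⁻¹ * (r * u * r⁻¹) * r := by group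
    _ = u * (⁅u⁻¹, r⁆ * u) * ⁅u⁻¹, r⁆ * r := by rw [e3]; group
    _ = u * u * r := by rw [e1, mul_assoc, mul_assoc u u, mul_assoc u, mul_assoc u, ← mul_assoc ⁅u⁻¹, r⁆, e2, one_mul]

theorem ea_mF (hX : IsElementaryAbelian 2 X) : IsElementaryAbelian 2 (mF 𝕍 X) :=
  elemAb_map ((elemAb_map_iff (𝐍 𝕍).subtype_injective).1 (elemAb_mono hX (map_comap_le _ _))) _

theorem nov (hX : IsElementaryAbelian 2 X) : Rv X 𝕍 := by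
  obtain ⟨B, -, hB⟩ := h.root
  have n : X ≤ 𝐍 𝕍 := le_top.trans h.nV
  have c := (h.hyp.1.geo hB).nov _ (mF_mono le_top) (ea_mF h hX)
  rw [← mI_inf_centralizer le_rfl n, card_mI le_rfl, card_mI inf_le_left] at c
  rw [Rv, ← card_mF n, ← mul_assoc, mul_comm (Nat.card _) (Nat.card (mF _ _))]
  exact Nat.mul_le_mul_right _ c

theorem off (r : Rv 𝕍 X) : Nat.card (mI 𝕍 𝕍) ≤ Nat.card (mF 𝕍 X) * Nat.card ↥(mI 𝕍 𝕍 ⊓ 𝐂 (mF 𝕍 X)) := by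
  have n : X ≤ 𝐍 𝕍 := le_top.trans h.nV
  rw [← mI_inf_centralizer le_rfl n, card_mI le_rfl, card_mI inf_le_left]
  rw [Rv, ← card_mF n, mul_right_comm, mul_comm] at r
  exact Nat.le_of_mul_le_mul_right r Nat.card_pos

theorem le_jj (hX : IsElementaryAbelian 2 X) (h1 : X ≤ T) (r : Rv 𝕍 X) :
    mF 𝕍 X ≤ JJ {A | MO 2 (mI 𝕍 𝕍) (mF 𝕍 ⊤) A} (mF 𝕍 T) := by
  obtain ⟨B, -, hB⟩ := h.root
  exact (le_JJ' h.hyp.1 (h.hyp.1.geo hB) (mF_mono le_top) (ea_mF h hX) (off h r) fun _ a => a).trans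
    (JJ_le_iff.2 fun C hC e => le_JJ hC (e.trans (mF_mono h1)))

theorem jj_le' (hX : IsElementaryAbelian 2 X) (h1 : X ≤ T) (h2 : T ≤ 𝐍 X) (h3 : ¬ X ≤ 𝐂 𝕍) (r : Rv 𝕍 X) :
    JJ {A | MO 2 (mI 𝕍 𝕍) (mF 𝕍 ⊤) A} (mF 𝕍 T) ≤ mF 𝕍 X := by
  obtain ⟨A, a1, a2, -⟩ := exists_mo (mF_mono (le_top : X ≤ ⊤)) (ea_mF h hX)
    (mt (mF_eq_bot (le_top.trans h.nV)).1 h3) (off h r)
  exact jj_le h.hyp.1 (h.hyp.1.geo a2) (mF_le_normalizer_mF h2) (mF_mono h1) a2 a1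

theorem g2 (hX : IsElementaryAbelian 2 X) (hY : IsElementaryAbelian 2 Y) (h1 : X ≤ T) (h2 : Y ≤ T) (h3 : T ≤ 𝐍 Y)
    (h4 : ¬ Y ≤ 𝐂 𝕍) (r : Rv 𝕍 X) (r' : Rv 𝕍 Y) {x : G} (hx : x ∈ X) : ∃ y ∈ Y, x * y ∈ 𝐂 𝕍 := by
  have n : (⊤ : Subgroup G) ≤ 𝐍 (𝐂 𝕍) := le_normalizer_centralizer h.nV
  obtain ⟨y, hy, c, hc, rfl⟩ := (mem_sup_of_le_normalizer (le_top.trans n)).1 ((mF_le_mF (le_top.trans h.nV)
    (le_top.trans h.nV)).1 ((le_jj h hX h1 r).trans (jj_le' h hY h2 h3 h4 r')) hx)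
  exact ⟨y⁻¹, inv_mem hy, conj_mem_of_mem_normalizer (n (mem_top y)) hc⟩

theorem g3 (hX : IsElementaryAbelian 2 X) (h1 : X ≤ T) (h2 : T ≤ 𝐍 X) (h3 : ¬ X ≤ 𝐂 𝕍) (r : Rv 𝕍 X) :
    ∃ j ∈ X, ∀ v ∈ 𝕍, ⁅v, j⁆ ∈ 𝐂 (pResidualOf 2 (⊤ : Subgroup G)) → v ∈ 𝐂 X := by
  obtain ⟨B, -, hB⟩ := h.root
  obtain ⟨_, j1, j2⟩ := exists_j h.hyp.1 (h.hyp.1.geo hB)
  obtain ⟨j, hj, rfl⟩ := jj_le' h hX h1 h2 h3 r j1
  refine ⟨j, hj, fun v hv c => ?_⟩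
  have e : pResidualOf 2 (mF 𝕍 ⊤) = mF 𝕍 (pResidualOf 2 ⊤) := by
    rw [mF, mF, ← pResidualOf_subgroupOf h.nV, map_pResidualOf]
  have k := j2 (holL 𝕍 ⟨v, hv⟩) (holL_mem_mI.2 hv) (by
    rw [commutatorElement_holL_aF, e]
    exact ((mI_inf_centralizer le_rfl (le_top.trans h.nV)).le (holL_mem_mI.2 (mem_inf.2 ⟨Subtype.prop _, c⟩))).2)
  have k2 : holL 𝕍 ⟨v, hv⟩ ∈ mI 𝕍 (𝕍 ⊓ 𝐂 X) := (mI_inf_centralizer le_rfl (le_top.trans h.nV)).ge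
    ⟨holL_mem_mI.2 hv, centralizer_anti (le_jj h hX h1 r) k⟩
  exact (holL_mem_mI.1 k2).2

theorem gd {S : Type*} [Group S] {ι : S →* G} (hi : Function.Injective ι) (hr : ι.range = T) : Gd ((𝕍).comap ι) := by
  set W := (𝕍).comap ι
  have hW : W.map ι = 𝕍 := map_comap_eq_self (h.VT.trans hr.ge)
  have cd : ∀ X : Subgroup S, Nat.card (X.map ι) = Nat.card X := fun X => card_map_of_injective hi
  have rv : ∀ X Y : Subgroup S, Rv (X.map ι) (Y.map ι) ↔ Rv X Y := fun X Y => by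
    rw [Rv, Rv, ← map_inf_centralizer hi, ← map_inf_centralizer hi, cd, cd, cd, cd]
  have lT : ∀ X : Subgroup S, X.map ι ≤ T := fun X => (map_le_range _ _).trans hr.le
  have nT : ∀ X : Subgroup S, X.Normal → T ≤ 𝐍 (X.map ι) := fun X n => by
    rw [← hr, MonoidHom.range_eq_map, map_le_normalizer_map_iff hi]
    exact (normalizer_eq_top_iff.2 n).ge
  have cV : ∀ X : Subgroup S, ¬ X ≤ 𝐂 W → ¬ X.map ι ≤ 𝐂 𝕍 := fun X a b => a (by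
    rwa [← hW, map_le_centralizer_map_iff hi] at b)
  have cm : ∀ s : S, ι s ∈ 𝐂 𝕍 ↔ s ∈ 𝐂 W := fun s => by rw [← hW, map_mem_centralizer_iff hi]
  refine ⟨(normal_of_top_le_normalizer h.nV).comap ι, (elemAb_map_iff hi).1 (hW ▸ h.Vea),
    fun X a => (rv _ _).1 (hW ▸ nov h (elemAb_map a ι)), fun X Y a b c d r r' x hx => ?_, fun X a b c r => ?_⟩
  · obtain ⟨_, ⟨y, hy, rfl⟩, e⟩ := g2 h (elemAb_map a ι) (elemAb_map b ι) (lT X) (lT Y) (nT Y c) (cV Y d)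
      (hW ▸ (rv _ _).2 r) (hW ▸ (rv _ _).2 r') (mem_map_of_mem ι hx)
    exact ⟨y, hy, (cm _).1 (by rwa [map_mul])⟩
  · obtain ⟨_, ⟨j, hj, rfl⟩, e⟩ := g3 h (elemAb_map a ι) (lT X) (nT X b) (cV X c) (hW ▸ (rv _ _).2 r)
    refine ⟨j, hj, (𝐂 (pResidualOf 2 (⊤ : Subgroup G))).comap ι, fun u hu => ?_, fun v hv k => ?_⟩
    · rw [mem_comap, map_mul]
      exact sq_mem h (h.cV.le ⟨hr.le ⟨u, rfl⟩, (cm u).2 hu⟩)
    · rw [mem_comap, map_commutatorElement] at k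
      exact (map_mem_centralizer_iff hi).1 (e _ hv k)

end H27.St
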