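import Cfsg.Agent.H27.St2

/-! Pushing up against automorphisms of the Sylow subgroup, part 3: the facts of part 2 for a minimal parabolic subgroup `P`
of an ambient group (`H27.Sq.gd`). -/

set_option autoImplicit false
set_option linter.unusedSectionVars false
namespace H27.Sq
open Subgroup H26 H4 H118 H18.PU Cfsg
open H27.St (Rv Gd jj_le exists_j cm_sq)
open scoped commutatorElement

variable {G : Type*} [Group G] [Finite G] {P T M X Y : Subgroup G} (h : PH 2 P T M)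
include h

set_option hygiene false in
local notation "𝕍" => VV 2 P

theorem res_comm : ⁅𝐎 2 P, pResidualOf 2 P⁆ ≤ 𝕍 := by
  obtain ⟨E, a⟩ := h.exists_ex
  have e : 𝐎 2 E = VV 2 E := by
    rcases a.blk.2.2.2.2 with ⟨F, _, _, n, -, -, -, c | c⟩ | ⟨-, m, -, -, c⟩
    exacts [c, absurd c.1 (by decide), c]
  have l : ⁅𝐎 2 P, E⁆ ≤ 𝕍 := a.OE.trans (inf_le_left.trans (a.cq.ge.trans
    ((commutator_mono e.le le_rfl).trans a.WVH)))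
  have n := le_normalizer_inf le_normalizer (le_normalizer_commStab h.nQ h.nV)
  exact (le_commStab_iff' h.VQ).1 (((h.um.le_or_pResidualOf_le h.syl inf_le_left n).resolve_left fun c =>
    a.nM ((le_inf a.le ((le_commStab_iff' h.VQ).2 l)).trans c)).trans inf_le_right)

theorem sq_mem {u : G} (hu : u ∈ 𝐎 2 P) : u * u ∈ 𝐂 (pResidualOf 2 P) := fun r hr => by
  have m := res_comm h (commutator_mem_commutator (inv_mem hu) hr)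
  have e1 := h.QV hu _ m
  have e2 : ⁅u⁻¹, r⁆ * ⁅u⁻¹, r⁆ = 1 := (pow_two _).symm.trans (h.Vea.2 _ m)
  have e3 : r * u * r⁻¹ = u * ⁅u⁻¹, r⁆ := by rw [commutatorElement_def]; group
  calc r * (u * u) = r * u * r⁻¹ * (r * u * r⁻¹) * r := by group
    _ = u * (⁅u⁻¹, r⁆ * u) * ⁅u⁻¹, r⁆ * r := by rw [e3]; group
    _ = u * u * r := by rw [e1, mul_assoc, mul_assoc u u, mul_assoc u, mul_assoc u, ← mul_assoc ⁅u⁻¹, r⁆, e2, one_mul]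

theorem ea_mF (hX : IsElementaryAbelian 2 X) : IsElementaryAbelian 2 (mF 𝕍 X) :=
  elemAb_map ((elemAb_map_iff (𝐍 𝕍).subtype_injective).1 (elemAb_mono hX (map_comap_le _ _))) _

theorem nov (hX : IsElementaryAbelian 2 X) (h1 : X ≤ T) : Rv X 𝕍 := by
  obtain ⟨B, -, hB⟩ := h.root
  have n : X ≤ 𝐍 𝕍 := h1.trans (h.syl.le.trans h.nV)
  have c := (h.hyp.1.geo hB).nov _ (mF_mono (h1.trans h.syl.le)) (ea_mF h hX)
  rw [← mI_inf_centralizer le_rfl n, card_mI le_rfl, card_mI inf_le_left] at c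
  rw [Rv, ← card_mF n, ← mul_assoc, mul_comm (Nat.card _) (Nat.card (mF _ _))]
  exact Nat.mul_le_mul_right _ c

theorem off (h1 : X ≤ T) (r : Rv 𝕍 X) : Nat.card (mI 𝕍 𝕍) ≤ Nat.card (mF 𝕍 X) * Nat.card ↥(mI 𝕍 𝕍 ⊓ 𝐂 (mF 𝕍 X)) := by
  have n : X ≤ 𝐍 𝕍 := h1.trans (h.syl.le.trans h.nV)
  rw [← mI_inf_centralizer le_rfl n, card_mI le_rfl, card_mI inf_le_left]
  rw [Rv, ← card_mF n, mul_right_comm, mul_comm] at r
  exact Nat.le_of_mul_le_mul_right r Nat.card_pos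

theorem le_jj (hX : IsElementaryAbelian 2 X) (h1 : X ≤ T) (r : Rv 𝕍 X) :
    mF 𝕍 X ≤ JJ {A | MO 2 (mI 𝕍 𝕍) (mF 𝕍 P) A} (mF 𝕍 T) := by
  obtain ⟨B, -, hB⟩ := h.root
  exact (le_JJ' h.hyp.1 (h.hyp.1.geo hB) (mF_mono (h1.trans h.syl.le)) (ea_mF h hX) (off h h1 r) fun _ a => a).trans
    (JJ_le_iff.2 fun C hC e => le_JJ hC (e.trans (mF_mono h1)))

theorem jj_le' (hX : IsElementaryAbelian 2 X) (h1 : X ≤ T) (h2 : T ≤ 𝐍 X) (h3 : ¬ X ≤ 𝐂 𝕍) (r : Rv 𝕍 X) :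
    JJ {A | MO 2 (mI 𝕍 𝕍) (mF 𝕍 P) A} (mF 𝕍 T) ≤ mF 𝕍 X := by
  obtain ⟨A, a1, a2, -⟩ := exists_mo (mF_mono (h1.trans h.syl.le)) (ea_mF h hX)
    (mt (mF_eq_bot (h1.trans (h.syl.le.trans h.nV))).1 h3) (off h h1 r)
  exact jj_le h.hyp.1 (h.hyp.1.geo a2) (mF_le_normalizer_mF h2) (mF_mono h1) a2 a1

theorem g2 (hX : IsElementaryAbelian 2 X) (hY : IsElementaryAbelian 2 Y) (h1 : X ≤ T) (h2 : Y ≤ T) (h3 : T ≤ 𝐍 Y)
    (h4 : ¬ Y ≤ 𝐂 𝕍) (r : Rv 𝕍 X) (r' : Rv 𝕍 Y) {x : G} (hx : x ∈ X) : ∃ y ∈ Y, x * y ∈ 𝐂 𝕍 := by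
  have n : P ≤ 𝐍 (𝐂 𝕍) := le_normalizer_centralizer h.nV
  obtain ⟨y, hy, c, hc, rfl⟩ := (mem_sup_of_le_normalizer (h2.trans (h.syl.le.trans n))).1 ((mF_le_mF
    (h1.trans (h.syl.le.trans h.nV)) (h2.trans (h.syl.le.trans h.nV))).1 ((le_jj h hX h1 r).trans (jj_le' h hY h2 h3 h4 r')) hx)
  exact ⟨y⁻¹, inv_mem hy, conj_mem_of_mem_normalizer (n (h.syl.le (h2 hy))) hc⟩

theorem g3 (hX : IsElementaryAbelian 2 X) (h1 : X ≤ T) (h2 : T ≤ 𝐍 X) (h3 : ¬ X ≤ 𝐂 𝕍) (r : Rv 𝕍 X) :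
    ∃ j ∈ X, ∀ v ∈ 𝕍, ⁅v, j⁆ ∈ 𝐂 (pResidualOf 2 P) → v ∈ 𝐂 X := by
  obtain ⟨B, -, hB⟩ := h.root
  obtain ⟨_, j1, j2⟩ := exists_j h.hyp.1 (h.hyp.1.geo hB)
  obtain ⟨j, hj, rfl⟩ := jj_le' h hX h1 h2 h3 r j1
  refine ⟨j, hj, fun v hv c => ?_⟩
  have e : pResidualOf 2 (mF 𝕍 P) = mF 𝕍 (pResidualOf 2 P) := by
    rw [mF, mF, ← pResidualOf_subgroupOf h.nV, map_pResidualOf]
  have k := j2 (holL 𝕍 ⟨v, hv⟩) (holL_mem_mI.2 hv) (by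
    rw [commutatorElement_holL_aF, e]
    exact ((mI_inf_centralizer le_rfl ((pResidualOf_le _ _).trans h.nV)).le (holL_mem_mI.2 (mem_inf.2 ⟨Subtype.prop _, c⟩))).2)
  have k2 : holL 𝕍 ⟨v, hv⟩ ∈ mI 𝕍 (𝕍 ⊓ 𝐂 X) := (mI_inf_centralizer le_rfl (h1.trans (h.syl.le.trans h.nV))).ge
    ⟨holL_mem_mI.2 hv, centralizer_anti (le_jj h hX h1 r) k⟩
  exact (holL_mem_mI.1 k2).2

theorem gd {S : Type*} [Group S] {ι : S →* G} (hi : Function.Injective ι) (hr : ι.range = T) : Gd ((𝕍).comap ι) := by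
  set W := (𝕍).comap ι
  have hW : W.map ι = 𝕍 := map_comap_eq_self (h.VT.trans hr.ge)
  have cd : ∀ X : Subgroup S, Nat.card (X.map ι) = Nat.card X := fun X => card_map_of_injective hi
  have rv : ∀ X Y : Subgroup S, Rv (X.map ι) (Y.map ι) ↔ Rv X Y := fun X Y => by
    rw [Rv, Rv, ← map_inf_centralizer hi, ← map_inf_centralizer hi, cd, cd, cd, cd]
  have lT : ∀ X : Subgroup S, X.map ι ≤ T := fun X => (map_le_range _ _).trans hr.le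
  have nT : ∀ X : Subgroup S, X.Normal → T ≤ 𝐍 (X.map ι) := fun X n => by
    rw [← hr, MonoidHom.range_eq_map, map_le_normalizer_map_iff hi]
    exact (normalizer_eq_top_iff.2 n).ge
  have cV : ∀ X : Subgroup S, ¬ X ≤ 𝐂 W → ¬ X.map ι ≤ 𝐂 𝕍 := fun X a b => a (by
    rwa [← hW, map_le_centralizer_map_iff hi] at b)
  have cm : ∀ s : S, ι s ∈ 𝐂 𝕍 ↔ s ∈ 𝐂 W := fun s => by rw [← hW, map_mem_centralizer_iff hi]
  refine ⟨normal_of_top_le_normalizer ((map_le_normalizer_map_iff hi).1 (hW ▸ (lT ⊤).trans (h.syl.le.trans h.nV))), (elemAb_map_iff hi).1 (hW ▸ h.Vea),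
    fun X a => (rv _ _).1 (hW ▸ nov h (elemAb_map a ι) (lT X)), fun X Y a b c d r r' x hx => ?_, fun X a b c r => ?_⟩
  · obtain ⟨_, ⟨y, hy, rfl⟩, e⟩ := g2 h (elemAb_map a ι) (elemAb_map b ι) (lT X) (lT Y) (nT Y c) (cV Y d)
      (hW ▸ (rv _ _).2 r) (hW ▸ (rv _ _).2 r') (mem_map_of_mem ι hx)
    exact ⟨y, hy, (cm _).1 (by rwa [map_mul])⟩
  · obtain ⟨_, ⟨j, hj, rfl⟩, e⟩ := g3 h (elemAb_map a ι) (lT X) (nT X b) (cV X c) (hW ▸ (rv _ _).2 r)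
    refine ⟨j, hj, (𝐂 (pResidualOf 2 P)).comap ι, fun u hu => ?_, fun v hv k => ?_⟩
    · rw [mem_comap, map_mul]
      exact sq_mem h (h.cV.le ⟨hr.le ⟨u, rfl⟩, (cm u).2 hu⟩)
    · rw [mem_comap, map_commutatorElement] at k
      exact (map_mem_centralizer_iff hi).1 (e _ hv k)

theorem der_cen : ⁅𝐎 2 P, 𝐎 2 P⁆ ≤ 𝐂 (pResidualOf 2 P) :=
  commutator_le.2 fun _ ha _ hb => cm_sq (fun _ hu => sq_mem h hu) ha hb

theorem ph_cj {g : G} (hg : g ∈ 𝐍 T) : PH 2 (cj g P) T (cj g M) := by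
  have e := cj_eq_of_mem_normalizer hg
  refine ⟨h.cp.cj g, e ▸ h.syl.cj g, e ▸ h.um.cj g, ?_, fun U h1 h2 h3 => h.fr U h1 h2 ?_⟩
  · have := cj_mono g h.cz
    rwa [cj_inf, cj_centralizer, cj_oc, e] at this
  · have := H17.normalizer_le_map_char (U.subgroupOf (𝐁 2 T))
    rw [map_subgroupOf_eq_of_le h1] at this
    rwa [← cj_eq_of_mem_normalizer (this (n_bau le_rfl hg)), ← cj_normalizer, cj_le_cj_iff] at h3

theorem path {P₁ P₂ P₃ M₁ M₂ M₃ : Subgroup G} (h₁ : PH 2 P₁ T M₁) (h₂ : PH 2 P₂ T M₂) (h₃ : PH 2 P₃ T M₃)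
    (a : ¬ VV 2 P₁ ≤ 𝐂 𝕍) (b : ¬ VV 2 P₂ ≤ 𝐂 𝕍) (c : ¬ VV 2 P₃ ≤ 𝐂 (VV 2 P₁)) : ¬ VV 2 P₃ ≤ 𝐂 (VV 2 P₂) := by
  have k : ∀ {A B : Subgroup G}, A ≤ T → B ≤ T → (A.comap T.subtype ≤ 𝐂 (B.comap T.subtype) ↔ A ≤ 𝐂 B) := fun u v => by
    rw [← map_le_centralizer_map_iff T.subtype_injective, map_comap_eq_self (u.trans T.range_subtype.ge),
      map_comap_eq_self (v.trans T.range_subtype.ge)]
  have g : ∀ {P M : Subgroup G}, PH 2 P T M → Gd ((VV 2 P).comap T.subtype) := fun u =>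
    gd u T.subtype_injective T.range_subtype
  exact mt (k h₃.VT h₂.VT).2 ((g h).path (g h₁) (g h₂) (g h₃) (mt (k h₁.VT h.VT).1 a) (mt (k h₂.VT h.VT).1 b)
    (mt (k h₃.VT h₁.VT).1 c))

end H27.Sq
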