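import Cfsg.Agent.H27.St3

/-! Pushing up against automorphisms of the Sylow subgroup, part 4: a common normal 2-subgroup in groups of even
characteristic (`H27.Sq.common`). -/

set_option autoImplicit false
set_option linter.unusedSectionVars false
namespace H27.Sq
open Subgroup H26 H4 H118 H18.PU Cfsg
open scoped commutatorElement

variable {G : Type*} [Group G] [Finite G] {P T R H K M M₀ N : Subgroup G}

/-- all conjugates of `Ω₁Z(O₂(P))` under `M₀` commute -/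
theorem all_comm (hT : IsSyl 2 T ⊤) (ev : ∀ Q : Subgroup G, IsPGroup 2 Q → Q ≠ ⊥ → T ≤ 𝐍 Q → CharPOf 2 (𝐍 Q)) (h : PH 2 P R N)
    (h0 : T ≤ M₀) (hRM : M₀ ≤ 𝐍 R) (hRT : R ≤ T) (PK : P ≤ K) (nK : T ≤ 𝐍 K) (TK : T ⊓ K ≤ R)
    (tf : ∀ t ∈ T, cj t (VV 2 P) ≤ 𝐂 (VV 2 P)) : ∀ m ∈ M₀, cj m (VV 2 P) ≤ 𝐂 (VV 2 P) := fun m hm => by_contra fun c => by
  set V := VV 2 P with hV
  have hc : ∀ a ∈ M₀, PH 2 (cj a P) R (cj a N) := fun a ha => ph_cj h (hRM ha)
  obtain ⟨adj, had⟩ : ∃ adj : G → G → Prop, ∀ a b, adj a b ↔ ¬ cj a V ≤ 𝐂 (cj b V) := ⟨_, fun _ _ => Iff.rfl⟩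
  have sym : ∀ {a b}, adj a b → adj b a := fun k => (had _ _).2 (mt le_centralizer_iff.1 ((had _ _).1 k))
  have inv : ∀ g {a b}, adj a b → adj (g * a) (g * b) := fun g a b k => (had _ _).2 fun e => (had _ _).1 k (by
    rwa [cj_mul, cj_mul, ← cj_centralizer, cj_le_cj_iff] at e)
  have pth : ∀ {w x y u}, w ∈ M₀ → x ∈ M₀ → y ∈ M₀ → u ∈ M₀ → adj x w → adj y w → adj u x → adj u y := by
    intro w x y u hw hx hy hu k1 k2 k3
    rw [had, hV, cj_VV, cj_VV] at *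
    exact path (hc w hw) (hc x hx) (hc y hy) (hc u hu) k1 k2 k3
  have a0 : adj m 1 := (had _ _).2 (by rwa [cj_one])
  have tf' : ∀ t ∈ T, ¬ adj t 1 := fun t ht k => (had _ _).1 k (by rw [cj_one]; exact tf t ht)
  have st : ∀ n : ℕ, adj (m ^ (n + 1)) (m ^ n) := fun n => by
    have := inv (m ^ n) a0
    rwa [mul_one, ← pow_succ] at this
  have od : ∀ k : ℕ, adj 1 (m ^ (2 * k + 1)) := fun k => by
    induction k with
    | zero => simpa using sym a0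
    | succ k ih =>
      exact pth (pow_mem hm (2 * k + 1 + 1)) (pow_mem hm _) (pow_mem hm _) (one_mem _) (sym (st _)) (st _) ih
  obtain ⟨e, n, ⟨k, rfl⟩, hn⟩ := Nat.exists_eq_two_pow_mul_odd (orderOf_pos m).ne'
  obtain ⟨y, hy, ht⟩ := (hT.mono h0 le_top).exists_conj_mem (pow_mem hm (2 * k + 1)) (k := e)
    (by rw [← pow_mul, mul_comm, ← hn, pow_orderOf_eq_one])
  have a1 := inv y (od k)
  rw [mul_one, ← inv_mul_cancel_right (y * _) y] at a1
  generalize y * m ^ (2 * k + 1) * y⁻¹ = t at ht a1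
  have c1 : ∀ s ∈ T, ¬ adj (s * y) 1 := fun s hs k1 => by
    have r : s * t * s⁻¹ ∈ T := mul_mem (mul_mem hs ht) (inv_mem hs)
    have k3 := inv (s * t * s⁻¹) k1
    rw [mul_one, show s * t * s⁻¹ * (s * y) = s * (t * y) by group] at k3
    exact tf' _ r (pth (mul_mem (h0 hs) hy) (mul_mem (h0 hs) (mul_mem (h0 ht) hy)) (one_mem _) (h0 r) (sym (inv s a1))
      (sym k1) (sym k3))
  have c2 : ∀ s ∈ T, ¬ adj (s * y) m := fun s hs k1 => c1 (s * t) (mul_mem hs ht) (pth hm (mul_mem (h0 hs) hy) (one_mem _)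
    (mul_mem (h0 (mul_mem hs ht)) hy) k1 (sym a0) (by rw [mul_assoc]; exact sym (inv s a1)))
  set U := ncl (cj y V) T
  have UR : U ≤ R := ncl_le (cj_le_of_mem_normalizer h.VT (hRM hy)) (h0.trans hRM)
  have u1 : U ≤ 𝐎 2 P := (le_inf UR (ncl_le_iff.2 fun s hs => by_contra fun e => c1 s hs ((had _ _).2
    (by rwa [cj_mul, cj_one])))).trans h.cV.le
  have u2 : U ≤ 𝐎 2 (cj m P) := (le_inf UR (ncl_le_iff.2 fun s hs => by_contra fun e => c2 s hs ((had _ _).2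
    (by rw [cj_mul, hV, cj_VV m]; exact e)))).trans (hc m hm).cV.le
  have z0 : ⁅U, U⁆ ≠ ⊥ := fun e => (had _ _).1 a1 ((le_ncl _ _).trans ((commutator_eq_bot_iff_le_centralizer.1 e).trans
    (centralizer_anti (by rw [cj_mul]; exact cj_le_ncl ht))))
  have pU := (hT.isP.to_le (UR.trans hRT)).to_le (commutator_le_of_le_normalizer (le_normalizer (H := U)))
  have TL : T ≤ 𝐍 (⁅U, U⁆ ⊓ 𝐂 T) := le_normalizer_of_le_centralizer (le_centralizer_iff.1 inf_le_right)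
  have cL := ev _ pU.to_inf_left (inf_centralizer_ne_bot pU hT.isP (le_normalizer_commutator (le_normalizer_ncl _ _)
    (le_normalizer_ncl _ _)) z0) TL
  have inL : ∀ {P' N' : Subgroup G}, PH 2 P' R N' → U ≤ 𝐎 2 P' → P' ≤ 𝐍 (⁅U, U⁆ ⊓ 𝐂 T) := fun h' u =>
    h'.syl.le_of_pResidualOf_le (le_normalizer_of_le_centralizer (le_centralizer_iff.1 (inf_le_left.trans
      ((commutator_mono u u).trans (der_cen h'))))) (hRT.trans TL)
  have l1 := inL h u1
  have l2 := inL (hc m hm) u2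
  generalize 𝐍 (⁅U, U⁆ ⊓ 𝐂 T) = L at TL cL l1 l2
  have QT : 𝐎 2 L ≤ T := (hT.mono TL le_top).pCoreOf_le
  have mR : cj m V ≤ R := cj_le_of_mem_normalizer h.VT (hRM hm)
  have q1 : P ⊓ 𝐎 2 L ≤ R := (le_inf (inf_le_right.trans QT) (inf_le_left.trans PK)).trans TK
  have q2 : cj m V ≤ 𝐂 (P ⊓ 𝐎 2 L) := le_centralizer_iff.1 ((le_inf (q1.trans (hc m hm).syl.le) inf_le_right).trans
    ((inf_pCoreOf_le' l2).trans (by rw [hV, cj_VV]; exact (hc m hm).QV)))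
  have nN : P ≤ 𝐍 (P ⊓ 𝐂 (P ⊓ 𝐎 2 L)) := le_normalizer_inf le_normalizer (le_normalizer_centralizer
    (le_normalizer_inf le_normalizer (l1.trans (le_normalizer_pCoreOf _ _))))
  have q3 := (h.um.le_or_pResidualOf_le h.syl inf_le_left nN).resolve_left fun e => c ((le_inf mR (le_inf
    (mR.trans h.syl.le) q2)).trans ((le_pCoreOf (h.syl.isP.to_le inf_le_left) (inf_le_left.trans h.syl.le)
      (h.um.le_normalizer_inf h.syl e nN)).trans h.QV))
  have rP := pResidualOf_le 2 P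
  have b := commutator_le_of_le_normalizer (rP.trans (l1.trans (le_normalizer_pCoreOf 2 L)))
  have q5 := le_centralizer_of_stab (pResidualOf_pResidualOf 2 P) (isPGroup_pCoreOf 2 L).to_inf_right (le_inf ((le_inf
    (b.trans QT) ((commutator_mono le_rfl (rP.trans PK)).trans (commutator_le_of_le_normalizer' (QT.trans nK)))).trans
      (TK.trans h.syl.le)) b) (q3.trans inf_le_right)
  exact h.um.lt.not_ge (h.syl.le_of_pResidualOf_le ((le_inf ((le_inf (rP.trans l1) q5).trans (le_trans cL QT))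
    (rP.trans PK)).trans (TK.trans h.um.le)) h.um.le)

theorem common (hT : IsSyl 2 T ⊤) (ev : ∀ Q : Subgroup G, IsPGroup 2 Q → Q ≠ ⊥ → T ≤ 𝐍 Q → CharPOf 2 (𝐍 Q)) (cH : CharPOf 2 H)
    (hu : UMax T M H) (h0 : T ≤ M₀) (hR : R ≠ ⊥) (hRT : R ≤ T) (hRS : IsSyl 2 R (pResidualOf 2 H ⊔ R))
    (hRM : M₀ ≤ 𝐍 R) : ∃ R₀, R₀ ≠ ⊥ ∧ R₀ ≤ R ∧ M₀ ⊔ H ≤ 𝐍 R₀ := by
  by_contra hn
  set K := pResidualOf 2 H ⊔ R
  have sH : IsSyl 2 T H := hT.mono (hu.le.trans hu.lt.le) le_top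
  have KH : K ≤ H := sup_le (pResidualOf_le _ _) (hRT.trans sH.le)
  have TR : T ≤ 𝐍 R := h0.trans hRM
  have nK : H ≤ 𝐍 K := sH.le_of_pResidualOf_le (le_sup_left.trans le_normalizer)
    (le_normalizer_sup (sH.le.trans (le_normalizer_pResidualOf _ _)) TR)
  have cK := cH.of_normal KH nK
  have TK : T ⊓ K ≤ R := hRS.max _ hT.isP.to_inf_left (le_inf hRT hRS.le) inf_le_right
  obtain ⟨P, PK, ⟨RP, PM⟩, mn⟩ := exists_minimal_le (Q := fun P => R ≤ P ∧ ¬ P ≤ M) K ⟨le_sup_right, fun e =>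
    hu.lt.not_ge (sH.le_of_pResidualOf_le (le_sup_left.trans e) hu.le)⟩
  have um : UMax R (P ⊓ M) P := ⟨le_inf RP (hRT.trans hu.le), lt_of_le_of_ne inf_le_left fun e =>
    PM (e.ge.trans inf_le_right), fun Y y1 y2 => le_inf y2.le (by_contra fun e => y2.ne (mn Y y2.le ⟨y1, e⟩))⟩
  have key : ∀ U ≤ R, M₀ ≤ 𝐍 U → P ≤ 𝐍 U → U = ⊥ := fun U a b c => by_contra fun e => hn ⟨U, e, a, sup_le b
    ((hu.eq_of_not_le le_sup_left (sup_le sH.le (PK.trans KH)) fun k => PM (le_sup_right.trans k)).ge.trans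
      (sup_le (h0.trans b) c))⟩
  have sP := hRS.mono RP PK
  have h : PH 2 P R (P ⊓ M) := by
    refine ⟨cK.of_le PK (hRS.pCoreOf_le.trans RP), sP, um, le_sup_right.trans (um.all (R ⊔ _) le_sup_left
      (lt_of_le_of_ne (sup_le RP inf_le_left) fun e => omegaOne_center_ne_bot sP.isP hR (key _ (oc_le _ _) (le_n_oc hRM)
        (e.ge.trans (sup_le (le_n_oc le_normalizer) (inf_le_right.trans (centralizer_le_normalizer _))))))),
      fun U h1 h2 h3 => key U (h1.trans (bau_le _)) ?_ h3⟩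
    have := H17.normalizer_le_map_char (U.subgroupOf (𝐁 2 R))
    rw [map_subgroupOf_eq_of_le h1] at this
    exact (n_bau hRM).trans this
  have OK : 𝐎 2 K ≤ 𝐎 2 P := pCoreOf_le_pCoreOf_of_le PK (hRS.pCoreOf_le.trans RP)
  have VK : VV 2 P ≤ 𝐎 2 K := le_trans (le_inf (h.VT.trans hRS.le) (le_centralizer_iff.1 (OK.trans h.QV))) cK
  have al := all_comm hT ev h h0 hRM hRT PK (sH.le.trans nK) TK fun t ht => (cj_le_of_mem_normalizer VK
    (le_normalizer_pCoreOf_of_le (sH.le.trans nK) ht)).trans (OK.trans h.QV)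
  have u1 : ncl (VV 2 P) M₀ ≤ R := ncl_le h.VT hRM
  have u2 : ncl (VV 2 P) M₀ ≤ 𝐎 2 P := (le_inf u1 (ncl_le_iff.2 al)).trans h.cV.le
  exact h.hyp.2 (le_centralizer_iff.1 ((le_ncl _ M₀).trans ((key _ u1 (le_normalizer_ncl _ _)
    (sP.le_of_pResidualOf_le (le_normalizer_of_commutator_le ((commutator_mono u2 le_rfl).trans
      ((res_comm h).trans (le_ncl _ _)))) (hRT.trans (h0.trans (le_normalizer_ncl _ _))))).le.trans bot_le)))

end H27.Sq
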