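import Cfsg.Agent.H27.StS
import Cfsg.Agent.H27.SecTr
import Cfsg.Agent.H9.SylowBasic

/-! `Rp p H`: no element of order `p` of `H` is real in `H` (`rp_iff`: `D_{2p}` is not involved); its control by a
functor (`rz_step`, `rz_of_sections`); `2`-closure of groups without real elements of odd order (`two_closed`). -/

set_option autoImplicit false

namespace H27
open Subgroup H26 H4 Cfsg

universe u

/-- no element of order `p` of `H` is inverted in `H` -/
def Rp (p : ℕ) {G : Type*} [Group G] (H : Subgroup G) : Prop :=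
  ∀ x ∈ H, ∀ g ∈ H, x ^ p = 1 → g * x * g⁻¹ = x⁻¹ → x = 1

variable {G : Type*} [Group G] {G' : Type*} [Group G'] {p : ℕ} {H K : Subgroup G}

theorem rp_three : Rp 3 (⊤ : Subgroup G) ↔ R3 G :=
  ⟨fun h x g => h x trivial g trivial, fun h x _ g _ => h x g⟩

theorem Rp.mono (h : Rp p H) (hK : K ≤ H) : Rp p K := fun x hx g hg => h x (hK hx) g (hK hg)

theorem Rp.of_map {f : G →* G'} (h : Rp p (H.map f)) (hk : ∀ x ∈ H, f x = 1 → x ^ p = 1 → x = 1) : Rp p H :=
  fun x hx g hg h1 h2 => hk x hx (h _ (mem_map_of_mem f hx) _ (mem_map_of_mem f hg)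
    (by rw [← map_pow, h1, map_one]) (by rw [← map_inv, ← map_inv, ← map_mul, ← map_mul, h2])) h1

theorem Rp.of_map_inj {f : G →* G'} (hf : Function.Injective f) (h : Rp p (H.map f)) : Rp p H :=
  h.of_map fun _ _ e _ => (map_eq_one_iff f hf).1 e

variable [hp : Fact p.Prime] (p2 : p ≠ 2)
include p2

theorem rp_iff [Finite H] : Rp p H ↔ ¬ Sec (DihedralGroup p) H := by
  have : NeZero p := ⟨hp.out.ne_zero⟩
  have h1 : (DihedralGroup.r 1 : DihedralGroup p) ^ p = 1 := DihedralGroup.r_one_pow_n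
  have h2 : (DihedralGroup.sr 0 : DihedralGroup p) * DihedralGroup.r 1 * (DihedralGroup.sr 0)⁻¹ =
      (DihedralGroup.r 1)⁻¹ := by simp
  refine ⟨fun h s => ?_, fun h x hx g hg e1 e2 => by_contra fun x1 => h ((sec_of_inv p2 h1 (by simp [pow_two]) h2
    (fun σ => ?_) x1 e1 e2).mono (sup_le (zpowers_le.2 hg) (zpowers_le.2 hx)))⟩
  · obtain ⟨x, hx, y, hy, -, e1, e2, e3⟩ := exists_inv_of_sec h1 (τ := DihedralGroup.sr 0) (fun e => by
      rw [h2, inv_eq_iff_mul_eq_one, ← pow_two, ← orderOf_dvd_iff_pow_eq_one, DihedralGroup.orderOf_r_one] at e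
      exact p2 ((Nat.prime_dvd_prime_iff_eq hp.out Nat.prime_two).1 e)) (fun g => by cases g <;> simp) s
    exact e1 (h y hy x hx e2 e3)
  · cases σ with
    | r i => exact ⟨i.val, 0, by simp⟩
    | sr i => exact ⟨(-i).val, 1, by simp⟩

theorem Rp.map [Finite H] (h : Rp p H) (f : G →* G') : Rp p (H.map f) :=
  have : Finite (H.map f) := Finite.Set.finite_image _ _
  (rp_iff p2).2 fun s => (rp_iff p2).1 h s.of_map

theorem rp_top [Finite H] : Rp p (⊤ : Subgroup H) ↔ Rp p H :=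
  ⟨fun h => map_subtype_top H ▸ h.map p2 H.subtype,
    fun h => Rp.of_map_inj H.subtype_injective ((map_subtype_top H).symm ▸ h)⟩

omit p2 hp in
theorem Rp.cent (h : Rp p H) {P : Subgroup G} (hP : IsPGroup p P) (hPH : P ≤ H) {t : G} {k : ℕ} (tH : t ∈ H)
    (ht : t ^ 2 ^ k = 1) (hn : t ∈ 𝐍 P) : t ∈ 𝐂 P := by
  by_contra h'
  obtain ⟨j, y, hy, y1, e⟩ := exists_inv_of_act k t (ht ▸ one_mem _) hn h'
  obtain ⟨i, hi⟩ := isPGroup_iff_mem.1 hP y hy
  obtain ⟨l, a, b, c⟩ := exists_prime_inv hi y1 e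
  exact a (h _ (pow_mem (hPH hy) _) _ (pow_mem tH _) b c)

variable {X : Type u} [Group X] [Finite X] {W : ∀ (Q : Type u) [Group Q], Subgroup Q}

/-- The property proved by induction. -/
def RZ (p : ℕ) (W : ∀ (Q : Type u) [Group Q], Subgroup Q) (X : Type u) [Group X] : Prop :=
  ∀ S : Subgroup X, IsSyl p S ⊤ → Rp p (𝐍 (inducedFunctor W S)) → Rp p (⊤ : Subgroup X)

theorem RZ.of_equiv (hW : IsCharPFunctor p W) {Y : Type u} [Group Y] (e : X ≃* Y) (h : RZ p W X) : RZ p W Y := by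
  intro S hS hN
  have : Finite Y := Finite.of_equiv X e.toEquiv
  have h1 := hS.map e.symm.toMonoidHom
  rw [map_top_of_surjective _ e.symm.surjective] at h1
  refine map_top_of_surjective e.toMonoidHom e.surjective ▸ (h _ h1 ?_).map p2 e.toMonoidHom
  have h2 := hN.map p2 e.symm.toMonoidHom
  rwa [← top_inf_eq (𝐍 _), map_inf_normalizer e.symm.injective, map_top_of_surjective _ e.symm.surjective,
    top_inf_eq, map_inducedFunctor hW hS.isP e.symm.injective] at h2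

theorem RZ.subgroup (hW : IsCharPFunctor p W) {H T : Subgroup X} (h : RZ p W H) (hT : IsSyl p T H)
    (hN : Rp p (𝐍 (inducedFunctor W T))) : Rp p H := by
  have h1 := isSyl_top hT.sylow
  refine (rp_top p2).1 (h _ h1 (Rp.of_map_inj H.subtype_injective ?_))
  rw [map_subtype_normalizer, map_inducedFunctor hW h1.isP H.subtype_injective, hT.map_sylow]
  exact hN.mono inf_le_right

theorem rz_step (hW : IsCharPFunctor p W) (IH1 : ∀ H : Subgroup X, H ≠ ⊤ → RZ p W H)
    (IH2 : ∀ (N : Subgroup X) [N.Normal], N ≠ ⊥ → RZ p W (X ⧸ N))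
    (hloc : 𝐂 (pCore p X) ≤ pCore p X → Rp p (⊤ : Subgroup (X ⧸ pCore p X)) → ∀ T : Subgroup X, IsSyl p T ⊤ →
      (∀ H, T ≤ H → H ≠ ⊤ → ¬ 2 ∣ Nat.card H) → ⊤ ≤ 𝐍 (inducedFunctor W T)) : RZ p W X := by
  intro S hS hN
  have hcf := isConjugacyFunctor_induced (G := X) hW
  have P1 : ∀ H, S ≤ H → H ≠ ⊤ → Rp p H := fun H hSH hH => (IH1 H hH).subgroup p2 hW (hS.mono hSH le_top) hN
  by_cases hR : pCore p X = ⊥
  · have key : ∀ n (U : Subgroup X), Nat.card S - Nat.card ↥(S ⊓ 𝐍 U) = n → U ≠ ⊥ → Ext p S ⊤ U → Rp p (𝐍 U) := by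
      intro n
      induction n using Nat.strong_induction_on with
      | _ n ih =>
      rintro U rfl hU hE
      have h1 := normalizer_ne_top hR (hS.isP.to_le hE.le) hU
      rcases (inf_le_left : S ⊓ 𝐍 U ≤ S).eq_or_lt with e | hlt
      · exact P1 _ (e.ge.trans inf_le_right) h1
      have h2 := hE.syl
      rw [top_inf_eq] at h2
      refine (IH1 _ h1).subgroup p2 hW h2 ?_
      have h3 := card_lt_of_lt (cf_lt hcf hS.isP hlt)
      obtain ⟨k, -, h4, h5⟩ := exists_ext hS ((induced_le W _).trans hlt.le)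
      have h6 : cj k (S ⊓ 𝐍 (inducedFunctor W (S ⊓ 𝐍 U))) ≤ S ⊓ 𝐍 (cj k (inducedFunctor W (S ⊓ 𝐍 U))) :=
        le_inf h5 (by rw [← cj_normalizer]; exact cj_mono k inf_le_right)
      have h7 := card_le_of_le h6
      rw [card_cj] at h7
      have h8 := card_le_of_le (inf_le_left : S ⊓ 𝐍 (cj k (inducedFunctor W (S ⊓ 𝐍 U))) ≤ S)
      have h9 := ih _ (by omega) _ rfl
        (mt cj_eq_bot_iff.1 (cf_ne_bot hcf h2.isP (hE.inf_normalizer_ne_bot hU))) h4
      rw [← cj_normalizer] at h9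
      exact h9.of_map_inj (conj_injective' k)
    refine fun x _ y _ e1 e2 => by_contra fun x1 => ?_
    obtain ⟨g, -, hg⟩ := hS.exists_cj_le (isPGroup_zpowers (k := 1) (by rwa [pow_one])) le_top
    obtain ⟨k, -, h1, -⟩ := exists_ext hS hg
    have h2 := key _ _ rfl (mt cj_eq_bot_iff.1 (mt cj_eq_bot_iff.1 (mt zpowers_eq_bot.1 x1))) h1
    rw [← cj_mul, ← cj_normalizer] at h2
    exact x1 (h2.of_map_inj (conj_injective' _) x (le_normalizer (mem_zpowers x)) y
      (cj_eq_iff.1 (by rw [cj_zpowers, e2, zpowers_inv])) e1 e2)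
  by_cases hO : pPrimeCore p X = ⊥
  swap
  · have h1 := H1.coprime_card_pPrimeCore p X
    refine Rp.of_map (f := QuotientGroup.mk' (pPrimeCore p X)) ?_ fun x _ e1 e2 =>
      mem_bot.1 (inf_ker_mk'_eq_bot (isPGroup_zpowers (k := 1) (by rwa [pow_one])) h1 ▸ ⟨mem_zpowers x, e1⟩)
    refine (IH2 _ hO _ (isSyl_map_mk' hS _) ?_).mono le_top
    rw [← map_inducedFunctor' hW hS.isP _ (inf_ker_mk'_eq_bot hS.isP h1),
      ← map_mk'_normalizer_of_coprime (hS.isP.to_le (induced_le W S)) h1]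
    exact hN.map p2 _
  have hU := isPGroup_pCore p X
  have hRS : pCore p X ≤ S := hS.le_of_le_normalizer hU le_top le_normalizer_of_normal
  by_cases hSR : S ≤ pCore p X
  · exact hN.mono (((le_antisymm hRS hSR ▸ le_normalizer_of_normal : ⊤ ≤ 𝐍 S)).trans (cf_normalizer hcf hS.isP))
  have hQ : Rp p (⊤ : Subgroup (X ⧸ pCore p X)) := by
    obtain ⟨h1, h2⟩ := comap_normalizer_induced hW hS.isP hSR
    refine IH2 _ hR _ (isSyl_map_mk' hS _) ?_
    rw [← map_comap_eq_self_of_surjective (QuotientGroup.mk'_surjective _) (𝐍 _)]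
    exact (P1 _ h2 h1).map p2 _
  by_cases hC : 𝐂 (pCore p X) ≤ pCore p X
  · refine hN.mono (hloc hC hQ S hS fun H h1 h2 h3 => ?_)
    have : Fact (Nat.Prime 2) := ⟨Nat.prime_two⟩
    obtain ⟨t, ht⟩ := exists_prime_orderOf_dvd_card' 2 h3
    have h4 : (t : X) ^ 2 ^ 1 = 1 := by rw [pow_one, ← ht, ← coe_pow, pow_orderOf_eq_one, coe_one]
    obtain ⟨k, hk⟩ := isPGroup_iff_mem.1 hU _ (hC ((P1 H h1 h2).cent hU (hRS.trans h1) t.2 h4
      (le_normalizer_of_normal (mem_top _))))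
    have := eq_one_of_pow_coprime (((Nat.coprime_primes hp.out Nat.prime_two).2 p2).pow k 1) hk h4
    rw [OneMemClass.coe_eq_one.1 this, orderOf_one] at ht
    exact absurd ht (by decide)
  intro x _ g _ e1 e2
  have hx : x ∈ pCore p X := (QuotientGroup.eq_one_iff x).1 (hQ (QuotientGroup.mk' _ x) trivial (QuotientGroup.mk' _ g)
    trivial (by rw [← map_pow, e1, map_one]) (by rw [← map_inv, ← map_inv, ← map_mul, ← map_mul, e2]))
  have hT := hS.inf_of_normal (N := 𝐂 (pCore p X)) le_normalizer_of_normal le_top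
  have hn : 𝐍 (S ⊓ 𝐂 (pCore p X) : Subgroup X) ≠ ⊤ := fun e => hC (le_pCore_of_central hS hO
    (le_centralizer_iff.1 ((centralizer_le (have := normal_of_le_normalizer e.ge; le_pCore hT.isP)).trans' le_rfl)))
  obtain ⟨c, hc, n, hn', rfl⟩ := mem_sup_of_normal_left.1
    ((hT.frattini le_top le_normalizer_of_normal).ge (mem_top g))
  have hS' : S ≤ 𝐍 (S ⊓ 𝐂 (pCore p X) : Subgroup X) := le_normalizer_inf le_normalizer le_normalizer_of_normal
  refine P1 _ hS' hn x (hS' (hRS hx)) n hn'.2 e1 ?_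
  have := mem_centralizer_iff.1 hc _ ((inferInstance : (pCore p X).Normal).conj_mem x hx n)
  rw [← e2]
  calc _ = c * (n * x * n⁻¹) * c⁻¹ := by rw [← this]; group
    _ = _ := by group

theorem rz_of_sections {G : Type u} [Group G] [Finite G] (hW : IsCharPFunctor p W)
    (hloc : ∀ (Y : Type u) [Group Y] [Finite Y], Involves Y G → 𝐂 (pCore p Y) ≤ pCore p Y →
      Rp p (⊤ : Subgroup (Y ⧸ pCore p Y)) → ∀ T : Subgroup Y, IsSyl p T ⊤ →
      (∀ H, T ≤ H → H ≠ ⊤ → ¬ 2 ∣ Nat.card H) → ⊤ ≤ 𝐍 (inducedFunctor W T)) : RZ p W G :=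
  section_induction (fun Y _ => RZ p W Y) (fun _ _ _ _ _ e h => h.of_equiv p2 hW e)
    (fun K R _ IH1 IH2 => rz_step p2 hW IH1 IH2 (hloc _ (involves_section K R))) G (involves_refl G)

omit p2 in
theorem rp_of_syl [Finite G] {T : Subgroup G} (hT : IsSyl p T H)
    (h : ∀ x ∈ T, x ≠ 1 → ∀ g ∈ H, g * x * g⁻¹ ≠ x⁻¹) : Rp p H := fun x hx g hg e1 e2 => by
  obtain ⟨k, hk, e⟩ := hT.exists_cj_le (isPGroup_zpowers (k := 1) (by rwa [pow_one])) (zpowers_le.2 hx)
  refine by_contra fun x1 => h _ (e (conj_mem_cj k (mem_zpowers x))) (mt conj_eq_one_iff.1 x1) (k * g * k⁻¹)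
    (mul_mem (mul_mem hk hg) (inv_mem hk)) ?_
  calc _ = k * (g * x * g⁻¹) * k⁻¹ := by group
    _ = _ := by rw [e2]; group

omit hp p2 in
theorem two_closed [Finite G] (h : ∀ q : ℕ, q.Prime → q ≠ 2 → Rp q (⊤ : Subgroup G)) {S : Subgroup G}
    (hS : IsSyl 2 S ⊤) : S.Normal := by
  have : Fact (Nat.Prime 2) := ⟨Nat.prime_two⟩
  have hU := isPGroup_pCore 2 G
  have h1 := isSyl_map_mk' hS (pCore 2 G)
  rw [le_antisymm (show S ≤ pCore 2 G from by_contra fun hn => ?_)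
    (hS.le_of_le_normalizer hU le_top le_normalizer_of_normal)]
  · infer_instance
  obtain ⟨t, ht⟩ := exists_prime_orderOf_dvd_card' (G := G ⧸ pCore 2 G) 2 ((dvd_card_of_ne_bot h1.isP fun e => hn (by
    rwa [Subgroup.map_eq_bot_iff, QuotientGroup.ker_mk'] at e)).trans (card_subgroup_dvd_card _))
  obtain ⟨y, y1, o, e⟩ := H9.exists_odd_inverted ht fun e => by
    rw [mem_bot.1 (H1.eq_bot_of_pCore_eq_bot (H1.pCore_quotient_eq_bot 2 G) e ▸ subset_normalClosure rfl :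
      t ∈ (⊥ : Subgroup _)), orderOf_one] at ht
    exact absurd ht (by decide)
  obtain ⟨q, hq, hd⟩ := Nat.exists_prime_and_dvd (mt orderOf_eq_one_iff.1 y1)
  have q2 : q ≠ 2 := fun e => o.not_two_dvd_nat (e ▸ hd)
  have : Fact q.Prime := ⟨hq⟩
  have := (h q hq q2).map q2 (QuotientGroup.mk' (pCore 2 G))
  rw [map_top_of_surjective _ (QuotientGroup.mk'_surjective _)] at this
  have o := orderOf_pow_orderOf_div (orderOf_pos y).ne' hd
  have := this (y ^ (orderOf y / q)) trivial t trivial (orderOf_dvd_iff_pow_eq_one.1 o.dvd)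
    (by rw [← conj_pow, e, inv_pow])
  exact hq.ne_one (by rw [← o, this, orderOf_one])

end H27
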